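import Groth.Agent.Unr55.FrobSemi
import Mathlib.FieldTheory.PurelyInseparable.Basic
import Mathlib.FieldTheory.IsAlgClosed.AlgebraicClosure

/-! `F - 1` is surjective on finite dimensional spaces over separably closed fields. -/

set_option autoImplicit false
set_option linter.style.haveILetI false
universe u

namespace Groth.Agent.HTop50.FrobSep

variable {k V : Type u} [Field k] [IsSepClosed k] (p : ℕ) [Fact p.Prime] [CharP k p]
  [AddCommGroup V] [Module k V] [FiniteDimensional k V] (F : V →+ V)

/-- A solution over an algebraic closure of `a j = ∑ i, a i ^ p * A i j - c j` is rational. -/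
theorem exists_solution {ι : Type u} [Fintype ι] (A : ι → ι → k) (c : ι → k) :
    ∃ a : ι → k, ∀ j, ∑ i, a i ^ p * A i j - a j = c j := by
  classical
  let K := AlgebraicClosure k
  let η := algebraMap k K
  haveI : CharP K p := charP_of_injective_algebraMap η.injective p
  haveI : ExpChar K p := .prime Fact.out
  haveI : ExpChar k p := .prime Fact.out
  let G : (ι → K) →+ (ι → K) :=
    { toFun := fun x j => ∑ i, x i ^ p * η (A i j)
      map_zero' := funext fun j => Finset.sum_eq_zero fun i _ => by
        simp [zero_pow (Fact.out : p.Prime).ne_zero]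
      map_add' := fun x y => funext fun j => by
        simp [add_pow_expChar, add_mul, Finset.sum_add_distrib] }
  have hG : ∀ (d : K) (x : ι → K), G (d • x) = d ^ p • G x := fun d x => funext fun j => by
    simp [G, mul_pow, mul_assoc, ← Finset.mul_sum]
  obtain ⟨x, hx⟩ := Unr55.FrobSemi.surjective_sub_id p G hG (fun j => η (c j))
  have hx' : ∀ j, x j = ∑ i, x i ^ p * η (A i j) - η (c j) := fun j => by
    have h := congrFun hx j
    simp only [Pi.sub_apply, G, AddMonoidHom.coe_mk, ZeroHom.coe_mk] at h
    rw [← h]; abel
  haveI : IsPurelyInseparable k K := Algebra.IsAlgebraic.isPurelyInseparable_of_isSepClosed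
  choose N hN using fun i => IsPurelyInseparable.pow_mem k p (x i)
  have hmono : ∀ {y : K} {m n : ℕ}, m ≤ n → y ^ p ^ m ∈ η.range → y ^ p ^ n ∈ η.range := by
    intro y m n hmn hy
    obtain ⟨d, rfl⟩ := Nat.exists_eq_add_of_le hmn
    rw [pow_add, pow_mul]
    exact pow_mem hy _
  have hall : ∀ n, (∀ i, x i ^ p ^ n ∈ η.range) → ∀ i, x i ∈ η.range := by
    intro n
    induction n with
    | zero => intro h i; simpa using h i
    | succ n ih =>
      intro h
      refine ih fun j => ?_
      rw [hx' j, sub_pow_expChar_pow, sum_pow_char_pow]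
      refine sub_mem (sum_mem fun i _ => ?_) (pow_mem (η.mem_range_self (c j)) _)
      rw [mul_pow, ← pow_mul, ← pow_succ']
      exact mul_mem (h i) (pow_mem (η.mem_range_self (A i j)) _)
  choose a ha using hall (Finset.univ.sup N) fun i =>
    hmono (Finset.le_sup (Finset.mem_univ i)) (hN i)
  refine ⟨a, fun j => η.injective ?_⟩
  simp only [map_sub, map_sum, map_mul, map_pow]
  have : ∀ i, η (a i) = x i := ha
  simp only [this]
  rw [hx' j]; simp

theorem surjective_sub_id (hF : ∀ (c : k) (v : V), F (c • v) = c ^ p • F v) :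
    Function.Surjective fun v => F v - v := by
  classical
  intro y
  let b := Module.Free.chooseBasis k V
  obtain ⟨a, ha⟩ := exists_solution p (fun i j => b.repr (F (b i)) j) (fun j => b.repr y j)
  refine ⟨∑ i, a i • b i, b.ext_elem fun j => ?_⟩
  show b.repr (F (∑ i, a i • b i) - ∑ i, a i • b i) j = _
  rw [← ha j, map_sub, Finsupp.sub_apply, map_sum, b.repr_sum_self, map_sum, Finsupp.finsetSum_apply]
  simp [hF]

end Groth.Agent.HTop50.FrobSep
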