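import Groth.Agent.Unr55.Et.ASFinite
import Groth.Agent.HTop50.FrobSep

/-!
Artin–Schreier on the cohomology of schemes proper over separably closed fields: surjectivity
and the bound on the kernel.
-/

set_option autoImplicit false
set_option backward.isDefEq.respectTransparency.types false
universe u

open CategoryTheory CategoryTheory.Limits AlgebraicGeometry Opposite TopologicalSpace CategoryTheory.Abelian

namespace Groth.Agent.HTop50.AS

open Groth.Agent.Sga84 Groth.Agent.Unr55 Groth.Agent.Unr55.EtAS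

theorem finite_card_of_mapsTo {A B : Type*} (e : A → B) (he : Function.Injective e) {S : Set A}
    {T : Set B} (h : ∀ x ∈ S, e x ∈ T) (hT : T.Finite) : S.Finite ∧ Nat.card S ≤ Nat.card T := by
  have := hT.to_subtype
  exact ⟨(hT.preimage he.injOn).subset h,
    Nat.card_le_card_of_injective (fun x => (⟨e x.1, h x.1 x.2⟩ : T))
      fun a b hab => Subtype.ext (he (congrArg Subtype.val hab))⟩

variable {X : Scheme.{u}} {p : ℕ} [Fact p.Prime] (hp : (p : Γ(X, ⊤)) = 0)
  {k : Type u} [Field k] [IsSepClosed k] [CharP k p]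
  [X.Over (Spec (CommRingCat.of k))] [IsProper (X ↘ Spec (CommRingCat.of k))]

theorem card_and_surjective (q : ℕ) :
    (Set.Finite {x : EtCoh.H X (EtCoh.Ga X) q | x.comp (Ext.mk₀ (phi hp)) (add_zero q) = 0} ∧
      Nat.card {x : EtCoh.H X (EtCoh.Ga X) q | x.comp (Ext.mk₀ (phi hp)) (add_zero q) = 0} ≤
        p ^ Module.finrank k (Coh.HH X (Coh.structureModule X) q)) ∧
      Function.Surjective fun x : EtCoh.H X (EtCoh.Ga X) q => x.comp (Ext.mk₀ (phi hp)) (add_zero q) := by
  let V := Coh.HH X (Coh.structureModule X) q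
  have : Module.Finite k V :=
    Serre71.finite_hh_of_isProper k (Coh.structureModule X) Crv77.isCoh_structureModule q
  let F : V →+ V := Sheaf.H.map (frobO hp) q
  have hF : ∀ (c : k) (v : V), F (c • v) = c ^ p • F v := fun c v => by
    let a := Coh.toGlobal (X ↘ Spec (CommRingCat.of k)) c
    have ha : Coh.toGlobal (X ↘ Spec (CommRingCat.of k)) (c ^ p) = a ^ p := map_pow _ c p
    rw [Crv77.smul_eq_map, Crv77.smul_eq_map, ha]
    change Sheaf.H.map (frobO hp) q (Sheaf.H.map (Coh.smulAb (Coh.structureModule X) a) q v) =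
      Sheaf.H.map (Coh.smulAb (Coh.structureModule X) (a ^ p)) q (Sheaf.H.map (frobO hp) q v)
    rw [← Sheaf.H.map_comp_apply, ← Sheaf.H.map_comp_apply, frobO_semilinear]
  have hphi : ∀ v : V, v.comp (Ext.mk₀ (phiO hp)) (add_zero q) = F v - v := fun v => by
    have h := Sheaf.H.map_add_apply (phiO hp) (𝟙 _) (n := q) v
    rw [show phiO hp + 𝟙 _ = frobO hp from sub_add_cancel _ _, Sheaf.H.map_id_apply] at h
    exact eq_sub_of_add_eq h.symm
  obtain ⟨ε, hε⟩ := GaZar.H_Ga_equiv_end X q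
  have key : ∀ x, ε (x.comp (Ext.mk₀ (phi hp)) (add_zero q)) = F (ε x) - ε x := fun x =>
    (hε _ _ (resGaIso_phi hp) x).trans (hphi _)
  refine ⟨?_, fun y => ?_⟩
  · have hfix : ∀ x ∈ {x : EtCoh.H X (EtCoh.Ga X) q | x.comp (Ext.mk₀ (phi hp)) (add_zero q) = 0},
        ε x ∈ {v : V | F v = v} := fun x hx => by
      have h := key x
      rw [show x.comp (Ext.mk₀ (phi hp)) (add_zero q) = 0 from hx, map_zero] at h
      exact sub_eq_zero.1 h.symm
    obtain ⟨h1, h2⟩ := FrobSemi.finite_fixed p F hF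
    have h3 := finite_card_of_mapsTo (fun x => ε x) ε.injective hfix h1
    exact ⟨h3.1, h3.2.trans h2⟩
  · obtain ⟨v, hv⟩ := FrobSep.surjective_sub_id p F hF (ε y)
    obtain ⟨x, rfl⟩ := ε.surjective v
    exact ⟨x, ε.injective ((key x).trans hv)⟩

include hp in
theorem card_H_const (q : ℕ) :
    Finite (EtCoh.H X (EtCoh.const X (ZMod p)) q) ∧
      Nat.card (EtCoh.H X (EtCoh.const X (ZMod p)) q) ≤
        p ^ Module.finrank k (Coh.HH X (Coh.structureModule X) q) := by
  have hS := shortExact_seq hp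
  obtain ⟨⟨hfin, hcard⟩, -⟩ := card_and_surjective hp (k := k) q
  let g : EtCoh.H X (EtCoh.const X (ZMod p)) q →+ EtCoh.H X (EtCoh.Ga X) q :=
    (Ext.mk₀ (iota hp)).postcomp _ (add_zero q)
  have hg : Function.Injective g := by
    rw [injective_iff_map_eq_zero]
    intro x hx
    cases q with
    | zero =>
      obtain ⟨c, rfl⟩ := (Ext.mk₀_bijective _ _).2 x
      have : Mono (iota hp) := hS.mono_f
      change (Ext.mk₀ c).comp (Ext.mk₀ (iota hp)) (add_zero 0) = 0 at hx
      rw [Ext.mk₀_comp_mk₀] at hx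
      rw [show c = 0 from (cancel_mono (iota hp)).1 (((Ext.mk₀_bijective _ _).1 (hx.trans (Ext.mk₀_zero _ _).symm)).trans zero_comp.symm),
        Ext.mk₀_zero]
    | succ q =>
      obtain ⟨y, rfl⟩ := Ext.covariant_sequence_exact₁ _ hS x hx rfl
      obtain ⟨z, rfl⟩ := (card_and_surjective hp (k := k) q).2 y
      change (z.comp (Ext.mk₀ (seq hp).g) (add_zero q)).comp hS.extClass rfl = 0
      rw [Ext.comp_assoc_of_second_deg_zero, hS.comp_extClass, Ext.comp_zero]
  have hmem : ∀ x, g x ∈ {x : EtCoh.H X (EtCoh.Ga X) q |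
      x.comp (Ext.mk₀ (phi hp)) (add_zero q) = 0} := fun x => by
    change (x.comp (Ext.mk₀ (iota hp)) (add_zero q)).comp (Ext.mk₀ (phi hp)) (add_zero q) = 0
    rw [Ext.comp_assoc_of_second_deg_zero, Ext.mk₀_comp_mk₀, (seq hp).zero, Ext.mk₀_zero, Ext.comp_zero]
  have := hfin.to_subtype
  refine ⟨finite_of_injOn g hg hfin hmem, ?_⟩
  exact (Nat.card_le_card_of_injective
    (fun x => (⟨g x, hmem x⟩ : {x : EtCoh.H X (EtCoh.Ga X) q |
      x.comp (Ext.mk₀ (phi hp)) (add_zero q) = 0}))
    fun a b h => hg (congrArg Subtype.val h)).trans hcard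

end Groth.Agent.HTop50.AS
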