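import Mathlib.AlgebraicGeometry.Sites.Fpqc
import Mathlib.AlgebraicGeometry.AffineScheme
import Mathlib.Algebra.Polynomial.Eval.Defs

/-! Morphisms into affine schemes and global sections as a sheaf. -/

set_option autoImplicit false

universe u

open CategoryTheory AlgebraicGeometry Opposite

namespace Groth.Agent.HTop50

/-- The morphism into an affine scheme given by a map of global sections. -/
noncomputable def toAff {W U : Scheme.{u}} [IsAffine U] (γ : Γ(U, ⊤) →+* Γ(W, ⊤)) : W ⟶ U :=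
  W.toSpecΓ ≫ Spec.map (CommRingCat.ofHom γ) ≫ U.isoSpec.inv

theorem appTop_toAff {W U : Scheme.{u}} [IsAffine U] (γ : Γ(U, ⊤) →+* Γ(W, ⊤)) :
    (toAff γ).appTop.hom = γ := by
  have h : (toAff γ).appTop = CommRingCat.ofHom γ := by
    have h2 : U.isoSpec.inv.appTop = (Scheme.ΓSpecIso Γ(U, ⊤)).inv := by
      have h3 : U.isoSpec.hom.appTop = (Scheme.ΓSpecIso Γ(U, ⊤)).hom := Scheme.toSpecΓ_appTop U
      rw [← cancel_mono (Scheme.ΓSpecIso Γ(U, ⊤)).hom, Iso.inv_hom_id, ← h3, ← Scheme.Hom.comp_appTop,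
        Iso.hom_inv_id, Scheme.Hom.id_appTop]
    rw [toAff, Scheme.Hom.comp_appTop, Scheme.Hom.comp_appTop, Scheme.toSpecΓ_appTop, h2, Category.assoc,
      Scheme.ΓSpecIso_naturality]
    exact (Scheme.ΓSpecIso Γ(U, ⊤)).inv_hom_id_assoc _
  exact congrArg CommRingCat.Hom.hom h

theorem hom_ext_appTop {W U : Scheme.{u}} [IsAffine U] {f g : W ⟶ U}
    (h : f.appTop.hom = g.appTop.hom) : f = g :=
  ext_of_isAffine (CommRingCat.hom_ext h)

theorem comp_appTop_hom {W V U : Scheme.{u}} (f : W ⟶ V) (g : V ⟶ U) :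
    (f ≫ g).appTop.hom = f.appTop.hom.comp g.appTop.hom := by
  rw [Scheme.Hom.comp_appTop, CommRingCat.hom_comp]

/-- The map from the spectrum of an algebra over the functions of an affine scheme. -/
noncomputable def specTo {U : Scheme.{u}} [IsAffine U] {B : Type u} [CommRing B]
    (φ : Γ(U, ⊤) →+* B) : Spec (CommRingCat.of B) ⟶ U :=
  toAff ((Scheme.ΓSpecIso (CommRingCat.of B)).inv.hom.comp φ)

/-- The affine line. -/
noncomputable abbrev affineLine : Scheme.{u} := Spec (CommRingCat.of (Polynomial (ULift.{u} ℤ)))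

/-- A function as a map to the affine line. -/
noncomputable def toLine (X : Scheme.{u}) (x : Γ(X, ⊤)) : X ⟶ affineLine.{u} :=
  toAff ((Polynomial.eval₂RingHom ((Int.castRingHom Γ(X, ⊤)).comp ULift.ringEquiv.toRingHom) x).comp
    (Scheme.ΓSpecIso _).hom.hom)

/-- The function of a map to the affine line. -/
noncomputable def ofLine {X : Scheme.{u}} (h : X ⟶ affineLine.{u}) : Γ(X, ⊤) :=
  h.appTop.hom ((Scheme.ΓSpecIso _).inv.hom Polynomial.X)

theorem ofLine_toLine (X : Scheme.{u}) (x : Γ(X, ⊤)) : ofLine (toLine X x) = x := by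
  rw [ofLine, toLine, appTop_toAff, RingHom.comp_apply]
  rw [show ∀ z, (Scheme.ΓSpecIso (CommRingCat.of (Polynomial (ULift.{u} ℤ)))).hom.hom
    ((Scheme.ΓSpecIso (CommRingCat.of (Polynomial (ULift.{u} ℤ)))).inv.hom z) = z from fun z =>
    (Scheme.ΓSpecIso (CommRingCat.of (Polynomial (ULift.{u} ℤ)))).inv_hom_id_apply z]
  exact Polynomial.eval₂_X _ _

theorem ofLine_injective {X : Scheme.{u}} {h h' : X ⟶ affineLine.{u}} (e : ofLine h = ofLine h') :
    h = h' := by
  refine hom_ext_appTop (RingHom.ext fun z => ?_)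
  obtain ⟨z, rfl⟩ := (Scheme.ΓSpecIso _).symm.commRingCatIsoToRingEquiv.surjective z
  have key : h.appTop.hom.comp (Scheme.ΓSpecIso _).inv.hom = h'.appTop.hom.comp (Scheme.ΓSpecIso _).inv.hom :=
    Polynomial.ringHom_ext' (RingHom.ext_int
      (((h.appTop.hom.comp (Scheme.ΓSpecIso _).inv.hom).comp Polynomial.C).comp ULift.ringEquiv.symm.toRingHom)
      (((h'.appTop.hom.comp (Scheme.ΓSpecIso _).inv.hom).comp Polynomial.C).comp ULift.ringEquiv.symm.toRingHom)
      |> fun e => RingHom.ext fun a => RingHom.congr_fun e a.down) e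
  exact RingHom.congr_fun key z

theorem ofLine_comp {X Y : Scheme.{u}} (k : Y ⟶ X) (h : X ⟶ affineLine.{u}) :
    ofLine (k ≫ h) = k.appTop.hom (ofLine h) := by
  rw [ofLine, ofLine, comp_appTop_hom]; rfl

/-- Functions are a sheaf for the fpqc topology. -/
theorem existsUnique_section {X : Scheme.{u}} {R : Sieve X} (hR : R ∈ Scheme.fpqcTopology X)
    (y : ∀ ⦃W : Scheme.{u}⦄ (k : W ⟶ X), R k → Γ(W, ⊤))
    (hy : ∀ ⦃W W' : Scheme.{u}⦄ (b : W' ⟶ W) (k : W ⟶ X) (hk : R k),
      y (b ≫ k) (R.downward_closed hk b) = b.appTop.hom (y k hk)) :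
    ∃! s : Γ(X, ⊤), ∀ ⦃W : Scheme.{u}⦄ (k : W ⟶ X) (hk : R k), k.appTop.hom s = y k hk := by
  have hsh : Presieve.IsSheafFor (yoneda.obj affineLine.{u}) (R : Presieve X) :=
    GrothendieckTopology.Subcanonical.isSheaf_of_isRepresentable (J := Scheme.fpqcTopology)
      (yoneda.obj affineLine.{u}) R hR
  let fam : Presieve.FamilyOfElements (yoneda.obj affineLine.{u}) (R : Presieve X) :=
    fun W k hk => toLine W (y k hk)
  have hfam : fam.Compatible := by
    rw [Presieve.compatible_iff_sieveCompatible]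
    intro W W' k b hk
    apply ofLine_injective
    show ofLine (toLine W' (y (b ≫ k) _)) = ofLine (b ≫ toLine W (y k hk))
    rw [ofLine_toLine, ofLine_comp, ofLine_toLine, hy]
  obtain ⟨h, hh, hu⟩ := hsh fam hfam
  refine ⟨ofLine h, fun W k hk => ?_, fun s hs => ?_⟩
  · rw [← ofLine_comp, show k ≫ h = toLine W (y k hk) from hh k hk, ofLine_toLine]
  · rw [← hu (toLine X s) fun W k hk => ofLine_injective ?_, ofLine_toLine]
    show ofLine (k ≫ toLine X s) = ofLine (toLine W (y k hk))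
    rw [ofLine_comp, ofLine_toLine, ofLine_toLine, hs]

end Groth.Agent.HTop50
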