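import Groth.Agent.HTop50.PhCover
import Groth.Agent.S12442
import Groth.Prelude.Def_HTop3
import Mathlib.CategoryTheory.Sites.Over

/-! Sheaves turn the squares of abstract blow ups into cartesian squares of sets of sections. -/

set_option autoImplicit false
set_option linter.style.haveILetI false

universe w w' u

open CategoryTheory CategoryTheory.Limits AlgebraicGeometry Opposite

namespace Groth.Agent.HTop50

/-- The family of two morphisms with the same target. -/
@[reducible]
def pairFam {A B X : Scheme.{u}} (a : A ⟶ X) (b : B ⟶ X) : PreZeroHypercover.{0} X where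
  I₀ := Bool
  X c := cond c A B
  f c := match c with
    | true => a
    | false => b

theorem isVCover_of_isPhCover {T : Scheme.{u}} {E : PreZeroHypercover.{w} T} (h : HTop.IsPhCover E) :
    HTop.IsVCover E := fun U => by
  obtain ⟨F, hF, hFE⟩ := h.2 U
  exact ⟨F, VCov93.isStandardV_of_isStandardPh hF, hFE⟩

theorem globRef_pairFam {A B X : Scheme.{u}} (a : A ⟶ X) (b : B ⟶ X) [IsProper a] [IsProper b]
    (hc : ∀ x, x ∈ Set.range a ∨ x ∈ Set.range b) : GlobRef (pairFam a b) := by
  refine ⟨A ⨿ B, coprod.desc a b, isProper_coprodDesc a b, ⟨fun x => ?_⟩, fun p => ?_⟩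
  · rcases hc x with ⟨y, rfl⟩ | ⟨y, rfl⟩
    · exact ⟨(coprod.inl : A ⟶ A ⨿ B) y, by rw [← Scheme.Hom.comp_apply, coprod.inl_desc]⟩
    · exact ⟨(coprod.inr : B ⟶ A ⨿ B) y, by rw [← Scheme.Hom.comp_apply, coprod.inr_desc]⟩
  · obtain ⟨s | s, rfl⟩ := (coprodMk A B).surjective p
    · exact ⟨A, coprod.inl, true, 𝟙 A, inferInstance, ⟨s, (coprodMk_inl A B s).symm⟩, (Category.id_comp a).trans (coprod.inl_desc a b).symm⟩
    · exact ⟨B, coprod.inr, false, 𝟙 B, inferInstance, ⟨s, (coprodMk_inr A B s).symm⟩, (Category.id_comp b).trans (coprod.inr_desc a b).symm⟩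

theorem pairFam_mem_ph {A B X : Scheme.{u}} (a : A ⟶ X) (b : B ⟶ X) [IsProper a] [IsProper b]
    (hc : ∀ x, x ∈ Set.range a ∨ x ∈ Set.range b) :
    Sieve.generate (pairFam a b).presieve₀ ∈ HTop.phTopology X := by
  refine Precoverage.generate_mem_toGrothendieck ((HTop.presieve₀_mem_phPrecoverage_iff _).2 ?_)
  refine isPhCover_iff_locRef.2 ⟨fun c => ?_, (globRef_pairFam a b hc).locRef⟩
  cases c
  · exact inferInstanceAs (LocallyOfFiniteType b)
  · exact inferInstanceAs (LocallyOfFiniteType a)

theorem pairFam_mem_h {A B X : Scheme.{u}} (a : A ⟶ X) (b : B ⟶ X) [IsProper a] [IsProper b]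
    [LocallyOfFinitePresentation a] [LocallyOfFinitePresentation b]
    (hc : ∀ x, x ∈ Set.range a ∨ x ∈ Set.range b) :
    Sieve.generate (pairFam a b).presieve₀ ∈ HTop.hTopology X := by
  refine Precoverage.generate_mem_toGrothendieck ((HTop.presieve₀_mem_hPrecoverage_iff _).2 ⟨?_, ?_⟩)
  · intro c
    cases c
    · exact inferInstanceAs (LocallyOfFinitePresentation b)
    · exact inferInstanceAs (LocallyOfFinitePresentation a)
  · refine isVCover_of_isPhCover (isPhCover_iff_locRef.2 ⟨fun c => ?_, (globRef_pairFam a b hc).locRef⟩)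
    cases c
    · exact inferInstanceAs (LocallyOfFiniteType b)
    · exact inferInstanceAs (LocallyOfFiniteType a)

/-- A sheaf turns a square whose two legs cover, together with their self-products, into a cartesian
square of sections. -/
theorem cartesian {J : GrothendieckTopology Scheme.{u}} {S : Scheme.{u}} {F : (Over S)ᵒᵖ ⥤ Type w}
    (hF : Presieve.IsSheaf (J.over S) F) {E Z X' X : Over S} (e : E ⟶ X') (π : E ⟶ Z) (b : X' ⟶ X)
    (i : Z ⟶ X) [Mono i.left] (hsq : IsPullback e.left π.left b.left i.left)
    (hcov : Sieve.generate (pairFam b.left i.left).presieve₀ ∈ J X.left)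
    (hdiag : Sieve.generate (pairFam (pullback.diagonal b.left)
      (pullback.fst (pullback.fst b.left b.left ≫ b.left) i.left)).presieve₀ ∈
        J (pullback b.left b.left))
    (t : F.obj (op Z)) (s' : F.obj (op X')) (hts : F.map π.op t = F.map e.op s') :
    ∃! s : F.obj (op X), F.map i.op s = t ∧ F.map b.op s = s' := by
  let Y : Bool → Over S := fun c => cond c X' Z
  let f : ∀ c, Y c ⟶ X := fun c => match c with
    | true => b
    | false => i
  have hmem : Sieve.generate (Presieve.ofArrows Y f) ∈ (J.over S) X := by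
    rw [GrothendieckTopology.mem_over_iff, Sieve.overEquiv_generate]
    refine J.superset_covering (Sieve.generate_mono ?_) hcov
    rintro W g ⟨c⟩
    cases c
    · exact ⟨Z, i, 𝟙 _, Presieve.ofArrows.mk false, (Category.id_comp _).symm⟩
    · exact ⟨X', b, 𝟙 _, Presieve.ofArrows.mk true, (Category.id_comp _).symm⟩
  have hsh : Presieve.IsSheafFor F (Presieve.ofArrows Y f) :=
    (Presieve.isSheafFor_iff_generate _).2 (hF _ hmem)
  have hlift : ∀ {W : Over S} (k : W ⟶ X') (z : W ⟶ Z), k ≫ b = z ≫ i →
      F.map k.op s' = F.map z.op t := by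
    intro W k z hk
    have hk' : k.left ≫ b.left = z.left ≫ i.left := congrArg CommaMorphism.left hk
    let c : W ⟶ E := Over.homMk (hsq.lift k.left z.left hk') (by
      rw [← Over.w e, ← Category.assoc, hsq.lift_fst, Over.w])
    have h1 : c ≫ e = k := Over.OverMorphism.ext (hsq.lift_fst _ _ _)
    have h2 : c ≫ π = z := Over.OverMorphism.ext (hsq.lift_snd _ _ _)
    rw [← h1, ← h2, op_comp, op_comp, Functor.map_comp_apply, Functor.map_comp_apply, hts]
  let x : ∀ c, F.obj (op (Y c)) := fun c => match c with
    | true => s'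
    | false => t
  have hx : Presieve.Arrows.Compatible F f x := by
    intro c c' W k k' hk
    cases c <;> cases c'
    · change k ≫ i = k' ≫ i at hk
      have : k = k' := Over.OverMorphism.ext
        ((cancel_mono i.left).1 (congrArg CommaMorphism.left hk))
      rw [this]
    · exact (hlift k' k hk.symm).symm
    · exact hlift k k' hk
    · change k ≫ b = k' ≫ b at hk
      have hk' : k.left ≫ b.left = k'.left ≫ b.left := congrArg CommaMorphism.left hk
      let l : W.left ⟶ pullback b.left b.left := pullback.lift k.left k'.left hk'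
      refine (hF.isSeparated ((Sieve.overEquiv W).symm ((Sieve.generate (pairFam
        (pullback.diagonal b.left)
        (pullback.fst (pullback.fst b.left b.left ≫ b.left) i.left)).presieve₀).pullback l))
        (J.overEquiv_symm_mem_over W _ (J.pullback_stable l hdiag))).ext ?_
      intro W' h hh
      rw [Sieve.overEquiv_symm_iff] at hh
      obtain ⟨_, a, _, ⟨d⟩, hd⟩ := hh
      show F.map h.op (F.map k.op s') = F.map h.op (F.map k'.op s')
      rw [← Functor.map_comp_apply, ← Functor.map_comp_apply, ← op_comp, ← op_comp]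
      cases d
      · let a' : W'.left ⟶ pullback (pullback.fst b.left b.left ≫ b.left) i.left := a
        have hd' : a' ≫ pullback.fst _ i.left = h.left ≫ l := hd
        have hkz : (h ≫ k).left ≫ b.left = (a' ≫ pullback.snd _ _) ≫ i.left := by
          rw [Category.assoc, ← pullback.condition, reassoc_of% hd', Over.comp_left, Category.assoc,
            pullback.lift_fst_assoc]
        let z : W' ⟶ Z := Over.homMk (a' ≫ pullback.snd _ _) (by
          rw [← Over.w i, ← Category.assoc, ← hkz, Category.assoc, Over.w b]; exact Over.w (h ≫ k))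
        refine (hlift (h ≫ k) z (Over.OverMorphism.ext hkz)).trans
          (hlift (h ≫ k') z (Over.OverMorphism.ext ?_)).symm
        show (h.left ≫ k'.left) ≫ b.left = (a' ≫ pullback.snd _ _) ≫ i.left
        rw [← hkz, Over.comp_left, Category.assoc, Category.assoc, hk']
      · let a' : W'.left ⟶ X'.left := a
        have hd' : a' ≫ pullback.diagonal b.left = h.left ≫ l := hd
        have h1 : a' = h.left ≫ k.left := by
          rw [← Category.comp_id a', ← pullback.diagonal_fst b.left, ← Category.assoc, hd',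
            Category.assoc]
          exact congrArg _ (pullback.lift_fst _ _ _)
        have h2 : a' = h.left ≫ k'.left := by
          rw [← Category.comp_id a', ← pullback.diagonal_snd b.left, ← Category.assoc, hd',
            Category.assoc]
          exact congrArg _ (pullback.lift_snd _ _ _)
        rw [show h ≫ k = h ≫ k' from Over.OverMorphism.ext (h1.symm.trans h2)]
  obtain ⟨s, hs, hu⟩ := (Presieve.isSheafFor_arrows_iff _ _).1 hsh x hx
  refine ⟨s, ⟨hs false, hs true⟩, fun y hy => hu y fun c => ?_⟩
  cases c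
  · exact hy.1
  · exact hy.2

/-- The diagonal and the part over the centre cover the self-product of a morphism which is an
isomorphism away from the centre. -/
theorem diag_cover {Z X' X : Scheme.{u}} (b : X' ⟶ X) (i : Z ⟶ X) (U : X.Opens)
    (hU : ∀ x, x ∈ U ∨ x ∈ Set.range i) [IsIso (b ∣_ U)] (p : ↥(pullback b b)) :
    p ∈ Set.range (pullback.diagonal b) ∨
      p ∈ Set.range (pullback.fst (pullback.fst b b ≫ b) i) := by
  let q := pullback.fst b b ≫ b
  rcases hU (q p) with h | ⟨z, hz⟩
  · left
    let V := q ⁻¹ᵁ U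
    let l₁ := IsOpenImmersion.lift (b ⁻¹ᵁ U).ι (V.ι ≫ pullback.fst b b) (by
      rw [Scheme.Opens.range_ι]
      rintro _ ⟨v, rfl⟩
      exact v.2)
    let l₂ := IsOpenImmersion.lift (b ⁻¹ᵁ U).ι (V.ι ≫ pullback.snd b b) (by
      rw [Scheme.Opens.range_ι]
      rintro _ ⟨v, rfl⟩
      show (V.ι ≫ pullback.snd b b ≫ b) v ∈ U
      rw [← pullback.condition]
      exact v.2)
    have e : l₁ = l₂ := by
      rw [← cancel_mono (b ∣_ U), ← cancel_mono U.ι]
      simp only [Category.assoc, morphismRestrict_ι, l₁, l₂, IsOpenImmersion.lift_fac_assoc,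
        pullback.condition]
    have e' : V.ι ≫ pullback.fst b b = V.ι ≫ pullback.snd b b := by
      simpa [l₁, l₂] using congrArg (· ≫ (b ⁻¹ᵁ U).ι) e
    have hfac : (V.ι ≫ pullback.fst b b) ≫ pullback.diagonal b = V.ι := by
      apply pullback.hom_ext
      · simp
      · simp [e']
    refine ⟨(V.ι ≫ pullback.fst b b) ⟨p, h⟩, ?_⟩
    rw [← Scheme.Hom.comp_apply, hfac]
    rfl
  · right
    obtain ⟨w, hw, -⟩ := Scheme.Pullback.exists_preimage_pullback (f := q) (g := i) p z hz.symm
    exact ⟨w, hw⟩

/-- A morphism which is an isomorphism over an open covers it. -/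
theorem mem_range_of_isIso_restrict {X' X : Scheme.{u}} (b : X' ⟶ X) (U : X.Opens) [IsIso (b ∣_ U)]
    {x : X} (hx : x ∈ U) : x ∈ Set.range b := by
  refine ⟨(b ⁻¹ᵁ U).ι ((inv (b ∣_ U)) ⟨x, hx⟩), ?_⟩
  rw [← Scheme.Hom.comp_apply, ← morphismRestrict_ι, ← Scheme.Hom.comp_apply, IsIso.inv_hom_id_assoc]
  rfl

theorem lfp_diagonal {X Y : Scheme.{u}} (g : X ⟶ Y) [LocallyOfFiniteType g] :
    LocallyOfFinitePresentation (pullback.diagonal g) := by
  have : LocallyOfFinitePresentation (pullback.diagonal g ≫ pullback.fst g g) := by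
    rw [pullback.diagonal_fst]; infer_instance
  exact Groth.Agent.S12442.result (pullback.diagonal g) (pullback.fst g g)

/-- h sheaves: cartesian squares from proper morphisms which are isomorphisms away from a centre. -/
theorem cartesian_h {S : Scheme.{u}} (F : HTop.ShH S) {E Z X' X : Over S} (e : E ⟶ X') (π : E ⟶ Z)
    (b : X' ⟶ X) (i : Z ⟶ X) [IsClosedImmersion i.left] [LocallyOfFinitePresentation i.left]
    [IsProper b.left] [LocallyOfFinitePresentation b.left]
    (hsq : IsPullback e.left π.left b.left i.left)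
    (U : X.left.Opens) (hU : ∀ x, x ∈ U ∨ x ∈ Set.range i.left) [IsIso (b.left ∣_ U)]
    (t : F.obj.obj (op Z)) (s' : F.obj.obj (op X')) (hts : F.obj.map π.op t = F.obj.map e.op s') :
    ∃! s : F.obj.obj (op X), F.obj.map i.op s = t ∧ F.obj.map b.op s = s' :=
  cartesian ((isSheaf_iff_isSheaf_of_type _ _).1 F.property) e π b i hsq
    (pairFam_mem_h b.left i.left fun x =>
      (hU x).imp (mem_range_of_isIso_restrict b.left U) id)
    (have := lfp_diagonal b.left; pairFam_mem_h _ _ (diag_cover b.left i.left U hU)) t s' hts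

/-- ph sheaves: cartesian squares from proper morphisms which are isomorphisms away from a centre. -/
theorem cartesian_ph {S : Scheme.{u}} (F : HTop.ShPh S) {E Z X' X : Over S} (e : E ⟶ X') (π : E ⟶ Z)
    (b : X' ⟶ X) (i : Z ⟶ X) [IsClosedImmersion i.left] [IsProper b.left]
    (hsq : IsPullback e.left π.left b.left i.left)
    (U : X.left.Opens) (hU : ∀ x, x ∈ U ∨ x ∈ Set.range i.left) [IsIso (b.left ∣_ U)]
    (t : F.obj.obj (op Z)) (s' : F.obj.obj (op X')) (hts : F.obj.map π.op t = F.obj.map e.op s') :
    ∃! s : F.obj.obj (op X), F.obj.map i.op s = t ∧ F.obj.map b.op s = s' :=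
  cartesian ((isSheaf_iff_isSheaf_of_type _ _).1 F.property) e π b i hsq
    (pairFam_mem_ph b.left i.left fun x =>
      (hU x).imp (mem_range_of_isIso_restrict b.left U) id)
    (pairFam_mem_ph _ _ (diag_cover b.left i.left U hU)) t s' hts

end Groth.Agent.HTop50
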