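import Groth.Agent.HTop50.PhRefine

/-! ph coverings are the families locally refined by proper surjective morphisms and open coverings. -/

set_option autoImplicit false
set_option linter.style.haveILetI false

universe w w' u

open CategoryTheory CategoryTheory.Limits AlgebraicGeometry Topology

namespace Groth.Agent.HTop50

variable {T : Scheme.{u}} {E : PreZeroHypercover.{w} T}

theorem globRef_of_isStandardPh {F : PreZeroHypercover.{w'} T} (h : HTop.IsStandardPh F) :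
    GlobRef F := by
  obtain ⟨-, -, -, U, f, ι, h1, h2, h3, h4, h5⟩ := h
  refine ⟨U, f, h1, h2, fun x => ?_⟩
  obtain ⟨j, hj⟩ := h5 x
  exact ⟨F.X j, ι j, j, 𝟙 _, h3 j, hj, by rw [Category.id_comp, h4]⟩

theorem globRef_of_openCover (𝒰 : T.OpenCover) : GlobRef 𝒰.toPreZeroHypercover :=
  ⟨T, 𝟙 T, inferInstance, inferInstance, fun x => by
    obtain ⟨i, y, hy⟩ := 𝒰.exists_eq x
    exact ⟨𝒰.X i, 𝒰.f i, i, 𝟙 _, 𝒰.map_prop i, ⟨y, hy⟩, by simp⟩⟩

theorem LocRef.of_refinesOver {U : Scheme.{u}} {F : PreZeroHypercover.{w'} U} (g : U ⟶ T)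
    (hF : LocRef F) (hg : HTop.RefinesOver g F E) (z : U) :
    ∃ (W : Scheme.{u}) (j : W ⟶ U) (P : Scheme.{u}) (q : P ⟶ W), IsOpenImmersion j ∧
      z ∈ Set.range j ∧ IsProper q ∧ Surjective q ∧ Factors (q ≫ j ≫ g) E := by
  obtain ⟨W, j, P, q, hj, hz, hq, hq', hf⟩ := hF z
  refine ⟨W, j, P, q, hj, hz, hq, hq', fun p => ?_⟩
  obtain ⟨O, o, k, h, ho, hp, hh⟩ := hf p
  obtain ⟨i, a, ha⟩ := hg k
  refine ⟨O, o, i, h ≫ a, ho, hp, ?_⟩
  rw [Category.assoc, ha, ← Category.assoc, hh, Category.assoc, Category.assoc]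

theorem locRef_of_isPhCover (h : HTop.IsPhCover E) : LocRef E := by
  intro z
  obtain ⟨U, hU, hzU, -⟩ := exists_isAffineOpen_mem_and_subset (U := (⊤ : T.Opens)) (x := z) trivial
  obtain ⟨F, hF, hFE⟩ := h.2 ⟨U, hU⟩
  obtain ⟨W, j, P, q, hj, ⟨a, ha⟩, hq, hq', hf⟩ :=
    LocRef.of_refinesOver U.ι (globRef_of_isStandardPh hF).locRef hFE ⟨z, hzU⟩
  exact ⟨W, j ≫ U.ι, P, q, inferInstance, ⟨a, by rw [Scheme.Hom.comp_apply, ha]; rfl⟩, hq, hq', hf⟩

theorem LocRef.pullback {T' : Scheme.{u}} (g : T' ⟶ T) (h : LocRef E) : LocRef (E.pullback₁ g) := by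
  intro z
  obtain ⟨W, j, P, q, hj, ⟨a, ha⟩, hq, hq', hf⟩ := h (g z)
  obtain ⟨z', hz', -⟩ := Scheme.Pullback.exists_preimage_pullback (f := g) (g := j) z a ha.symm
  refine ⟨Limits.pullback g j, pullback.fst g j, Limits.pullback q (pullback.snd g j),
    pullback.snd q (pullback.snd g j), inferInstance, ⟨z', hz'⟩, inferInstance, inferInstance,
    fun p => ?_⟩
  obtain ⟨O, o, i, k, ho, hp, hk⟩ := hf.comp (pullback.fst q (pullback.snd g j)) p
  refine ⟨O, o, i, pullback.lift (o ≫ pullback.snd q (pullback.snd g j) ≫ pullback.fst g j) k ?_,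
    ho, hp, pullback.lift_fst _ _ _⟩
  rw [hk]
  simp only [Category.assoc, pullback.condition, pullback.condition_assoc]

theorem GlobRef.exists_standardPh [IsAffine T] (h : GlobRef E) :
    ∃ F : PreZeroHypercover.{0} T, HTop.IsStandardPh F ∧ Nonempty (F.Hom E) := by
  classical
  obtain ⟨R, r, hr, hr', hf⟩ := h
  have : CompactSpace R := QuasiCompact.compactSpace_of_compactSpace r
  have hV : ∀ x : R, ∃ (V : R.Opens) (i : E.I₀) (a : (V : Scheme.{u}) ⟶ E.X i),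
      IsAffineOpen V ∧ x ∈ V ∧ a ≫ E.f i = V.ι ≫ r := fun x => by
    obtain ⟨O, o, i, k, ho, hx, hk⟩ := hf x
    obtain ⟨V, hVa, hxV, hVle⟩ := exists_isAffineOpen_mem_and_subset (U := o.opensRange) (x := x) hx
    have hsub : Set.range V.ι ⊆ Set.range o := by rw [Scheme.Opens.range_ι]; exact hVle
    refine ⟨V, i, IsOpenImmersion.lift o V.ι hsub ≫ k, hVa, hxV, ?_⟩
    rw [Category.assoc, hk, IsOpenImmersion.lift_fac_assoc]
  choose V i a hVa hxV ha using hV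
  obtain ⟨t, ht⟩ := isCompact_univ.elim_finite_subcover (fun x => (V x : Set R))
    (fun x => (V x).2) fun x _ => Set.mem_iUnion.2 ⟨x, hxV x⟩
  let e := t.equivFin.symm
  refine ⟨⟨Fin t.card, fun k => (V (e k) : Scheme.{u}), fun k => (V (e k)).ι ≫ r⟩,
    ⟨inferInstance, inferInstanceAs (Finite (Fin _)), fun k => hVa _, R, r, fun k => (V (e k)).ι, hr, hr',
      fun k => inferInstanceAs (IsOpenImmersion (V (e k : R)).ι), fun k => rfl, fun x => ?_⟩,
    ⟨{ s₀ := fun k => i (e k), h₀ := fun k => a (e k), w₀ := fun k => ha (e k) }⟩⟩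
  obtain ⟨b, hbt, hb⟩ := Set.mem_iUnion₂.1 (ht (Set.mem_univ x))
  refine ⟨t.equivFin ⟨b, hbt⟩, ?_⟩
  show x ∈ Set.range (V (t.equivFin.symm (t.equivFin ⟨b, hbt⟩))).ι
  rw [Scheme.Opens.range_ι, Equiv.symm_apply_apply]
  exact hb

theorem isPhCover_iff_locRef :
    HTop.IsPhCover E ↔ (∀ i, LocallyOfFiniteType (E.f i)) ∧ LocRef E := by
  refine ⟨fun h => ⟨h.1, locRef_of_isPhCover h⟩, fun ⟨h1, h2⟩ => ⟨h1, fun U => ?_⟩⟩
  have : IsAffine (U : T.Opens) := U.2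
  obtain ⟨F, hF, ⟨φ⟩⟩ := (h2.pullback (U : T.Opens).ι).globRef.exists_standardPh
  refine ⟨F, hF, fun k => ?_⟩
  let i : E.I₀ := φ.s₀ k
  let m : F.X k ⟶ Limits.pullback (U : T.Opens).ι (E.f i) := φ.h₀ k
  have e : m ≫ pullback.fst (U : T.Opens).ι (E.f i) = F.f k := φ.w₀ k
  exact ⟨i, m ≫ pullback.snd _ _, by rw [Category.assoc, ← pullback.condition, ← e, Category.assoc]⟩

theorem isPhCover_pullback {T' : Scheme.{u}} (g : T' ⟶ T) (h : HTop.IsPhCover E) :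
    HTop.IsPhCover (E.pullback₁ g) := by
  refine isPhCover_iff_locRef.2 ⟨fun i => ?_, (locRef_of_isPhCover h).pullback g⟩
  have : LocallyOfFiniteType (E.f i) := h.1 i
  exact inferInstanceAs (LocallyOfFiniteType (pullback.fst g (E.f i)))

theorem LocRef.bind {F : ∀ i, PreZeroHypercover.{w'} (E.X i)} (hE : LocRef E)
    (hF : ∀ i, LocRef (F i)) : LocRef (E.bind F) := by
  intro z
  obtain ⟨W, j, P, q, hW, hj, hz, hq, hq', hf⟩ := hE.exists_affine z
  have : CompactSpace P := QuasiCompact.compactSpace_of_compactSpace q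
  have : QuasiSeparatedSpace P := quasiSeparatedSpace_of_quasiSeparated q
  -- all maps to `P` that factor through the composite family
  let G : PreZeroHypercover.{max w w' (u + 1)} P :=
    { I₀ := ULift.{max w w' (u + 1)} {Y : Over P //
        ∃ (k : (E.bind F).I₀) (b : Y.left ⟶ (E.bind F).X k), b ≫ (E.bind F).f k = Y.hom ≫ q ≫ j}
      X := fun Y => Y.down.1.left
      f := fun Y => Y.down.1.hom }
  have hG : LocRef G := by
    intro p
    obtain ⟨O, o, i, k, ho, ⟨b, hb⟩, hk⟩ := hf p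
    obtain ⟨W', j', P', q', hj', ⟨c, hc⟩, hq2, hq2', hf'⟩ := ((hF i).pullback k) b
    refine ⟨W', j' ≫ o, P', q', inferInstance, ⟨c, by rw [Scheme.Hom.comp_apply, hc, hb]⟩, hq2, hq2',
      fun p' => ?_⟩
    obtain ⟨O', o', l, m, ho', hp', hm⟩ := hf' p'
    let m' : O' ⟶ Limits.pullback k ((F i).f l) := m
    have hm' : m' ≫ pullback.fst k ((F i).f l) = o' ≫ q' ≫ j' := hm
    let b' : O' ⟶ (E.bind F).X ⟨i, l⟩ := m' ≫ pullback.snd k ((F i).f l)
    have hb' : b' ≫ (E.bind F).f ⟨i, l⟩ = (o' ≫ q' ≫ j' ≫ o) ≫ q ≫ j := by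
      show (m' ≫ pullback.snd k ((F i).f l)) ≫ (F i).f l ≫ E.f i = _
      rw [Category.assoc, ← pullback.condition_assoc, reassoc_of% hm', hk]
      simp only [Category.assoc]
    exact ⟨O', o', ⟨⟨Over.mk (o' ≫ q' ≫ j' ≫ o), ⟨i, l⟩, b', hb'⟩⟩, 𝟙 _, ho', hp', by
      show 𝟙 _ ≫ (o' ≫ q' ≫ j' ≫ o) = o' ≫ q' ≫ j' ≫ o
      rw [Category.id_comp]⟩
  obtain ⟨R, r, hr, hr', hfr⟩ := hG.globRef
  refine ⟨W, j, R, r ≫ q, hj, hz, inferInstance, inferInstance, fun x => ?_⟩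
  obtain ⟨O, o, Y, m, ho, hx, hm⟩ := hfr x
  obtain ⟨⟨Y, k, b, hb⟩⟩ := Y
  refine ⟨O, o, k, m ≫ b, ho, hx, ?_⟩
  let m' : O ⟶ Y.left := m
  have hm' : m' ≫ Y.hom = o ≫ r := hm
  show (m' ≫ b) ≫ _ = _
  rw [Category.assoc, hb, reassoc_of% hm']
  simp only [Category.assoc]

theorem isPhCover_bind {F : ∀ i, PreZeroHypercover.{w'} (E.X i)} (hE : HTop.IsPhCover E)
    (hF : ∀ i, HTop.IsPhCover (F i)) : HTop.IsPhCover (E.bind F) := by
  refine isPhCover_iff_locRef.2 ⟨fun k => ?_,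
    (locRef_of_isPhCover hE).bind fun i => locRef_of_isPhCover (hF i)⟩
  have : LocallyOfFiniteType (E.f k.1) := hE.1 k.1
  have : LocallyOfFiniteType ((F k.1).f k.2) := (hF k.1).1 k.2
  exact inferInstanceAs (LocallyOfFiniteType ((F k.1).f k.2 ≫ E.f k.1))

end Groth.Agent.HTop50
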