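import Groth.Agent.HTop50.ValLift
import Groth.Agent.HTop50.PhCover
import Groth.Agent.HTop50.Cartesian
import Groth.Agent.VCov93.Submersive
import Mathlib.AlgebraicGeometry.Sites.Fpqc

/-! h coverings by families and by the induced map from the coproduct. -/

set_option autoImplicit false
set_option linter.style.haveILetI false

universe w w' u

open CategoryTheory CategoryTheory.Limits AlgebraicGeometry

namespace Groth.Agent.HTop50

theorem isVCover_of_refines {T : Scheme.{u}} {E : PreZeroHypercover.{w} T}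
    {G : PreZeroHypercover.{w'} T}
    (h : ∀ k, ∃ (i : E.I₀) (a : G.X k ⟶ E.X i), a ≫ E.f i = G.f k) (hG : HTop.IsVCover G) :
    HTop.IsVCover E := fun U => by
  obtain ⟨F, hF, hFG⟩ := hG U
  refine ⟨F, hF, fun j => ?_⟩
  obtain ⟨k, m, hm⟩ := hFG j
  obtain ⟨i, a, ha⟩ := h k
  exact ⟨i, m ≫ a, by rw [Category.assoc, ha, hm]⟩

theorem isVCover_iff_sigma {T : Scheme.{u}} (E : PreZeroHypercover.{u} T) :
    HTop.IsVCover E ↔ HTop.IsVCover (PreZeroHypercover.singleton.{w} (Sigma.desc E.f)) := by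
  constructor
  · intro h
    exact isVCover_of_refines (fun k => ⟨PUnit.unit, Sigma.ι E.X k, Sigma.ι_desc _ _⟩) h
  · intro h
    have hι : HTop.IsVCover (sigmaOpenCover E.X).toPreZeroHypercover :=
      VCov93.isVCover_of_fpqc
        ⟨_, Scheme.zariskiPrecoverage_le_fpqcPrecoverage _ (sigmaOpenCover E.X).mem₀⟩
    refine isVCover_of_refines ?_ (VCov93.isVCover_bind h (F := fun _ =>
      (sigmaOpenCover E.X).toPreZeroHypercover) fun _ => hι)
    rintro ⟨-, k⟩
    exact ⟨k, 𝟙 _, by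
      show 𝟙 _ ≫ E.f k = Sigma.ι E.X k ≫ Sigma.desc E.f
      rw [Category.id_comp, Sigma.ι_desc]⟩

theorem isHCover_iff_sigma {T : Scheme.{u}} (E : PreZeroHypercover.{u} T)
    (hE : ∀ i, LocallyOfFinitePresentation (E.f i)) :
    HTop.IsHCover E ↔ HTop.IsHCover (PreZeroHypercover.singleton.{w} (Sigma.desc E.f)) :=
  ⟨fun h => ⟨fun _ => IsZariskiLocalAtSource.sigmaDesc (P := @LocallyOfFinitePresentation.{u}) hE,
    (isVCover_iff_sigma E).1 h.2⟩, fun h => ⟨hE, (isVCover_iff_sigma E).2 h.2⟩⟩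

theorem lfp_of_lft {X Y : Scheme.{u}} [IsLocallyNoetherian Y] (f : X ⟶ Y) [LocallyOfFiniteType f] :
    LocallyOfFinitePresentation f :=
  E4O.locallyOfFinitePresentation_of_isLocallyNoetherian f

theorem univSubmersive_iff_isHCover {X : Scheme.{u}} [IsNoetherian X] (E : PreZeroHypercover.{u} X)
    [Finite E.I₀] [∀ i, LocallyOfFiniteType (E.f i)] [∀ i, QuasiCompact (E.f i)] :
    SGA1.UnivSubmersive (Sigma.desc E.f) ↔ HTop.IsHCover E := by
  refine ⟨fun h => ⟨fun i => lfp_of_lft (E.f i), (isVCover_iff_sigma.{0} E).2 ?_⟩,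
    fun h => VCov93.univSubmersive_sigmaDesc h.2⟩
  have : LocallyOfFiniteType (Sigma.desc E.f) :=
    IsZariskiLocalAtSource.sigmaDesc fun i => ‹∀ i, LocallyOfFiniteType (E.f i)› i
  have : ∀ i, CompactSpace (E.X i) := fun i => QuasiCompact.compactSpace_of_compactSpace (E.f i)
  have : CompactSpace ↥(∐ E.X) := ⟨by
    have hu : (Set.univ : Set ↥(∐ E.X)) = ⋃ i, Set.range (Sigma.ι E.X i) := by
      refine (Set.eq_univ_of_forall fun x => ?_).symm
      obtain ⟨i, y, hy⟩ := (sigmaOpenCover E.X).exists_eq x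
      exact Set.mem_iUnion.2 ⟨i, y, hy⟩
    rw [hu]
    exact isCompact_iUnion fun i => isCompact_range (Sigma.ι E.X i).continuous⟩
  have : QuasiCompact (Sigma.desc E.f) :=
    @QuasiCompact.of_comp _ _ _ _ (terminal.from X)
      (by rw [terminal.comp_from]; exact (quasiCompact_iff_compactSpace _).2 inferInstance) _
  exact VCov93.isVCover_of_hasValLift _ (hasValLift_of_univSubmersive _ h)

end Groth.Agent.HTop50
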