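import Groth.Agent.HTop50.AlmostBaseChange
import Groth.Agent.HTop50.Family
import Groth.Agent.RegImm10.BlowModel
import Groth.Agent.FBlow13.Exist
import Groth.Agent.LimTop61.IdealGlue
import Groth.Agent.Approx60.Absolute

/-! Almost blow up squares exist for every centre of finite presentation on a qcqs scheme. -/

set_option autoImplicit false
set_option linter.style.haveILetI false

universe u

open CategoryTheory CategoryTheory.Limits AlgebraicGeometry

namespace Groth.Agent.HTop50

/-- A blow up which is of finite presentation is an almost blow up. -/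
theorem isAlmostBlowUpSquare_of_isBlowUp {X₀ P : Scheme.{u}} (J : X₀.IdealSheafData)
    [LocallyOfFinitePresentation J.subschemeι] {b₀ : P ⟶ X₀} [IsProper b₀]
    [LocallyOfFinitePresentation b₀] (hb : BlowUp.IsBlowUp b₀ J) :
    HTop.IsAlmostBlowUpSquare (pullback.fst b₀ J.subschemeι) (pullback.snd b₀ J.subschemeι) b₀
      J.subschemeι := by
  refine ⟨inferInstance, inferInstance, IsPullback.of_hasPullback _ _, ?_, inferInstance,
    inferInstance, ?_⟩
  · rw [Scheme.IdealSheafData.ker_subschemeι]
    exact MP99.isLocPrincipal_of_isEffCartier hb.1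
  · rw [Scheme.IdealSheafData.ker_subschemeι]
    have hdom := MP99.dominant_of_isEffCartier hb.1
    have h0 : HTop.supportedOn (J.comap b₀) = ⊥ := hdom.ker_eq_bot
    have : IsIso (HTop.supportedOn (J.comap b₀)).subschemeι :=
      h0 ▸ (inferInstanceAs (IsIso (⊥ : P.IdealSheafData).subschemeι))
    exact RegImm10.BlowLocal.isBlowUp_iso_comp (asIso (HTop.supportedOn (J.comap b₀)).subschemeι) hb

/-- Existence. -/
theorem exists_isAlmostBlowUpSquare {Z X : Scheme.{u}} [CompactSpace X] [QuasiSeparatedSpace X]
    (i : Z ⟶ X) [IsClosedImmersion i] [LocallyOfFinitePresentation i] :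
    ∃ (E X' : Scheme.{u}) (e : E ⟶ X') (π : E ⟶ Z) (b : X' ⟶ X),
      HTop.IsAlmostBlowUpSquare e π b i := by
  obtain ⟨J, _, _, D, π, hD, ⟨hl⟩⟩ := Approx60.exists_approximation X
  have := hD.aff
  have := hD.compact
  have : ∀ j, LocallyOfFiniteType (Approx60.toZ (D.obj j)) := hD.lft
  have : ∀ j, QuasiSeparatedSpace (D.obj j) := fun j =>
    Approx60.quasiSeparatedSpace_of_lft_toZ (D.obj j)
  have : LocallyOfFinitePresentation i.ker.subschemeι := by
    have hk : i.ker.subschemeι.ker = i.ker := Scheme.IdealSheafData.ker_subschemeι _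
    let l := IsClosedImmersion.lift i i.ker.subschemeι hk.symm.le
    have : IsIso l := IsClosedImmersion.isIso_of_ker_eq _ _ l (IsClosedImmersion.lift_fac _ _ _) hk
    rw [← IsClosedImmersion.lift_fac i i.ker.subschemeι hk.symm.le]
    infer_instance
  obtain ⟨n, K, hK, hKc⟩ := LimTop61.exists_idealSheaf_descend D (Cone.mk X π) hl i.ker
  have := Approx60.isLocallyNoetherian_of_lft_toZ (D.obj n)
  have : IsNoetherian (D.obj n) := ⟨⟩
  obtain ⟨P, b₀, hb⟩ := FBlow13.exists_isBlowUp_scheme (D.obj n) K
  have hft : BlowUp.IsFiniteTypeIdeal K := fun U =>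
    have := IsLocallyNoetherian.component_noetherian U
    IsNoetherian.noetherian _
  have := RegImm10.BlowModel.isProper_of_isBlowUp hft hb
  have := lfp_of_lft b₀
  have hsq := isAlmostBlowUpSquare_of_isBlowUp K hb
  -- the centre is the inverse image of the centre
  have hker : (pullback.fst (π.app n) K.subschemeι).ker = i.ker := by
    rw [Scheme.IdealSheafData.ker_fst_of_isClosedImmersion, Scheme.IdealSheafData.ker_subschemeι]
    exact hKc
  let l : Z ⟶ pullback (π.app n) K.subschemeι :=
    IsClosedImmersion.lift (pullback.fst (π.app n) K.subschemeι) i hker.le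
  have : IsIso l :=
    IsClosedImmersion.isIso_of_ker_eq _ _ l (IsClosedImmersion.lift_fac _ _ _) hker.symm
  have hZ : IsPullback (l ≫ pullback.snd _ _) i K.subschemeι (π.app n) :=
    (IsPullback.of_hasPullback (π.app n) K.subschemeι).flip.of_iso (asIso l).symm (Iso.refl _)
      (Iso.refl _) (Iso.refl _) (by simp) (by
        simp only [Iso.refl_hom, Iso.symm_hom, asIso_inv, Category.comp_id]
        rw [IsIso.eq_inv_comp]
        exact IsClosedImmersion.lift_fac _ _ _) (by simp) (by simp)
  have hX := (IsPullback.of_hasPullback b₀ (π.app n)).flip.flip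
  let b := pullback.snd b₀ (π.app n)
  let gX := pullback.fst b₀ (π.app n)
  let e := pullback.snd (pullback.fst b₀ K.subschemeι) gX
  let gE := pullback.fst (pullback.fst b₀ K.subschemeι) gX
  have hE : IsPullback gE e (pullback.fst b₀ K.subschemeι) gX := IsPullback.of_hasPullback _ _
  let π₁ := hZ.lift (gE ≫ pullback.snd b₀ K.subschemeι) (e ≫ b) (by
    rw [Category.assoc, ← pullback.condition, hE.w_assoc, pullback.condition, Category.assoc])
  exact ⟨_, _, e, π₁, b, isAlmostBlowUpSquare_baseChange hsq (π.app n) hX hZ hE (hZ.lift_snd _ _ _)⟩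

end Groth.Agent.HTop50
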