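import Groth.Agent.HTop50.PhCover
import Mathlib.AlgebraicGeometry.Sites.BigZariski
import Mathlib.CategoryTheory.Sites.Canonical

/-! The finest topology making a Zariski sheaf a sheaf: it is local on affine schemes. -/

set_option autoImplicit false
set_option linter.style.haveILetI false

universe w w' u

open CategoryTheory CategoryTheory.Limits AlgebraicGeometry Opposite

namespace Groth.Agent.HTop50

variable {F : Scheme.{u}ᵒᵖ ⥤ Type w}

/-- The finest topology for which `F` is a sheaf. -/
abbrev sheafTop (F : Scheme.{u}ᵒᵖ ⥤ Type w) : GrothendieckTopology Scheme.{u} :=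
  Sheaf.finestTopologySingle F

theorem isSheafFor_of_mem {X : Scheme.{u}} {S : Sieve X} (h : S ∈ sheafTop F X) :
    Presieve.IsSheafFor F (S : Presieve X) := by
  simpa using h X (𝟙 X)

theorem isSheafFor_of_generate_mem {X : Scheme.{u}} {R : Presieve X}
    (h : Sieve.generate R ∈ sheafTop F X) : Presieve.IsSheafFor F R :=
  (Presieve.isSheafFor_iff_generate R).2 (isSheafFor_of_mem h)

theorem le_sheafTop {J : GrothendieckTopology Scheme.{u}} (h : Presieve.IsSheaf J F) :
    J ≤ sheafTop F :=
  fun _ _ hS _ f => h _ (J.pullback_stable f hS)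

theorem generate_singleton_pullback {U V W : Scheme.{u}} (f : V ⟶ U) (g : W ⟶ U) :
    (Sieve.generate (Presieve.singleton f)).pullback g =
      Sieve.generate (Presieve.singleton (pullback.fst g f)) := by
  ext Z k
  constructor
  · rintro ⟨Y, a, _, ⟨⟩, ha⟩
    exact ⟨_, pullback.lift k a ha.symm, _, Presieve.singleton_self _, pullback.lift_fst _ _ _⟩
  · rintro ⟨Y, a, _, ⟨⟩, rfl⟩
    exact ⟨_, a ≫ pullback.snd g f, f, Presieve.singleton_self _, by
      simp only [Category.assoc, pullback.condition]⟩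

theorem singleton_mem_sheafTop {U V : Scheme.{u}} (f : V ⟶ U)
    (h : ∀ (W : Scheme.{u}) (g : W ⟶ U), Presieve.IsSheafFor F (Presieve.singleton (pullback.fst g f))) :
    Sieve.generate (Presieve.singleton f) ∈ sheafTop F U := by
  intro W g
  rw [generate_singleton_pullback, ← Presieve.isSheafFor_iff_generate]
  exact h W g

theorem openCover_mem (hF : Presieve.IsSheaf Scheme.zariskiTopology F) {X : Scheme.{u}}
    (𝒰 : X.OpenCover) : Sieve.ofArrows 𝒰.X 𝒰.f ∈ sheafTop F X :=
  le_sheafTop hF _ 𝒰.mem_grothendieckTopology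

/-- Being a covering for the finest topology of a Zariski sheaf is checked on affine schemes. -/
theorem mem_sheafTop_of_affine (hF : Presieve.IsSheaf Scheme.zariskiTopology F) {X : Scheme.{u}}
    {S : Sieve X} (h : ∀ (Y : Scheme.{u}) (f : Y ⟶ X), IsAffine Y →
      Presieve.IsSheafFor F (S.pullback f : Presieve Y)) : S ∈ sheafTop F X := by
  have sep : ∀ (Y : Scheme.{u}) (f : Y ⟶ X),
      Presieve.IsSeparatedFor F (S.pullback f : Presieve Y) := by
    intro Y f x t₁ t₂ ht₁ ht₂
    refine (hF.isSeparated _ Y.affineCover.mem_grothendieckTopology).ext ?_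
    intro Z g hg
    obtain ⟨W₀, a, b₀, hb₀, rfl⟩ := hg
    cases hb₀ with | mk i => ?_
    have key : F.map (Y.affineCover.f i).op t₁ = F.map (Y.affineCover.f i).op t₂ := by
      refine (h _ (Y.affineCover.f i ≫ f) inferInstance).isSeparatedFor.ext ?_
      intro Z' b hb
      have hb' : S.pullback f (b ≫ Y.affineCover.f i) := by
        simpa [Category.assoc] using hb
      rw [← Functor.map_comp_apply, ← Functor.map_comp_apply, ← op_comp]
      exact (ht₁ _ hb').trans (ht₂ _ hb').symm
    simp only [op_comp, Functor.map_comp_apply, key]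
  intro Y f
  rw [← Presieve.isSeparatedFor_and_exists_isAmalgamation_iff_isSheafFor]
  refine ⟨sep Y f, fun x hx => ?_⟩
  have hxeq : ∀ {Z : Scheme.{u}} (g g' : Z ⟶ Y) (hg : S.pullback f g) (hg' : S.pullback f g'),
      g = g' → x g hg = x g' hg' := fun g g' hg hg' e => by subst e; rfl
  let 𝒰 := Y.affineCover
  have hsh : Presieve.IsSheafFor F (Presieve.ofArrows 𝒰.X 𝒰.f) :=
    (Presieve.isSheafFor_iff_generate _).2 (hF _ 𝒰.mem_grothendieckTopology)
  let xi : ∀ i, Presieve.FamilyOfElements F ((S.pullback (𝒰.f i ≫ f) : Presieve (𝒰.X i))) :=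
    fun i Z b hb => x (b ≫ 𝒰.f i) (by
      show S ((b ≫ 𝒰.f i) ≫ f)
      rw [Category.assoc]; exact hb)
  have hxi : ∀ i, (xi i).Compatible := fun i Z₁ Z₂ W g₁ g₂ b₁ b₂ h₁ h₂ e =>
    hx g₁ g₂ _ _ (by rw [← Category.assoc, e, Category.assoc])
  choose t ht htu using fun i => h (𝒰.X i) (𝒰.f i ≫ f) inferInstance (xi i) (hxi i)
  have hcomp : Presieve.Arrows.Compatible F 𝒰.f t := by
    intro i j Z k₁ k₂ e
    refine (sep Z ((k₁ ≫ 𝒰.f i) ≫ f)).ext fun W b hb => ?_
    have h1 : S.pullback (𝒰.f i ≫ f) (b ≫ k₁) := by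
      simpa [Category.assoc] using hb
    have h2 : S.pullback (𝒰.f j ≫ f) (b ≫ k₂) := by
      simpa [Category.assoc, reassoc_of% e] using hb
    rw [← Functor.map_comp_apply, ← Functor.map_comp_apply, ← op_comp, ← op_comp]
    refine ((ht i _ h1).trans (hxeq _ _ _ _ ?_)).trans (ht j _ h2).symm
    simp only [Category.assoc, e]
  obtain ⟨s, hs, -⟩ := (Presieve.isSheafFor_arrows_iff _ _).1 hsh t hcomp
  refine ⟨s, fun W g hg => ?_⟩
  have hW : Sieve.pullback g (Sieve.ofArrows 𝒰.X 𝒰.f) ∈ Scheme.zariskiTopology W :=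
    Scheme.zariskiTopology.pullback_stable g 𝒰.mem_grothendieckTopology
  refine (hF.isSeparated _ hW).ext ?_
  intro Z k hk
  obtain ⟨_, a, _, ⟨i⟩, hai⟩ := hk
  have ha : S.pullback (𝒰.f i ≫ f) a := by
    show S (a ≫ 𝒰.f i ≫ f)
    rw [← Category.assoc, hai, Category.assoc]
    exact S.downward_closed hg k
  rw [← Functor.map_comp_apply, ← op_comp, ← hai, op_comp, Functor.map_comp_apply, hs i]
  exact ((ht i a ha).trans (hxeq _ _ _ ((S.pullback f).downward_closed hg k) hai)).trans
    (hx.to_sieveCompatible g k hg)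

/-- Open immersions which cover generate a covering sieve. -/
theorem ofArrows_mem_of_opens (hF : Presieve.IsSheaf Scheme.zariskiTopology F) {X : Scheme.{u}}
    {ι : Type w'} (Y : ι → Scheme.{u}) (f : ∀ i, Y i ⟶ X) (hf : ∀ i, IsOpenImmersion (f i))
    (hc : ∀ x : X, ∃ i, x ∈ Set.range (f i)) : Sieve.ofArrows Y f ∈ sheafTop F X :=
  le_sheafTop hF _ (Scheme.Cover.mem_grothendieckTopology
    (P := @IsOpenImmersion) (Scheme.Cover.mkOfCovers ι Y f hc hf))

/-- A family which is locally refined by proper surjective morphisms covers in any topology containing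
open coverings and proper surjective morphisms. -/
theorem LocRef.mem_sheafTop (hF : Presieve.IsSheaf Scheme.zariskiTopology F)
    (hp : ∀ (U V : Scheme.{u}) (f : V ⟶ U), IsProper f → Surjective f →
      Presieve.IsSheafFor F (Presieve.singleton f))
    {T : Scheme.{u}} {E : PreZeroHypercover.{w'} T} (h : LocRef E) :
    Sieve.generate E.presieve₀ ∈ sheafTop F T := by
  choose W j P q hj hz hq hq' hfac using h
  refine (sheafTop F).transitive (ofArrows_mem_of_opens hF W j hj fun z => ⟨z, hz z⟩) _ ?_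
  intro Z g hg
  obtain ⟨_, a, _, ⟨z⟩, rfl⟩ := hg
  rw [Sieve.pullback_comp]
  refine (sheafTop F).pullback_stable a ?_
  refine (sheafTop F).transitive (singleton_mem_sheafTop (F := F) (q z) fun V g => ?_) _ ?_
  · have := hq z
    have := hq' z
    exact hp _ _ (pullback.fst g (q z)) inferInstance inferInstance
  intro Z' g' hg'
  obtain ⟨_, b, _, ⟨⟩, rfl⟩ := hg'
  rw [Sieve.pullback_comp]
  refine (sheafTop F).pullback_stable b ?_
  choose O o i k ho hx hk using hfac z
  refine (sheafTop F).superset_covering ?_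
    (ofArrows_mem_of_opens hF O o ho fun p => ⟨p, hx p⟩)
  rw [Sieve.generate_le_iff]
  rintro _ _ ⟨p⟩
  exact ⟨_, k p, _, ⟨i p⟩, by rw [hk, Category.assoc]⟩

/-- A Zariski sheaf with the sheaf property for proper surjective morphisms is a ph sheaf. -/
theorem isPhSheaf_of_zariski_proper (hF : Presieve.IsSheaf Scheme.zariskiTopology F)
    (hp : ∀ (U V : Scheme.{u}) (f : V ⟶ U), IsProper f → Surjective f →
      Presieve.IsSheafFor F (Presieve.singleton f)) : HTop.IsPhSheaf F := by
  intro X R hR
  obtain ⟨E, hE, rfl⟩ := PreZeroHypercoverFamily.mem_precoverage_iff.1 hR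
  exact isSheafFor_of_generate_mem ((locRef_of_isPhCover hE).mem_sheafTop hF hp)

end Groth.Agent.HTop50
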