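import Groth.Agent.HTop50.HRefine
import Groth.Agent.HTop50.Topology

/-! The h sheaves over a base are the Zariski sheaves with descent along proper surjective morphisms
of finite presentation to affine schemes. -/

set_option autoImplicit false
set_option linter.style.haveILetI false

universe w w' u v₁ u₁

open CategoryTheory CategoryTheory.Limits AlgebraicGeometry Opposite

namespace Groth.Agent.HTop50

/-- Covering for the finest topology of a sheaf is checked on a class of objects covering all others. -/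
theorem mem_finest_of_local {C : Type u₁} [Category.{v₁} C] {J : GrothendieckTopology C}
    {F : Cᵒᵖ ⥤ Type w} (hF : Presieve.IsSheaf J F) (P : C → Prop)
    (hP : ∀ Y : C, ∃ (ι : Type w') (Z : ι → C) (g : ∀ i, Z i ⟶ Y),
      Sieve.ofArrows Z g ∈ J Y ∧ ∀ i, P (Z i))
    {X : C} {S : Sieve X} (h : ∀ (Y : C) (f : Y ⟶ X), P Y →
      Presieve.IsSheafFor F (S.pullback f : Presieve Y)) : S ∈ Sheaf.finestTopologySingle F X := by
  have sep : ∀ (Y : C) (f : Y ⟶ X),
      Presieve.IsSeparatedFor F (S.pullback f : Presieve Y) := by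
    intro Y f x t₁ t₂ ht₁ ht₂
    obtain ⟨ι, U, u, hu, hPU⟩ := hP Y
    refine (hF.isSeparated _ hu).ext ?_
    intro Z g hg
    obtain ⟨W₀, a, b₀, hb₀, rfl⟩ := hg
    cases hb₀ with | mk i => ?_
    have key : F.map (u i).op t₁ = F.map (u i).op t₂ := by
      refine (h _ (u i ≫ f) (hPU i)).isSeparatedFor.ext ?_
      intro Z' b hb
      have hb' : S.pullback f (b ≫ u i) := by simpa [Category.assoc] using hb
      rw [← Functor.map_comp_apply, ← Functor.map_comp_apply, ← op_comp]
      exact (ht₁ _ hb').trans (ht₂ _ hb').symm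
    simp only [op_comp, Functor.map_comp_apply, key]
  intro Y f
  rw [← Presieve.isSeparatedFor_and_exists_isAmalgamation_iff_isSheafFor]
  refine ⟨sep Y f, fun x hx => ?_⟩
  have hxeq : ∀ {Z : C} (g g' : Z ⟶ Y) (hg : S.pullback f g) (hg' : S.pullback f g'),
      g = g' → x g hg = x g' hg' := fun g g' hg hg' e => by subst e; rfl
  obtain ⟨ι, U, u, hu, hPU⟩ := hP Y
  have hsh : Presieve.IsSheafFor F (Presieve.ofArrows U u) :=
    (Presieve.isSheafFor_iff_generate _).2 (hF _ hu)
  let xi : ∀ i, Presieve.FamilyOfElements F ((S.pullback (u i ≫ f) : Presieve (U i))) :=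
    fun i Z b hb => x (b ≫ u i) (by
      show S ((b ≫ u i) ≫ f)
      rw [Category.assoc]; exact hb)
  have hxi : ∀ i, (xi i).Compatible := fun i Z₁ Z₂ W g₁ g₂ b₁ b₂ h₁ h₂ e =>
    hx g₁ g₂ _ _ (by rw [← Category.assoc, e, Category.assoc])
  choose t ht htu using fun i => h (U i) (u i ≫ f) (hPU i) (xi i) (hxi i)
  have hcomp : Presieve.Arrows.Compatible F u t := by
    intro i j Z k₁ k₂ e
    refine (sep Z ((k₁ ≫ u i) ≫ f)).ext fun W b hb => ?_
    have h1 : S.pullback (u i ≫ f) (b ≫ k₁) := by simpa [Category.assoc] using hb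
    have h2 : S.pullback (u j ≫ f) (b ≫ k₂) := by simpa [Category.assoc, reassoc_of% e] using hb
    rw [← Functor.map_comp_apply, ← Functor.map_comp_apply, ← op_comp, ← op_comp]
    refine ((ht i _ h1).trans (hxeq _ _ _ _ ?_)).trans (ht j _ h2).symm
    simp only [Category.assoc, e]
  obtain ⟨s, hs, -⟩ := (Presieve.isSheafFor_arrows_iff _ _).1 hsh t hcomp
  refine ⟨s, fun W g hg => ?_⟩
  refine (hF.isSeparated _ (J.pullback_stable g hu)).ext ?_
  intro Z k hk
  obtain ⟨_, a, _, ⟨i⟩, hai⟩ := hk
  have ha : S.pullback (u i ≫ f) a := by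
    show S (a ≫ u i ≫ f)
    rw [← Category.assoc, hai, Category.assoc]
    exact S.downward_closed hg k
  rw [← Functor.map_comp_apply, ← op_comp, ← hai, op_comp, Functor.map_comp_apply, hs i]
  exact ((ht i a ha).trans (hxeq _ _ _ ((S.pullback f).downward_closed hg k) hai)).trans
    (hx.to_sieveCompatible g k hg)

variable {S : Scheme.{u}} (F : (Over S)ᵒᵖ ⥤ Type w)

/-- The sieve on an object over `S` given by a sieve on its underlying scheme. -/
abbrev overSieve {X : Scheme.{u}} (x : X ⟶ S) (R : Sieve X) : Sieve (Over.mk x) :=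
  (Sieve.overEquiv (Over.mk x)).symm R

theorem overSieve_pullback {X : Scheme.{u}} (x : X ⟶ S) (R : Sieve X) {Z : Over S}
    (k : Z ⟶ Over.mk x) : (overSieve x R).pullback k = overSieve Z.hom (R.pullback k.left) := by
  ext W l
  simp only [overSieve, Sieve.overEquiv_symm_iff, Sieve.pullback_apply, Over.comp_left]

/-- The topology on schemes of the sieves which are covering for `F` over every base. -/
def descTop : GrothendieckTopology Scheme.{u} where
  sieves X := {R | ∀ (X' : Scheme.{u}) (f : X' ⟶ X) (x : X' ⟶ S),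
    overSieve x (R.pullback f) ∈ Sheaf.finestTopologySingle F (Over.mk x)}
  top_mem' X X' f x := by
    rw [Sieve.pullback_top, show overSieve x ⊤ = ⊤ from (Sieve.overEquiv (Over.mk x)).symm.map_top]
    exact GrothendieckTopology.top_mem _ _
  pullback_stable' X Y R g hR Y' f x := by
    rw [← Sieve.pullback_comp]
    exact hR _ _ x
  transitive' X R hR R' h X' f x := by
    refine (Sheaf.finestTopologySingle F).transitive (hR X' f x) _ fun Z k hk => ?_
    rw [Sieve.overEquiv_symm_iff] at hk
    have := h hk Z.left (𝟙 _) Z.hom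
    rw [Sieve.pullback_id] at this
    rw [overSieve_pullback, ← Sieve.pullback_comp]
    exact this

variable {F}

theorem isSheafFor_of_mem_descTop {X : Scheme.{u}} {R : Sieve X} (h : R ∈ descTop F X)
    (x : X ⟶ S) : Presieve.IsSheafFor F (overSieve x R : Presieve (Over.mk x)) := by
  have := h X (𝟙 X) x _ (𝟙 _)
  rwa [Sieve.pullback_id, Sieve.pullback_id] at this

theorem zariski_le_descTop (hF : Presieve.IsSheaf (Scheme.zariskiTopology.over S) F) :
    Scheme.zariskiTopology ≤ descTop F := by
  intro X R hR X' f x Z k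
  refine hF _ ((Scheme.zariskiTopology.over S).pullback_stable k ?_)
  exact Scheme.zariskiTopology.overEquiv_symm_mem_over _ _
    (Scheme.zariskiTopology.pullback_stable f hR)

theorem mem_descTop_of_affine (hF : Presieve.IsSheaf (Scheme.zariskiTopology.over S) F)
    {X : Scheme.{u}} {R : Sieve X}
    (h : ∀ (U : Scheme.{u}) (f : U ⟶ X) (x : U ⟶ S), IsAffine U →
      Presieve.IsSheafFor F (overSieve x (R.pullback f) : Presieve (Over.mk x))) :
    R ∈ descTop F X := by
  intro X' f x
  refine mem_finest_of_local (C := Over S) hF (fun Z => IsAffine Z.left) (fun Y => ?_) ?_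
  · let 𝒰 := Y.left.affineCover
    refine ⟨𝒰.I₀, fun i => Over.mk (𝒰.f i ≫ Y.hom), fun i => Over.homMk (𝒰.f i) rfl, ?_,
      fun i => inferInstanceAs (IsAffine (𝒰.X i))⟩
    rw [GrothendieckTopology.mem_over_iff, Sieve.overEquiv_ofArrows]
    exact 𝒰.mem_grothendieckTopology
  · intro Z k hZ
    rw [overSieve_pullback, ← Sieve.pullback_comp]
    exact h Z.left (k.left ≫ f) Z.hom hZ

/-- A proper surjective morphism of finite presentation covers. -/
theorem singleton_mem_descTop (hF : Presieve.IsSheaf (Scheme.zariskiTopology.over S) F)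
    (hp : ∀ (U V : Over S) (f : V ⟶ U), IsAffine U.left → IsProper f.left → Surjective f.left →
      LocallyOfFinitePresentation f.left → Presieve.IsSheafFor F (Presieve.singleton f))
    {U V : Scheme.{u}} (g : V ⟶ U) [IsProper g] [Surjective g] [LocallyOfFinitePresentation g] :
    Sieve.generate (Presieve.singleton g) ∈ descTop F U := by
  refine mem_descTop_of_affine hF fun U' f x hU' => ?_
  let k : Over.mk (pullback.fst f g ≫ x) ⟶ Over.mk x := Over.homMk (pullback.fst f g) rfl
  have e : overSieve x ((Sieve.generate (Presieve.singleton g)).pullback f) =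
      Sieve.generate (Presieve.singleton k) := by
    ext W l
    rw [generate_singleton_pullback, Sieve.overEquiv_symm_iff]
    constructor
    · rintro ⟨Z, a, _, ⟨⟩, ha⟩
      refine ⟨_, Over.homMk (V := Over.mk (pullback.fst f g ≫ x)) a ?_, k, Presieve.singleton_self k,
        Over.OverMorphism.ext ha⟩
      show a ≫ pullback.fst f g ≫ x = W.hom
      rw [reassoc_of% ha]
      exact Over.w l
    · rintro ⟨Z, a, _, ⟨⟩, rfl⟩
      exact ⟨_, a.left, _, Presieve.singleton_self _, rfl⟩
  rw [e, ← Presieve.isSheafFor_iff_generate]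
  exact hp _ _ k hU' (inferInstanceAs (IsProper (pullback.fst f g)))
    (inferInstanceAs (Surjective (pullback.fst f g)))
    (inferInstanceAs (LocallyOfFinitePresentation (pullback.fst f g)))

/-- h coverings cover. -/
theorem hCover_mem_descTop (hF : Presieve.IsSheaf (Scheme.zariskiTopology.over S) F)
    (hp : ∀ (U V : Over S) (f : V ⟶ U), IsAffine U.left → IsProper f.left → Surjective f.left →
      LocallyOfFinitePresentation f.left → Presieve.IsSheafFor F (Presieve.singleton f))
    {X : Scheme.{u}} (E : PreZeroHypercover.{w'} X) (hE : HTop.IsHCover E) :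
    Sieve.generate E.presieve₀ ∈ descTop F X := by
  refine mem_descTop_of_affine hF fun U f x hU => isSheafFor_of_mem_descTop ?_ x
  obtain ⟨Y, g, n, V, hg, hgs, hgf, -, hcov, hfac⟩ := exists_proper_refining (E.pullback₁ f)
    (fun i => by
      have : LocallyOfFinitePresentation (E.f i) := hE.1 i
      exact inferInstanceAs (LocallyOfFinitePresentation (pullback.fst f (E.f i))))
    (VCov93.isVCover_pullback f hE.2)
  have hmem : Sieve.ofArrows (fun j => (V j : Scheme.{u})) (fun j => (V j).ι) ∈
      Scheme.zariskiTopology Y :=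
    (Y.openCoverOfIsOpenCover V (TopologicalSpace.IsOpenCover.mk hcov)).mem_grothendieckTopology
  refine (descTop F).transitive (singleton_mem_descTop hF hp g) _ ?_
  rintro Z _ ⟨_, b, _, ⟨⟩, rfl⟩
  rw [Sieve.pullback_comp]
  refine (descTop F).pullback_stable b ((descTop F).superset_covering ?_
    (zariski_le_descTop hF _ hmem))
  rw [Sieve.ofArrows, Sieve.generate_le_iff]
  rintro _ _ ⟨j⟩
  obtain ⟨i, h', hh⟩ := hfac j
  let i' : E.I₀ := i
  let h₁ : (V j : Scheme.{u}) ⟶ pullback f (E.f i') := h'
  have hh₁ : h₁ ≫ pullback.fst f (E.f i') = (V j).ι ≫ g := hh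
  refine ⟨_, h₁ ≫ pullback.snd f (E.f i'), _, ⟨i'⟩, ?_⟩
  show (h₁ ≫ pullback.snd f (E.f i')) ≫ E.f i' = ((V j).ι ≫ g) ≫ f
  rw [← hh₁, Category.assoc, Category.assoc, pullback.condition]

theorem jh_le (hF : Presieve.IsSheaf (Scheme.zariskiTopology.over S) F)
    (hp : ∀ (U V : Over S) (f : V ⟶ U), IsAffine U.left → IsProper f.left → Surjective f.left →
      LocallyOfFinitePresentation f.left → Presieve.IsSheafFor F (Presieve.singleton f)) :
    Presieve.IsSheaf (HTop.Jh S) F := by
  have hle : HTop.hTopology ≤ descTop F := by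
    refine (Precoverage.toGrothendieck_le_iff_le_toPrecoverage).2 ?_
    intro X R hR
    obtain ⟨E, hE, rfl⟩ := PreZeroHypercoverFamily.mem_precoverage_iff.1 hR
    exact hCover_mem_descTop hF hp E hE
  intro Y R hR
  have h := hle _ ((GrothendieckTopology.mem_over_iff _ R).1 hR)
  have := isSheafFor_of_mem_descTop h Y.hom
  rwa [show overSieve Y.hom (Sieve.overEquiv Y R) = R from
    (Sieve.overEquiv Y).symm_apply_apply R] at this

theorem isSheaf_jh_iff (F : (Over S)ᵒᵖ ⥤ Type w) :
    Presieve.IsSheaf (HTop.Jh S) F ↔ Presieve.IsSheaf (Scheme.zariskiTopology.over S) F ∧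
      ∀ (U V : Over S) (f : V ⟶ U), IsAffine U.left → IsProper f.left → Surjective f.left →
        LocallyOfFinitePresentation f.left → Presieve.IsSheafFor F (Presieve.singleton f) := by
  refine ⟨fun h => ⟨?_, fun U V f _ _ _ _ => ?_⟩, fun h => jh_le h.1 h.2⟩
  · have hle : Scheme.zariskiTopology ≤ HTop.hTopology := by
      refine (Precoverage.toGrothendieck_le_iff_le_toPrecoverage).2 ?_
      intro X R hR
      obtain ⟨E, rfl⟩ := R.exists_eq_preZeroHypercover
      refine Precoverage.generate_mem_toGrothendieck ((HTop.presieve₀_mem_hPrecoverage_iff _).2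
        ⟨fun i => ?_, VCov93.isVCover_of_fpqc ⟨E, Scheme.zariskiPrecoverage_le_fpqcPrecoverage _ hR⟩⟩)
      have : IsOpenImmersion (E.f i) := ((Scheme.presieve₀_mem_precoverage_iff E).1 hR).2 i
      infer_instance
    intro Y R hR
    exact h R (hle _ hR)
  · exact (Presieve.isSheafFor_iff_generate _).2
      (h _ (h_singleton_mem f (isHCover_of_proper f.left)))

end Groth.Agent.HTop50
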