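import Groth.Agent.HTop50.RefineProper
import Groth.Agent.VCov93.Cover

/-! Locally finitely presented V coverings of affine schemes are refined by a proper surjective
morphism of finite presentation followed by a finite affine open covering. -/

set_option autoImplicit false
set_option linter.style.haveILetI false

universe w u

open CategoryTheory CategoryTheory.Limits AlgebraicGeometry MvPolynomial IsLocalRing

namespace Groth.Agent.HTop50

theorem toSpecΓ_cst {A : Type u} [CommRing A] {Y : Scheme.{u}} (p : Y ⟶ Spec (CommRingCat.of A))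
    {W : Y.Opens} (hW : IsAffineOpen W) :
    W.toSpecΓ ≫ Spec.map (CommRingCat.ofHom (cst p W)) = W.ι ≫ p := by
  rw [show CommRingCat.ofHom (cst p W) =
      (Scheme.ΓSpecIso (CommRingCat.of A)).inv ≫ p.appLE ⊤ W le_top from rfl,
    Spec.map_comp, ← hW.toSpecΓ_fromSpec, Category.assoc,
    ← IsAffineOpen.SpecMap_appLE_fromSpec p (isAffineOpen_top _) hW le_top,
    IsAffineOpen.fromSpec_top, Scheme.isoSpec_Spec_inv]

/-- A map from the spectrum of a local ring lands in any open containing the image of the closed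
point. -/
theorem range_subset_of_closedPoint_mem {W : Type u} [CommRing W] [IsLocalRing W] {Z : Scheme.{u}}
    (l : Spec (CommRingCat.of W) ⟶ Z) {O : Z.Opens} (h : l (closedPoint W) ∈ O) :
    Set.range l ⊆ (O : Set Z) := by
  rintro _ ⟨p, rfl⟩
  exact ((IsLocalRing.specializes_closedPoint p).map l.continuous).mem_open O.isOpen h

/-- Solvability over extensions of valuation rings descends when the fraction field is algebraically
closed. -/
theorem exists_solution_of_ext {A V W : Type u} [CommRing A] [CommRing V] [IsDomain V]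
    [ValuationRing V] [IsAlgClosed (FractionRing V)] [CommRing W] [IsDomain W] [IsLocalRing W]
    (φ : A →+* V) (ψ : V →+* W) (hψ : Function.Injective ψ) [IsLocalHom ψ] (σ : Sys A)
    (b : Fin σ.n → W) (hb : ∀ k, eval₂Hom (ψ.comp φ) b (σ.F k) = 0) :
    ∃ b' : Fin σ.n → V, ∀ k, eval₂Hom φ b' (σ.F k) = 0 := by
  let : Algebra V W := ψ.toAlgebra
  let B := Algebra.adjoin V (Set.range b)
  have : Algebra.FiniteType V B :=
    (Subalgebra.fg_iff_finiteType B).1 (Subalgebra.fg_def.2 ⟨_, Set.finite_range b, rfl⟩)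
  have hinj : Function.Injective (algebraMap V B) := fun x y h => hψ (congrArg Subtype.val h)
  have hm : (maximalIdeal V).map (algebraMap V B) ≠ ⊤ := by
    intro htop
    have h1 : (maximalIdeal V).map (algebraMap V B) ≤ (maximalIdeal W).comap B.val.toRingHom := by
      rw [Ideal.map_le_iff_le_comap]
      intro x hx
      exact (IsLocalRing.mem_maximalIdeal _).2 fun hu =>
        (IsLocalRing.mem_maximalIdeal x).1 hx (isUnit_of_map_unit ψ x hu)
    rw [htop, top_le_iff] at h1
    exact Ideal.comap_ne_top _ (maximalIdeal.isMaximal W).ne_top h1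
  obtain ⟨σ'⟩ := exists_algHom_self hinj hm
  let bB : Fin σ.n → B := fun i => ⟨b i, Algebra.subset_adjoin ⟨i, rfl⟩⟩
  refine ⟨fun i => σ' (bB i), fun k => ?_⟩
  have h0 : eval₂Hom ((algebraMap V B).comp φ) bB (σ.F k) = 0 := by
    apply Subtype.val_injective
    show B.val.toRingHom _ = _
    rw [← RingHom.comp_apply, comp_eval₂Hom]
    exact hb k
  have := congrArg σ'.toRingHom h0
  rw [map_zero, ← RingHom.comp_apply, comp_eval₂Hom, ← RingHom.comp_assoc,
    show σ'.toRingHom.comp (algebraMap V B) = RingHom.id V from σ'.comp_algebraMap,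
    RingHom.id_comp] at this
  exact this

/-- Equations for a finitely presented ring map. -/
theorem exists_sys {A R : Type u} [CommRing A] [CommRing R] (γ : A →+* R)
    (hγ : γ.FinitePresentation) :
    ∃ (σ : Sys A) (a : Fin σ.n → R), (∀ k, eval₂Hom γ a (σ.F k) = 0) ∧
      ∀ (S : Type u) [CommRing S] (δ : A →+* S) (b : Fin σ.n → S),
        (∀ k, eval₂Hom δ b (σ.F k) = 0) → ∃ e : R →+* S, e.comp γ = δ := by
  algebraize [γ]
  obtain ⟨n, f, hf, hker⟩ := Algebra.FinitePresentation.out (R := A) (A := R)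
  obtain ⟨r, F, hF⟩ := Submodule.fg_iff_exists_fin_generating_family.1 hker
  have hev : eval₂Hom γ (fun i => f (X i)) = (f : MvPolynomial (Fin n) A →+* R) :=
    MvPolynomial.ringHom_ext (fun a => by
      rw [eval₂Hom_C]; exact (f.commutes a).symm) fun i => eval₂Hom_X' _ _ _
  refine ⟨⟨n, r, F⟩, fun i => f (X i), fun k => ?_, fun S _ δ b hb => ?_⟩
  · rw [hev]
    exact (show F k ∈ RingHom.ker f.toRingHom from
      hF ▸ Submodule.subset_span ⟨k, rfl⟩)
  · have hle : RingHom.ker f.toRingHom ≤ RingHom.ker (eval₂Hom δ b) := by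
      rw [← hF]
      exact Submodule.span_le.2 (by rintro _ ⟨k, rfl⟩; exact hb k)
    refine ⟨RingHom.liftOfSurjective f.toRingHom hf ⟨eval₂Hom δ b, hle⟩, RingHom.ext fun a => ?_⟩
    rw [RingHom.comp_apply, show γ a = f.toRingHom (C a) from (f.commutes a).symm,
      RingHom.liftOfRightInverse_comp_apply]
    exact eval₂Hom_C _ _ a

set_option maxHeartbeats 1000000 in
-- bookkeeping
/-- The refinement, by a scheme with projective charts over a finite algebra. -/
theorem exists_projective_refining {X : Scheme.{u}} [IsAffine X] (E : PreZeroHypercover.{w} X)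
    (hE : ∀ i, LocallyOfFinitePresentation (E.f i)) (hV : HTop.IsVCover E) :
    ∃ (Y : Scheme.{u}) (g : Y ⟶ X) (n : ℕ) (V : Fin n → Y.Opens),
      (∃ (D : Type u) (_ : CommRing D) (_ : Algebra Γ(X, ⊤) D) (_ : Module.Finite Γ(X, ⊤) D)
        (pD : Y ⟶ Spec (CommRingCat.of D)), HasProjCharts pD ∧
          g = pD ≫ Spec.map (CommRingCat.ofHom (algebraMap Γ(X, ⊤) D)) ≫
            (isAffineOpen_top X).fromSpec) ∧ IsProper g ∧ Surjective g ∧
      LocallyOfFinitePresentation g ∧ (∀ j, IsAffineOpen (V j)) ∧ ⨆ j, V j = ⊤ ∧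
      ∀ j, ∃ (i : E.I₀) (h : ((V j : Y.Opens) : Scheme.{u}) ⟶ E.X i),
        h ≫ E.f i = (V j).ι ≫ g := by
  classical
  obtain ⟨G, hG, href⟩ := VCov93.exists_standard_refining hV (𝟙 X)
  choose i h hh using href
  have := hG.finite_index
  have hcov : ∀ k, ∃ (N : ℕ) (O : Fin N → (E.X (i k)).Opens), (∀ a, IsAffineOpen (O a)) ∧
      ∀ z : G.X k, ∃ a, h k z ∈ O a := by
    intro k
    have : IsAffine (G.X k) := hG.isAffine_obj k
    choose O hO hxO _ using fun x : E.X (i k) =>
      exists_isAffineOpen_mem_and_subset (U := (⊤ : (E.X (i k)).Opens)) (x := x) trivial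
    obtain ⟨t, ht⟩ := (isCompact_range (h k).continuous).elim_finite_subcover
      (fun x => (O x : Set (E.X (i k)))) (fun x => (O x).2) fun x _ => Set.mem_iUnion.2 ⟨x, hxO x⟩
    refine ⟨t.card, fun a => O (t.equivFin.symm a), fun a => hO _, fun z => ?_⟩
    obtain ⟨b, hbt, hb⟩ := Set.mem_iUnion₂.1 (ht ⟨z, rfl⟩)
    exact ⟨t.equivFin ⟨b, hbt⟩, by simpa using hb⟩
  choose N O hO hhO using hcov
  let M : Type := Σ k : G.I₀, Fin (N k)
  let γ : ∀ m : M, Γ(X, ⊤) ⟶ Γ(E.X (i m.1), O m.1 m.2) := fun m =>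
    (E.f (i m.1)).appLE ⊤ (O m.1 m.2) le_top
  have hγfp : ∀ m : M, (γ m).hom.FinitePresentation := fun m =>
    HasRingHomProperty.appLE @LocallyOfFinitePresentation _ (hE _) ⟨_, isAffineOpen_top X⟩
      ⟨_, hO m.1 m.2⟩ le_top
  choose σ a ha hσ using fun m : M => exists_sys (γ m).hom (hγfp m)
  have hγ : ∀ m : M, Spec.map (γ m) ≫ (isAffineOpen_top X).fromSpec =
      (hO m.1 m.2).fromSpec ≫ E.f (i m.1) := fun m =>
    IsAffineOpen.SpecMap_appLE_fromSpec _ (isAffineOpen_top X) (hO m.1 m.2) le_top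
  have hs : ∀ (V : Type u) [CommRing V] [IsDomain V] [ValuationRing V]
      [IsAlgClosed (FractionRing V)] (φ : Γ(X, ⊤) →+* V),
      ∃ (m : M) (b : Fin (σ m).n → V), ∀ k, eval₂Hom φ b ((σ m).F k) = 0 := by
    intro V _ _ _ _ φ
    obtain ⟨W, _, _, ψ, ⟨hψi, hψl⟩, k, g', hg'⟩ :=
      hG.lift (CommRingCat.of V) (Spec.map (CommRingCat.ofHom φ) ≫ (isAffineOpen_top X).fromSpec)
    let l : Spec W ⟶ E.X (i k) := g' ≫ h k
    obtain ⟨c, hc⟩ := hhO k (g' (closedPoint W))
    have hrange : Set.range l ⊆ Set.range (hO k c).fromSpec := by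
      rw [(hO k c).range_fromSpec]
      exact range_subset_of_closedPoint_mem l hc
    let l' : Spec W ⟶ Spec Γ(E.X (i k), O k c) := IsOpenImmersion.lift (hO k c).fromSpec l hrange
    have hl : γ ⟨k, c⟩ ≫ Spec.preimage l' = CommRingCat.ofHom φ ≫ ψ := by
      apply Spec.map_injective
      rw [← cancel_mono (isAffineOpen_top X).fromSpec, Spec.map_comp, Spec.map_comp,
        Spec.map_preimage, Category.assoc, hγ ⟨k, c⟩, Category.assoc, ← hg',
        IsOpenImmersion.lift_fac_assoc, Category.assoc, hh k, Category.comp_id]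
    have := hψl
    obtain ⟨b', hb'⟩ := exists_solution_of_ext φ ψ.hom hψi (σ ⟨k, c⟩)
      (fun o => (Spec.preimage l').hom (a ⟨k, c⟩ o)) fun e => by
        have h1 := congrArg (Spec.preimage l').hom (ha ⟨k, c⟩ e)
        rw [map_zero, ← RingHom.comp_apply, comp_eval₂Hom, ← CommRingCat.hom_comp, hl] at h1
        exact h1
    exact ⟨⟨k, c⟩, b', hb'⟩
  obtain ⟨Y, p, ι, _, V, ⟨D, _, _, _, pD, hch, hpD⟩, hp, hsurj, hlfp, haff, hcov, hsol⟩ := exists_proper_refinement σ hs
  let q := (isAffineOpen_top X).fromSpec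
  have : IsIso q := by
    show IsIso (isAffineOpen_top X).fromSpec
    rw [IsAffineOpen.fromSpec_top]
    infer_instance
  let e := Finite.equivFin ι
  refine ⟨Y, p ≫ q, Nat.card ι, fun j => V (e.symm j),
    ⟨D, inferInstance, inferInstance, inferInstance, pD, hch, by rw [hpD, Category.assoc]⟩, inferInstance, inferInstance, inferInstance,
    fun j => haff _, ?_, fun j => ?_⟩
  · rw [← hcov]
    exact e.symm.surjective.iSup_comp V
  · obtain ⟨m, b, hb⟩ := hsol (e.symm j)
    obtain ⟨δ, hδ⟩ := hσ m _ (cst p (V (e.symm j))) b hb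
    refine ⟨i m.1, (V (e.symm j)).toSpecΓ ≫ Spec.map (CommRingCat.ofHom δ) ≫
      (hO m.1 m.2).fromSpec, ?_⟩
    rw [Category.assoc, Category.assoc, ← hγ m, ← Spec.map_comp_assoc,
      show γ m ≫ CommRingCat.ofHom δ = CommRingCat.ofHom (cst p (V (e.symm j))) from
        CommRingCat.hom_ext hδ, ← Category.assoc, toSpecΓ_cst p (haff _), Category.assoc]

/-- The refinement. -/
theorem exists_proper_refining {X : Scheme.{u}} [IsAffine X] (E : PreZeroHypercover.{w} X)
    (hE : ∀ i, LocallyOfFinitePresentation (E.f i)) (hV : HTop.IsVCover E) :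
    ∃ (Y : Scheme.{u}) (g : Y ⟶ X) (n : ℕ) (V : Fin n → Y.Opens), IsProper g ∧ Surjective g ∧
      LocallyOfFinitePresentation g ∧ (∀ j, IsAffineOpen (V j)) ∧ ⨆ j, V j = ⊤ ∧
      ∀ j, ∃ (i : E.I₀) (h : ((V j : Y.Opens) : Scheme.{u}) ⟶ E.X i),
        h ≫ E.f i = (V j).ι ≫ g := by
  obtain ⟨Y, g, n, V, -, h⟩ := exists_projective_refining E hE hV
  exact ⟨Y, g, n, V, h⟩

end Groth.Agent.HTop50
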