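import Groth.Agent.HTop50.DescendSection
import Mathlib.AlgebraicGeometry.Morphisms.FiniteType

/-! Gluing sections with prescribed values on seminormal schemes. -/

set_option autoImplicit false
set_option linter.style.haveILetI false

universe u

open CategoryTheory CategoryTheory.Limits AlgebraicGeometry IsLocalRing W4c1hilbchowinc Opposite

namespace Groth.Agent.HTop50

variable {X Y : Scheme.{u}}

theorem isReduced_of_isSeminormal (hX : HTop.IsSeminormal X) : IsReduced X := by
  have : ∀ x : X, _root_.IsReduced (X.presheaf.stalk x) := by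
    intro x
    obtain ⟨U, hxU, hU⟩ := hX x
    have := isReduced_of_isSeminormalRing hU
    let _ : Algebra Γ(X, U.1) (X.presheaf.stalk x) := X.presheaf.algebra_section_stalk ⟨x, hxU⟩
    have := U.2.isLocalization_stalk ⟨x, hxU⟩
    exact isReduced_localizationPreserves (U.2.primeIdealOf ⟨x, hxU⟩).asIdeal.primeCompl
      (X.presheaf.stalk x) inferInstance
  exact isReduced_of_isReduced_stalk X

theorem evaluation_map {V U : X.Opens} (hVU : V ≤ U) (a : Γ(X, U)) (x : X) (hx : x ∈ V) :
    X.evaluation V x hx ((X.presheaf.map (homOfLE hVU).op).hom a) = X.evaluation U x (hVU hx) a := by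
  show (X.residue x).hom ((X.presheaf.germ V x hx).hom _) = (X.residue x).hom _
  congr 1
  exact X.presheaf.germ_res_apply (homOfLE hVU) x hx a

/-- On a seminormal locally Noetherian scheme, values which vary along discrete valuation rings
come from a section. -/
theorem exists_section_of_variesAlongDVR [IsLocallyNoetherian X] (hX : HTop.IsSeminormal X)
    (f : PtFun X) (hf : f.VariesAlongDVR) : ∃ t : Γ(X, ⊤), PtFun.ofSection X t = f := by
  have := isReduced_of_isSeminormal hX
  choose U hxU hU using hX
  have hloc : ∀ x₀ : X, ∃ a : Γ(X, (U x₀).1), ∀ (x : X) (hx : x ∈ (U x₀).1),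
      X.evaluation _ x hx a = f x := by
    intro x₀
    let g : Spec Γ(X, (U x₀).1) ⟶ X := (U x₀).2.fromSpec
    have : IsNoetherianRing Γ(X, (U x₀).1) := IsLocallyNoetherian.component_noetherian (U x₀)
    have := isReduced_of_isSeminormalRing (hU x₀)
    obtain ⟨s, hs, -⟩ := existsUnique_of_variesAlongCompleteDVR (Or.inl (hU x₀)) (f.pullback g)
      fun R _ _ _ _ h => by rw [pullback_pullback]; exact hf R _
    obtain ⟨a, rfl⟩ := exists_eq_inv s
    refine ⟨a, fun x hx => ?_⟩
    obtain ⟨q, rfl⟩ : x ∈ Set.range g := by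
      rw [(U x₀).2.range_fromSpec]; exact hx
    apply (g.residueFieldMap q).hom.injective
    rw [Scheme.evaluation_naturality_apply g q hx a, show g.app (U x₀).1 =
        (Scheme.ΓSpecIso Γ(X, (U x₀).1)).inv ≫
          (Spec Γ(X, (U x₀).1)).presheaf.map (eqToHom (U x₀).2.fromSpec_preimage_self).op from
      (U x₀).2.fromSpec_app_self, CommRingCat.comp_apply]
    refine Eq.trans ?_ (congrFun hs q)
    rw [eqToHom_op]
    exact evaluation_map (U := ⊤) le_top _ q _
  choose a ha using hloc
  obtain ⟨t, ht, -⟩ := X.sheaf.existsUnique_gluing' (fun x => (U x).1) ⊤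
    (fun x => homOfLE le_top) (fun x _ => TopologicalSpace.Opens.mem_iSup.2 ⟨x, hxU x⟩) a
    (fun i j => section_ext_of_isReduced _ _ fun x hx => by
      erw [evaluation_map (V := (U i).1 ⊓ (U j).1) inf_le_left (a i) x hx,
        evaluation_map (V := (U i).1 ⊓ (U j).1) inf_le_right (a j) x hx]
      rw [ha, ha])
  refine ⟨t, funext fun x => ?_⟩
  rw [← ha x x (hxU x), ← ht x]
  exact (evaluation_map le_top t x _).symm

/-- Descent of sections along proper surjective morphisms to seminormal schemes. -/
theorem existsUnique_descend [IsLocallyNoetherian X] (hX : HTop.IsSeminormal X) (π : Y ⟶ X)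
    [IsProper π] [Surjective π] [IsReduced Y] (s : Γ(Y, ⊤))
    (hs : (pullback.fst π π).appTop s = (pullback.snd π π).appTop s) :
    ∃! t : Γ(X, ⊤), π.appTop t = s := by
  have := isReduced_of_isSeminormal hX
  obtain ⟨f, hf⟩ := exists_ptFun π s hs
  obtain ⟨t, ht⟩ := exists_section_of_variesAlongDVR hX f (variesAlongDVR_of_pullback π s f hf)
  refine ⟨t, ?_, fun t' ht' => ?_⟩
  · refine section_ext_of_isReduced _ _ fun y _ => ?_
    show Y.Γevaluation y (π.appTop t) = Y.Γevaluation y s
    rw [← Scheme.Γevaluation_naturality_apply]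
    exact (congrArg (π.residueFieldMap y).hom (congrFun ht (π y))).trans (congrFun hf y)
  · refine section_ext_of_isReduced _ _ fun x _ => ?_
    obtain ⟨y, rfl⟩ := π.surjective x
    apply (π.residueFieldMap y).hom.injective
    show (π.residueFieldMap y).hom (X.Γevaluation (π y) t') =
      (π.residueFieldMap y).hom (X.Γevaluation (π y) t)
    rw [Scheme.Γevaluation_naturality_apply, ht']
    exact (congrFun hf y).symm.trans (congrArg (π.residueFieldMap y).hom (congrFun ht (π y)).symm)

end Groth.Agent.HTop50
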