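import Groth.Agent.HTop50.PtFunAlg
import Groth.Agent.HTop50.HRefine
import Groth.Agent.HTop50.SeminormalDescent

/-! Values of constants at the points of schemes over an affine scheme. -/

set_option autoImplicit false
set_option linter.style.haveILetI false

universe u

open CategoryTheory AlgebraicGeometry

namespace Groth.Agent.HTop50

variable {A : Type u} [CommRing A] {Y : Scheme.{u}}

/-- The value of a constant at a point. -/
noncomputable def evg (p : Y ⟶ Spec (CommRingCat.of A)) (y : Y) : A →+* Y.residueField y :=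
  ((Scheme.ΓSpecIso (CommRingCat.of A)).inv ≫ p.appTop ≫ Y.Γevaluation y).hom

theorem residueFieldMap_evg {Z : Scheme.{u}} (q : Z ⟶ Y) (p : Y ⟶ Spec (CommRingCat.of A)) (z : Z)
    (a : A) : (q.residueFieldMap z).hom (evg p (q z) a) = evg (q ≫ p) z a := by
  refine (Scheme.Γevaluation_naturality_apply q z _).trans ?_
  show Z.Γevaluation z _ = ((Scheme.ΓSpecIso (CommRingCat.of A)).inv ≫ (q ≫ p).appTop ≫ Z.Γevaluation z).hom a
  rw [Scheme.Hom.comp_appTop]
  rfl

theorem evg_specMap {R : Type u} [CommRing R] (φ : A →+* R) (z : PrimeSpectrum R) (a : A) :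
    evg (Spec.map (CommRingCat.ofHom φ)) z a = ev z (φ a) := by
  show (Spec (CommRingCat.of R)).Γevaluation z
    (((Scheme.ΓSpecIso (CommRingCat.of A)).inv ≫ (Spec.map (CommRingCat.ofHom φ)).appTop).hom a) = _
  rw [← Scheme.ΓSpecIso_inv_naturality]
  rfl

theorem evg_comp_specMap {D : Type u} [CommRing D] (φ : A →+* D) (p : Y ⟶ Spec (CommRingCat.of D))
    (y : Y) (a : A) : evg (p ≫ Spec.map (CommRingCat.ofHom φ)) y a = evg p y (φ a) := by
  show ((Scheme.ΓSpecIso (CommRingCat.of A)).inv ≫ (p ≫ Spec.map (CommRingCat.ofHom φ)).appTop ≫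
    Y.Γevaluation y).hom a = (CommRingCat.ofHom φ ≫ (Scheme.ΓSpecIso (CommRingCat.of D)).inv ≫
    p.appTop ≫ Y.Γevaluation y).hom a
  rw [Scheme.Hom.comp_appTop, Category.assoc, Scheme.ΓSpecIso_inv_naturality_assoc]

theorem evg_eq_zero_iff (p : Y ⟶ Spec (CommRingCat.of A)) (y : Y) (a : A) :
    evg p y a = 0 ↔ a ∈ (p y).asIdeal := by
  have h : evg p y a = (p.residueFieldMap y).hom (ev (A := A) (p y) a) :=
    (Scheme.Γevaluation_naturality_apply p y _).symm
  rw [h, map_eq_zero, ev_eq_zero_iff]

theorem evaluation_cst_pt (p : Y ⟶ Spec (CommRingCat.of A)) (V : Y.Opens) (y : Y) (hy : y ∈ V) (a : A) :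
    Y.evaluation V y hy (cst p V a) = evg p y a := by
  have h : cst p V a =
      Y.presheaf.map (homOfLE (le_top : V ≤ ⊤)).op (((Scheme.ΓSpecIso (CommRingCat.of A)).inv ≫ p.appTop).hom a) := by
    show ((Scheme.ΓSpecIso (CommRingCat.of A)).inv ≫ p.appLE ⊤ V le_top).hom a = _
    rw [Scheme.Hom.appLE]
    rfl
  rw [h, evaluation_map le_top]
  rfl

theorem fromSpec_cst (p : Y ⟶ Spec (CommRingCat.of A)) {V : Y.Opens} (hV : IsAffineOpen V) :
    hV.fromSpec ≫ p = Spec.map (CommRingCat.ofHom (cst p V)) := by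
  rw [show CommRingCat.ofHom (cst p V) =
      (Scheme.ΓSpecIso (CommRingCat.of A)).inv ≫ p.appLE ⊤ V le_top from rfl,
    Spec.map_comp, ← IsAffineOpen.SpecMap_appLE_fromSpec p (isAffineOpen_top _) hV le_top,
    IsAffineOpen.fromSpec_top, Scheme.isoSpec_Spec_inv]

/-- Over a prime, a surjective morphism which is of finite type on an affine chart has a point with
residue field finite over the residue field of the prime. -/
theorem exists_finite_point {K : Type u} [Field K] [Algebra A K]
    (hfrac : ∀ x : K, ∃ a b : A, algebraMap A K b ≠ 0 ∧ x * algebraMap A K b = algebraMap A K a)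
    (p : Y ⟶ Spec (CommRingCat.of A)) [Surjective p] {ι : Type*} (V : ι → Y.Opens)
    (hV : ∀ j, IsAffineOpen (V j)) (hcov : ∀ y : Y, ∃ j, y ∈ V j)
    (hft : ∀ j, (cst p (V j)).FiniteType) :
    ∃ (y : Y) (χ : K →+* Y.residueField y), χ.Finite ∧ χ.comp (algebraMap A K) = evg p y := by
  classical
  let P : PrimeSpectrum A := ⟨RingHom.ker (algebraMap A K), RingHom.ker_isPrime _⟩
  have lift : ∀ y : Y, p y = P → ∃ χ : K →+* Y.residueField y, χ.comp (algebraMap A K) = evg p y := by
    intro y hy
    have hb : ∀ b, algebraMap A K b ≠ 0 → evg p y b ≠ 0 := fun b hb h => hb (by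
      rw [evg_eq_zero_iff, hy] at h
      exact h)
    have hz : ∀ b, algebraMap A K b = 0 → evg p y b = 0 := fun b hb => by
      rw [evg_eq_zero_iff, hy]; exact hb
    choose num den hden hnd using hfrac
    let χ₀ : K → Y.residueField y := fun x => evg p y (num x) / evg p y (den x)
    have well : ∀ x a b, algebraMap A K b ≠ 0 → x * algebraMap A K b = algebraMap A K a →
        χ₀ x = evg p y a / evg p y b := by
      intro x a b hb' hx
      rw [div_eq_div_iff (hb _ (hden x)) (hb _ hb'), ← map_mul, ← map_mul, ← sub_eq_zero, ← map_sub]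
      apply hz
      rw [map_sub, map_mul, map_mul, ← hnd x, ← hx]
      ring
    refine ⟨{ toFun := χ₀, map_one' := ?_, map_mul' := fun x z => ?_, map_zero' := ?_,
              map_add' := fun x z => ?_ }, RingHom.ext fun a => ?_⟩
    · rw [well 1 1 1 (by simp) (by simp)]; simp
    · rw [well (x * z) (num x * num z) (den x * den z)
        (by rw [map_mul]; exact mul_ne_zero (hden x) (hden z))
        (by rw [map_mul, map_mul, ← hnd x, ← hnd z]; ring), map_mul, map_mul, div_mul_div_comm]
    · rw [well 0 0 1 (by simp) (by simp)]; simp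
    · rw [well (x + z) (num x * den z + num z * den x) (den x * den z)
        (by rw [map_mul]; exact mul_ne_zero (hden x) (hden z))
        (by simp only [map_mul, map_add, ← hnd x, ← hnd z]; ring),
        div_add_div _ _ (hb _ (hden x)) (hb _ (hden z))]
      simp only [map_add, map_mul]
      ring
    · show χ₀ _ = _
      rw [well _ a 1 (by simp) (by simp), map_one, div_one]
  obtain ⟨y₀, hy₀⟩ := p.surjective P
  obtain ⟨j, hj⟩ := hcov y₀
  obtain ⟨χ₀, hχ₀⟩ := lift y₀ hy₀
  let : Algebra A Γ(Y, V j) := (cst p (V j)).toAlgebra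
  have : Algebra.FiniteType A Γ(Y, V j) := hft j
  let : Algebra A (Y.residueField y₀) := (evg p y₀).toAlgebra
  let : Algebra K (Y.residueField y₀) := χ₀.toAlgebra
  have : IsScalarTower A K (Y.residueField y₀) :=
    IsScalarTower.of_algebraMap_eq fun a => (RingHom.congr_fun hχ₀ a).symm
  let ev₀ : Γ(Y, V j) →ₐ[A] Y.residueField y₀ :=
    { (Y.evaluation (V j) y₀ hj).hom with commutes' := fun a => evaluation_cst_pt p (V j) y₀ hj a }
  let T := TensorProduct A K Γ(Y, V j)
  let Ψ : T →ₐ[A] Y.residueField y₀ :=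
    Algebra.TensorProduct.productMap (IsScalarTower.toAlgHom A K _) ev₀
  have : Nontrivial T := Ψ.toRingHom.domain_nontrivial
  obtain ⟨m, hm⟩ := Ideal.exists_maximal T
  let L := T ⧸ m
  let : Field L := Ideal.Quotient.field m
  have : Algebra.FiniteType K L :=
    Algebra.FiniteType.of_surjective (Ideal.Quotient.mkₐ K m) Ideal.Quotient.mk_surjective
  have : Module.Finite K L := finite_of_finite_type_of_isJacobsonRing K L
  let γ : Γ(Y, V j) →ₐ[A] L := (Ideal.Quotient.mkₐ A m).comp Algebra.TensorProduct.includeRight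
  let z : PrimeSpectrum L := ⊥
  let f : Spec (CommRingCat.of L) ⟶ Y :=
    Spec.map (CommRingCat.ofHom γ.toRingHom) ≫ (hV j).fromSpec
  have hf : f ≫ p = Spec.map (CommRingCat.ofHom (algebraMap A L)) := by
    rw [Category.assoc, fromSpec_cst p (hV j), ← Spec.map_comp]
    congr 1
    exact CommRingCat.hom_ext γ.comp_algebraMap
  have hy : p (f z) = P := by
    rw [← Scheme.Hom.comp_apply, hf]
    refine PrimeSpectrum.ext ?_
    show Ideal.comap (algebraMap A L) (⊥ : Ideal L) = RingHom.ker (algebraMap A K)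
    ext a
    rw [Ideal.mem_comap, Ideal.mem_bot, RingHom.mem_ker, IsScalarTower.algebraMap_apply A K L, map_eq_zero]
  obtain ⟨χ, hχ⟩ := lift (f z) hy
  refine ⟨f z, χ, ?_, hχ⟩
  have hevs : Function.Surjective (ev z) := fun v => by
    obtain ⟨a, d, hd, he⟩ := exists_ev_frac z v
    have hd0 : d ≠ 0 := fun h => hd (h ▸ z.asIdeal.zero_mem)
    exact ⟨a * d⁻¹, by rw [map_mul, ← he, mul_assoc, ← map_mul, mul_inv_cancel₀ hd0, map_one, mul_one]⟩
  let ε := RingEquiv.ofBijective (ev z) ⟨(ev z).injective, hevs⟩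
  let θ : Y.residueField (f z) →+* L := ε.symm.toRingHom.comp (f.residueFieldMap z).hom
  have hθ : θ.comp χ = algebraMap K L := by
    have hA : ∀ a, θ (χ (algebraMap A K a)) = algebraMap A L a := fun a => by
      rw [← RingHom.comp_apply χ, hχ]
      apply ε.injective
      show ε (ε.symm ((f.residueFieldMap z).hom (evg p (f z) a))) = ev z (algebraMap A L a)
      rw [ε.apply_symm_apply, residueFieldMap_evg, hf, evg_specMap]
    refine RingHom.ext fun x => ?_
    obtain ⟨a, b, hb, hab⟩ := hfrac x
    have h1 := congrArg (θ.comp χ) hab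
    simp only [RingHom.comp_apply, map_mul, hA] at h1 ⊢
    rw [IsScalarTower.algebraMap_apply A K L a, ← hab, map_mul,
      IsScalarTower.algebraMap_apply A K L b] at h1
    exact mul_right_cancel₀ (by simpa using hb) h1
  let : Algebra K (Y.residueField (f z)) := χ.toAlgebra
  let θₐ : Y.residueField (f z) →ₐ[K] L :=
    { θ with commutes' := RingHom.congr_fun hθ }
  exact Module.Finite.of_injective θₐ.toLinearMap θ.injective

end Groth.Agent.HTop50
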