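import Groth.Agent.Approx60.Segre
import Mathlib

/-! Closed subschemes of projective space cut out by finitely many homogeneous polynomials. -/

set_option autoImplicit false
set_option linter.style.haveILetI false

universe u

open CategoryTheory CategoryTheory.Limits AlgebraicGeometry HomogeneousLocalization MvPolynomial

namespace Groth.Agent.HTop50

open Approx60.ProjCharts Approx60.Segre

variable {R : Type u} [CommRing R]

/-- The constants, as functions on an open of a scheme over `Spec R`. -/
noncomputable def cst {Y : Scheme.{u}} (p : Y ⟶ Spec (CommRingCat.of R)) (W : Y.Opens) :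
    R →+* Γ(Y, W) :=
  ((Scheme.ΓSpecIso (CommRingCat.of R)).inv ≫ p.appLE ⊤ W le_top).hom

theorem cst_comp {Y Z : Scheme.{u}} (q : Z ⟶ Y) (p : Y ⟶ Spec (CommRingCat.of R)) (W : Y.Opens)
    (W' : Z.Opens) (h : W' ≤ q ⁻¹ᵁ W) (r : R) :
    (q.appLE W W' h).hom (cst p W r) = cst (q ≫ p) W' r := by
  show ((Scheme.ΓSpecIso (CommRingCat.of R)).inv ≫ p.appLE ⊤ W le_top ≫ q.appLE W W' h).hom r = _
  rw [Scheme.Hom.appLE_comp_appLE]
  rfl

theorem cst_projSpace (n : ℕ) (W : (CohB1.ProjSpace n R).Opens) :
    cst (CohB1.ProjSpace.toSpec n R) W = const (k := R) (CohB1.ProjSpace n R) W := rfl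

/-- A morphism to an affine scheme with the standard charts of a closed subscheme of a projective
space: affine opens, coordinates generating their functions and changing in the usual way. -/
def HasProjCharts {Y : Scheme.{u}} (p : Y ⟶ Spec (CommRingCat.of R)) : Prop :=
  ∃ (n : ℕ) (V : Fin (n + 1) → Y.Opens) (x : ∀ j, Fin (n + 1) → Γ(Y, V j)),
    (∀ j, IsAffineOpen (V j)) ∧ (⨆ j, V j = ⊤) ∧ (∀ j, x j j = 1) ∧
    (∀ j l, Y.basicOpen (x j l) ≤ V l) ∧
    (∀ (y : Y) (j l : Fin (n + 1)) (hj : y ∈ V j) (hl : y ∈ V l) (k : Fin (n + 1)),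
      Y.evaluation (V j) y hj (x j k) = Y.evaluation (V j) y hj (x j l) * Y.evaluation (V l) y hl (x l k)) ∧
    ∀ (j : Fin (n + 1)) (c : Γ(Y, V j)),
      ∃ P : MvPolynomial (Fin (n + 1)) R, eval₂Hom (cst p (V j)) (x j) P = c

variable (n : ℕ)

local notation "Pr" => CohB1.ProjSpace n R

/-- The value of a polynomial on a standard chart. -/
noncomputable def chartEval (j : Fin (n + 1)) : MvPolynomial (Fin (n + 1)) R →+* Γ(Pr, U R n j) :=
  eval₂Hom (const (k := R) Pr (U R n j)) (fun i => f R n j i)

theorem chartEval_surjective (j : Fin (n + 1)) : Function.Surjective (chartEval (R := R) n j) := by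
  intro x
  obtain ⟨p, hp⟩ := exists_eval₂_eq R n j x
  exact ⟨p, hp⟩

/-- A point of a chart with given coordinates, as a ring map. -/
theorem exists_chart_hom (j : Fin (n + 1)) {S : Type u} [CommRing S] (φ : R →+* S)
    (a : Fin (n + 1) → S) (ha : a j = 1) :
    ∃ e : Γ(Pr, U R n j) →+* S, e.comp (chartEval n j) = eval₂Hom φ a := by
  let 𝒜 := CohB1.polyGrading n R
  let t : MvPolynomial (Fin (n + 1)) R := MvPolynomial.X j
  have hu : IsUnit (eval₂Hom φ a t) := by simp [t, ha]
  let i := Proj.basicOpenIsoAway 𝒜 t (X₁ R n j).2 one_pos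
  refine ⟨(awayEval (eval₂Hom φ a) t hu).comp i.inv.hom, MvPolynomial.ringHom_ext (fun r => ?_) fun l => ?_⟩
  · rw [RingHom.comp_apply, RingHom.comp_apply, chartEval, eval₂Hom_C, eval₂Hom_C]
    have hc := congrArg CommRingCat.Hom.hom (const_eq R n j)
    simp only [CommRingCat.hom_ofHom] at hc
    rw [hc]
    show awayEval (eval₂Hom φ a) t hu (i.inv.hom (i.hom.hom (fromZeroRingHom 𝒜 _ (algebraMap R (𝒜 0) r)))) = _
    rw [← CommRingCat.comp_apply, Iso.hom_inv_id]
    exact awayEval_const φ a t hu r
  · rw [RingHom.comp_apply, RingHom.comp_apply, chartEval, eval₂Hom_X', eval₂Hom_X']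
    show awayEval (eval₂Hom φ a) t hu (i.inv.hom (i.hom.hom (frac R n j (X₁ R n l)))) = _
    rw [← CommRingCat.comp_apply, Iso.hom_inv_id]
    exact awayEval_frac φ a j ha hu l

theorem ker_chartEval (j : Fin (n + 1)) :
    RingHom.ker (chartEval (R := R) n j) = Ideal.span {MvPolynomial.X j - 1} := by
  refine le_antisymm (fun p hp => ?_) ?_
  · let J := Ideal.span {(MvPolynomial.X j : MvPolynomial (Fin (n + 1)) R) - 1}
    obtain ⟨e, he⟩ := exists_chart_hom n j ((Ideal.Quotient.mk J).comp MvPolynomial.C)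
      (fun i => Ideal.Quotient.mk J (MvPolynomial.X i)) (by
        rw [← map_one (Ideal.Quotient.mk J), Ideal.Quotient.eq]
        exact Ideal.subset_span rfl)
    have h1 : eval₂Hom ((Ideal.Quotient.mk J).comp MvPolynomial.C)
        (fun i => Ideal.Quotient.mk J (MvPolynomial.X i)) = Ideal.Quotient.mk J :=
      MvPolynomial.ringHom_ext (fun r => by simp) fun l => by simp
    have h2 := RingHom.congr_fun (he.trans h1) p
    rw [RingHom.comp_apply, RingHom.mem_ker.1 hp, map_zero, eq_comm, Ideal.Quotient.eq_zero_iff_mem] at h2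
    exact h2
  · rw [Ideal.span_le]
    rintro _ rfl
    show chartEval n j (MvPolynomial.X j - 1) = 0
    rw [chartEval, map_sub, map_one, eval₂Hom_X', f_self, sub_self]

theorem lfp_toSpec : LocallyOfFinitePresentation (CohB1.ProjSpace.toSpec n R) := by
  rw [HasRingHomProperty.iff_exists_appLE (P := @LocallyOfFinitePresentation)
    (RingHom.finitePresentation_stableUnderComposition.stableUnderCompositionWithLocalizationAway
      RingHom.finitePresentation_holdsForLocalizationAway).left]
  intro x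
  obtain ⟨j, hj⟩ := exists_mem_U R n x
  refine ⟨⟨⊤, isAffineOpen_top _⟩, ⟨_, isAffineOpen_U R n j⟩, hj, le_top, ?_⟩
  have hfp : (const (k := R) Pr (U R n j)).FinitePresentation := by
    have h1 : (MvPolynomial.C : R →+* MvPolynomial (Fin (n + 1)) R).FinitePresentation :=
      RingHom.finitePresentation_algebraMap.2 inferInstance
    have h2 : (chartEval (R := R) n j).FinitePresentation :=
      RingHom.FinitePresentation.of_surjective _ (chartEval_surjective n j)
        (by rw [ker_chartEval]; exact Submodule.fg_span_singleton _)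
    have := h2.comp h1
    rwa [show (chartEval (R := R) n j).comp MvPolynomial.C = const (k := R) Pr (U R n j) from
      RingHom.ext fun r => eval₂Hom_C _ _ r] at this
  have h3 : (Scheme.ΓSpecIso (CommRingCat.of R)).hom.hom.FinitePresentation :=
    RingHom.FinitePresentation.of_bijective (ConcreteCategory.bijective_of_isIso _)
  have := hfp.comp h3
  convert this using 1
  ext r
  rw [RingHom.comp_apply]
  show _ = ((Scheme.ΓSpecIso (CommRingCat.of R)).inv ≫
    Scheme.Hom.appLE (Pr ↘ Spec (CommRingCat.of R)) ⊤ (U R n j) le_top).hom _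
  rw [← CommRingCat.comp_apply, Iso.hom_inv_id_assoc]
  rfl

variable {κ : Type u} [Finite κ] (G : κ → MvPolynomial (Fin (n + 1)) R)

/-- The dehomogenised equations on a chart. -/
noncomputable def chartIdeal (j : Fin (n + 1)) : Ideal Γ(Pr, U R n j) :=
  Ideal.span (Set.range fun i => chartEval n j (G i))

/-- The closed piece in a chart. -/
noncomputable def piece (j : Fin (n + 1)) :
    Spec (CommRingCat.of (Γ(Pr, U R n j) ⧸ chartIdeal n G j)) ⟶ Pr :=
  Spec.map (CommRingCat.ofHom (Ideal.Quotient.mk (chartIdeal n G j))) ≫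
    (isAffineOpen_U R n j).fromSpec

/-- The ideal sheaf cut out by the equations. -/
noncomputable def cutIdeal : (Pr).IdealSheafData := ⨅ j, (piece n G j).ker

omit [Finite κ] in
theorem quasiCompact_piece (j : Fin (n + 1)) : QuasiCompact (piece n G j) := by
  have := Approx60.Segre.isProper_toSpec R n
  exact QuasiCompact.of_comp _ (CohB1.ProjSpace.toSpec n R)

omit [Finite κ] in
theorem preimage_piece (j : Fin (n + 1)) : piece n G j ⁻¹ᵁ U R n j = ⊤ := by
  rw [piece, Scheme.Hom.comp_preimage, (isAffineOpen_U R n j).fromSpec_preimage_self]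
  rfl

/-- The value of the equations on the overlap. -/
theorem piece_appLE_eq_zero (d : κ → ℕ) (hG : ∀ i, (G i).IsHomogeneous (d i)) (j l : Fin (n + 1))
    (W : (Spec (CommRingCat.of (Γ(Pr, U R n j) ⧸ chartIdeal n G j))).Opens)
    (hW : W ≤ piece n G j ⁻¹ᵁ U R n l) (i : κ) :
    ((piece n G j).appLE (U R n l) W hW).hom (chartEval n l (G i)) = 0 := by
  let q := piece n G j
  have hWj : W ≤ q ⁻¹ᵁ U R n j := by rw [preimage_piece]; exact le_top
  have hW' : W ≤ q ⁻¹ᵁ (U R n l ⊓ U R n j) := fun w hw => ⟨hW hw, hWj hw⟩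
  let a := fun k => (q.appLE (U R n l) W hW).hom (f R n l k)
  let b := fun k => (q.appLE (U R n j) W hWj).hom (f R n j k)
  have hab : ∀ k, a k = a j * b k := fun k => by
    have h := congrArg (q.appLE (U R n l ⊓ U R n j) W hW').hom
      (f_cocycle R n l j k (O := U R n l ⊓ U R n j) inf_le_left inf_le_right)
    rw [map_mul, ← CommRingCat.comp_apply, ← CommRingCat.comp_apply, ← CommRingCat.comp_apply,
      Scheme.Hom.map_appLE, Scheme.Hom.map_appLE] at h
    exact h
  have hl : ∀ p, (q.appLE (U R n l) W hW).hom (chartEval n l p) =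
      eval₂Hom (cst (q ≫ CohB1.ProjSpace.toSpec n R) W) a p := fun p => by
    rw [chartEval, ← RingHom.comp_apply, comp_eval₂Hom]
    congr 2
    exact RingHom.ext fun r => cst_comp q (CohB1.ProjSpace.toSpec n R) (U R n l) W hW r
  have hj : ∀ p, (q.appLE (U R n j) W hWj).hom (chartEval n j p) =
      eval₂Hom (cst (q ≫ CohB1.ProjSpace.toSpec n R) W) b p := fun p => by
    rw [chartEval, ← RingHom.comp_apply, comp_eval₂Hom]
    congr 2
    exact RingHom.ext fun r => cst_comp q (CohB1.ProjSpace.toSpec n R) (U R n j) W hWj r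
  rw [hl, show a = fun k => a j * b k from funext hab, eval_smul _ _ _ (hG i), ← hj]
  suffices (q.appLE (U R n j) W hWj).hom (chartEval n j (G i)) = 0 by rw [this, mul_zero]
  have e : q.appLE (U R n j) W hWj = CommRingCat.ofHom (Ideal.Quotient.mk (chartIdeal n G j)) ≫
      (Scheme.ΓSpecIso _).inv ≫ (Spec (CommRingCat.of (Γ(Pr, U R n j) ⧸ chartIdeal n G j))).presheaf.map
        (homOfLE le_top).op := by
    rw [Scheme.ΓSpecIso_inv_naturality_assoc]
    show (Spec.map _ ≫ (isAffineOpen_U R n j).fromSpec).appLE _ _ _ = _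
    rw [← Scheme.Hom.appLE_comp_appLE _ _ _ ⊤ W (by rw [(isAffineOpen_U R n j).fromSpec_preimage_self])
      le_top]
    rw [Scheme.Hom.appLE, (isAffineOpen_U R n j).fromSpec_app_self]
    simp only [Scheme.Hom.appLE, Category.assoc, ← Functor.map_comp]
    congr 1
  rw [e, CommRingCat.comp_apply]
  refine (congrArg _ (?_ : _ = (0 : Γ(Pr, U R n j) ⧸ chartIdeal n G j))).trans (map_zero _)
  exact Ideal.Quotient.eq_zero_iff_mem.2 (Ideal.subset_span ⟨i, rfl⟩)

theorem cutIdeal_ideal (d : κ → ℕ) (hG : ∀ i, (G i).IsHomogeneous (d i)) (l : Fin (n + 1)) :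
    (cutIdeal n G).ideal ⟨U R n l, isAffineOpen_U R n l⟩ = chartIdeal n G l := by
  rw [cutIdeal, Scheme.IdealSheafData.ideal_iInf, iInf_apply]
  refine le_antisymm ((iInf_le _ l).trans ?_) (le_iInf fun j => ?_)
  · have := quasiCompact_piece n G l
    rw [Scheme.Hom.ker_apply]
    intro x hx
    have e : (piece n G l).appLE (U R n l) ⊤ (by rw [preimage_piece]) =
        CommRingCat.ofHom (Ideal.Quotient.mk (chartIdeal n G l)) ≫ (Scheme.ΓSpecIso _).inv := by
      show (Spec.map _ ≫ (isAffineOpen_U R n l).fromSpec).appLE _ _ _ = _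
      rw [← Scheme.Hom.appLE_comp_appLE _ _ _ ⊤ ⊤
        (by rw [(isAffineOpen_U R n l).fromSpec_preimage_self]) le_top]
      rw [Scheme.Hom.appLE, (isAffineOpen_U R n l).fromSpec_app_self, Scheme.ΓSpecIso_inv_naturality]
      simp only [Scheme.Hom.appLE, Category.assoc]
      congr 1
    have h0 : ((piece n G l).appLE (U R n l) ⊤ (by rw [preimage_piece])).hom x = 0 := by
      rw [Scheme.Hom.appLE, CommRingCat.comp_apply, RingHom.mem_ker.1 hx, map_zero]
    rw [e, CommRingCat.comp_apply] at h0
    exact Ideal.Quotient.eq_zero_iff_mem.1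
      ((ConcreteCategory.bijective_of_isIso (Scheme.ΓSpecIso _).inv).1
        (h0.trans (map_zero _).symm))
  · have := quasiCompact_piece n G j
    rw [Scheme.Hom.ker_apply, chartIdeal, Ideal.span_le]
    rintro _ ⟨i, rfl⟩
    show ((piece n G j).app (U R n l)).hom (chartEval n l (G i)) = 0
    rw [Scheme.Hom.app_eq_appLE]
    exact piece_appLE_eq_zero n G d hG j l _ le_rfl i

/-- A closed subscheme of projective space cut out by homogeneous equations: proper and of finite
presentation, with affine charts where the equations hold, and enough points. -/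
theorem exists_projCut (d : κ → ℕ) (hG : ∀ i, (G i).IsHomogeneous (d i)) :
    ∃ (Y : Scheme.{u}) (p : Y ⟶ Spec (CommRingCat.of R)) (V : Fin (n + 1) → Y.Opens)
      (x : ∀ j, Fin (n + 1) → Γ(Y, V j)),
      HasProjCharts p ∧
      IsProper p ∧ LocallyOfFinitePresentation p ∧ (∀ j, IsAffineOpen (V j)) ∧ (⨆ j, V j = ⊤) ∧
      (∀ j, x j j = 1) ∧ (∀ j i, eval₂Hom (cst p (V j)) (x j) (G i) = 0) ∧
      (∀ j l, Y.basicOpen (x j l) ≤ V l) ∧
      ∀ (K : Type u) [Field K] (φ : R →+* K) (a : Fin (n + 1) → K) (j : Fin (n + 1)), a j = 1 →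
        (∀ i, eval₂Hom φ a (G i) = 0) →
          ∃ y : Y, p y = (⟨RingHom.ker φ, RingHom.ker_isPrime φ⟩ : PrimeSpectrum R) := by
  let I := cutIdeal n G
  let ι := I.subschemeι
  have := Approx60.Segre.isProper_toSpec R n
  have := lfp_toSpec (R := R) n
  have hι : LocallyOfFinitePresentation ι := by
    rw [HasRingHomProperty.iff_exists_appLE (P := @LocallyOfFinitePresentation)
      (RingHom.finitePresentation_stableUnderComposition.stableUnderCompositionWithLocalizationAway
        RingHom.finitePresentation_holdsForLocalizationAway).left]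
    intro y
    obtain ⟨j, hj⟩ := exists_mem_U R n (ι y)
    refine ⟨⟨_, isAffineOpen_U R n j⟩, ⟨_, (isAffineOpen_U R n j).preimage ι⟩, hj, le_rfl, ?_⟩
    rw [← Scheme.Hom.app_eq_appLE]
    refine RingHom.FinitePresentation.of_surjective _ (ι.app_surjective _ (isAffineOpen_U R n j)) ?_
    rw [← Scheme.Hom.ker_apply _ ⟨_, isAffineOpen_U R n j⟩, I.ker_subschemeι, cutIdeal_ideal n G d hG]
    exact Submodule.fg_span (Set.finite_range _)
  have heval : ∀ j, eval₂Hom (cst (ι ≫ CohB1.ProjSpace.toSpec n R) (ι ⁻¹ᵁ U R n j))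
      (fun l => (ι.app (U R n j)).hom (f R n j l)) = (ι.app (U R n j)).hom.comp (chartEval n j) := by
    intro j
    rw [chartEval, comp_eval₂Hom]
    congr 1
    refine RingHom.ext fun r => ?_
    rw [Scheme.Hom.app_eq_appLE]
    exact (cst_comp ι (CohB1.ProjSpace.toSpec n R) (U R n j) _ le_rfl r).symm
  have hcharts : HasProjCharts (ι ≫ CohB1.ProjSpace.toSpec n R) := by
    refine ⟨n, fun j => ι ⁻¹ᵁ U R n j, fun j l => (ι.app (U R n j)).hom (f R n j l),
      fun j => (isAffineOpen_U R n j).preimage ι,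
      top_unique fun y _ => TopologicalSpace.Opens.mem_iSup.2 (exists_mem_U R n (ι y)),
      fun j => by simp only [f_self, map_one], fun j l => ?_, fun y j l hj hl k => ?_, fun j c => ?_⟩
    · rw [← Scheme.preimage_basicOpen]
      exact Scheme.Hom.preimage_mono ι (basicOpen_f R n j l)
    · show I.subscheme.evaluation _ y hj (ι.app (U R n j) (f R n j k)) =
        I.subscheme.evaluation _ y hj (ι.app (U R n j) (f R n j l)) *
          I.subscheme.evaluation _ y hl (ι.app (U R n l) (f R n l k))
      simp only [← Scheme.evaluation_naturality_apply, ← map_mul]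
      congr 1
      have hO : ι y ∈ U R n j ⊓ U R n l := ⟨hj, hl⟩
      have h := congrArg ((Pr).evaluation (U R n j ⊓ U R n l) (ι y) hO).hom
        (f_cocycle R n j l k (O := U R n j ⊓ U R n l) inf_le_left inf_le_right)
      rw [map_mul] at h
      simp only [Scheme.evaluation, CommRingCat.comp_apply] at h ⊢
      rw [(Pr).presheaf.germ_res_apply (homOfLE inf_le_left) (ι y) hO,
        (Pr).presheaf.germ_res_apply (homOfLE inf_le_left) (ι y) hO,
        (Pr).presheaf.germ_res_apply (homOfLE inf_le_right) (ι y) hO] at h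
      exact h
    · obtain ⟨c', rfl⟩ := ι.app_surjective _ (isAffineOpen_U R n j) c
      obtain ⟨P, rfl⟩ := chartEval_surjective n j c'
      exact ⟨P, RingHom.congr_fun (heval j) P⟩
  refine ⟨I.subscheme, ι ≫ CohB1.ProjSpace.toSpec n R, fun j => ι ⁻¹ᵁ U R n j,
    fun j l => (ι.app (U R n j)).hom (f R n j l), hcharts, inferInstance, inferInstance,
    fun j => (isAffineOpen_U R n j).preimage ι, ?_, fun j => by simp only [f_self, map_one], fun j i => ?_,
    fun j l => ?_, fun K _ φ a j haj hGa => ?_⟩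
  · exact top_unique fun y _ => TopologicalSpace.Opens.mem_iSup.2 (exists_mem_U R n (ι y))
  · have e := heval j
    rw [e, RingHom.comp_apply, ← RingHom.mem_ker, ← Scheme.Hom.ker_apply _ ⟨_, isAffineOpen_U R n j⟩,
      I.ker_subschemeι, cutIdeal_ideal n G d hG]
    exact Ideal.subset_span ⟨i, rfl⟩
  · rw [← Scheme.preimage_basicOpen]
    exact Scheme.Hom.preimage_mono ι (basicOpen_f R n j l)
  · obtain ⟨e, he⟩ := exists_chart_hom n j φ a haj
    have hJ : chartIdeal n G j ≤ RingHom.ker e := by
      rw [chartIdeal, Ideal.span_le]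
      rintro _ ⟨i, rfl⟩
      show e (chartEval n j (G i)) = 0
      rw [← RingHom.comp_apply, he]
      exact hGa i
    let x : ↥(Spec Γ(Pr, U R n j)) := (⟨RingHom.ker e, RingHom.ker_isPrime e⟩ : PrimeSpectrum _)
    have hx : (isAffineOpen_U R n j).fromSpec x ∈ Set.range ι := by
      rw [Scheme.IdealSheafData.range_subschemeι]
      have hmem : (isAffineOpen_U R n j).fromSpec x ∈ U R n j := by
        have : (isAffineOpen_U R n j).fromSpec x ∈ Set.range (isAffineOpen_U R n j).fromSpec := ⟨x, rfl⟩
        rwa [(isAffineOpen_U R n j).range_fromSpec] at this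
      rw [SetLike.mem_coe, Scheme.IdealSheafData.mem_support_iff_of_mem
        (U := ⟨_, isAffineOpen_U R n j⟩) hmem, cutIdeal_ideal n G d hG]
      rw [← Set.mem_preimage, (isAffineOpen_U R n j).fromSpec_preimage_zeroLocus]
      exact hJ
    obtain ⟨y, hy⟩ := hx
    refine ⟨y, ?_⟩
    rw [Scheme.Hom.comp_apply, hy, ← Scheme.Hom.comp_apply]
    show ((isAffineOpen_U R n j).fromSpec ≫ (Pr ↘ Spec (CommRingCat.of R))) x = _
    rw [← SpecMap_const (k := R) (isAffineOpen_U R n j)]
    refine PrimeSpectrum.ext ?_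
    show (RingHom.ker e).comap (const (k := R) Pr (U R n j)) = RingHom.ker φ
    rw [RingHom.comap_ker]
    congr 1
    refine RingHom.ext fun r => ?_
    have := RingHom.congr_fun he (MvPolynomial.C r)
    rwa [RingHom.comp_apply, chartEval, eval₂Hom_C, eval₂Hom_C] at this

end Groth.Agent.HTop50
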