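import Groth.Agent.HTop50.Devissage
import Groth.Agent.HTop50.OverTop
import Groth.Agent.HTop50.AlmostExists
import Groth.Agent.HTop50.ProjCut
import Groth.Agent.HTop50.PointEv
import Mathlib.AlgebraicGeometry.Morphisms.Flat

/-! Almost blow up squares with two generators and finite free maps give the devissage axioms. -/

set_option autoImplicit false
set_option linter.style.haveILetI false

universe w u

open CategoryTheory CategoryTheory.Limits AlgebraicGeometry Opposite

namespace Groth.Agent.HTop50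

/-- The ideal of global sections of an affine scheme given by two elements. -/
noncomputable def twoIdeal {A : CommRingCat.{u}} (f g : A) : Ideal Γ(Spec A, ⊤) :=
  Ideal.span {(Scheme.ΓSpecIso A).inv.hom f, (Scheme.ΓSpecIso A).inv.hom g}

theorem twoIdeal_eq_map {A : CommRingCat.{u}} (f g : A) :
    twoIdeal f g = (Ideal.span {f, g}).map (Scheme.ΓSpecIso A).inv.hom := by
  rw [twoIdeal, Ideal.map_span, Set.image_pair]

theorem ker_specMap_mk {A : CommRingCat.{u}} (f g : A) :
    (Spec.map (CommRingCat.ofHom (Ideal.Quotient.mk (Ideal.span {f, g})))).ker =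
      Scheme.IdealSheafData.ofIdealTop (twoIdeal f g) := by
  rw [Scheme.ker_of_isAffine]
  refine congrArg _ (Ideal.ext fun z => ?_)
  let φ : A ⟶ CommRingCat.of (A ⧸ Ideal.span {f, g}) := CommRingCat.ofHom (Ideal.Quotient.mk _)
  have h : (Scheme.ΓSpecIso _).hom.hom ((Spec.map φ).appTop.hom z) =
      Ideal.Quotient.mk (Ideal.span {f, g}) ((Scheme.ΓSpecIso A).hom.hom z) :=
    RingHom.congr_fun (congrArg CommRingCat.Hom.hom (Scheme.ΓSpecIso_naturality φ)) z
  have hinj := (Scheme.ΓSpecIso (CommRingCat.of (A ⧸ Ideal.span {f, g}))).commRingCatIsoToRingEquiv.injective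
  rw [RingHom.mem_ker, ← hinj.eq_iff, map_zero]
  show (Scheme.ΓSpecIso _).hom.hom ((Spec.map φ).appTop.hom z) = 0 ↔ _
  rw [h, Ideal.Quotient.eq_zero_iff_mem, twoIdeal_eq_map]
  have hz : (Scheme.ΓSpecIso A).inv.hom ((Scheme.ΓSpecIso A).hom.hom z) = z :=
    (Scheme.ΓSpecIso A).hom_inv_id_apply z
  constructor
  · intro hm
    rw [← hz]
    exact Ideal.mem_map_of_mem _ hm
  · intro hm
    obtain ⟨a, ha, rfl⟩ := (Ideal.mem_map_iff_of_surjective _
      (Scheme.ΓSpecIso A).symm.commRingCatIsoToRingEquiv.surjective).1 hm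
    show (Scheme.ΓSpecIso A).hom.hom ((Scheme.ΓSpecIso A).inv.hom a) ∈ _
    rwa [show (Scheme.ΓSpecIso A).hom.hom ((Scheme.ΓSpecIso A).inv.hom a) = a from
      (Scheme.ΓSpecIso A).inv_hom_id_apply a]

/-- The ideal of an affine open in the preimage of the centre. -/
theorem ideal_comap_twoIdeal {A : CommRingCat.{u}} (f g : A) {P : Scheme.{u}} (b : P ⟶ Spec A)
    (V : P.affineOpens) :
    ((Scheme.IdealSheafData.ofIdealTop (twoIdeal f g)).comap b).ideal V =
      Ideal.span {cst b V.1 f, cst b V.1 g} := by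
  rw [MP99.ideal_comap _ b ⟨⊤, isAffineOpen_top _⟩ V le_top, Scheme.IdealSheafData.ofIdealTop_ideal]
  have h1 : ∀ I : Ideal Γ(Spec A, ⊤),
      I.map ((Spec A).presheaf.map (homOfLE (le_top : (⊤ : (Spec A).Opens) ≤ ⊤)).op).hom = I := fun I => by
    rw [Subsingleton.elim (homOfLE (le_top : (⊤ : (Spec A).Opens) ≤ ⊤)) (𝟙 _), op_id,
      (Spec A).presheaf.map_id]
    exact Ideal.map_id I
  rw [h1, twoIdeal, Ideal.map_span, Set.image_pair]
  rfl

/-- A sieve is covering along a morphism as soon as it is so around every point. -/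
theorem pullback_mem_of_nhds {T : GrothendieckTopology Scheme.{u}} (hz : Scheme.zariskiTopology ≤ T)
    {P X : Scheme.{u}} (b : P ⟶ X) (R : Sieve X)
    (h : ∀ x : P, ∃ V : P.affineOpens, x ∈ V.1 ∧ R.pullback (V.2.fromSpec ≫ b) ∈ T _) :
    R.pullback b ∈ T P := by
  choose V hx hV using h
  have hcov : TopologicalSpace.IsOpenCover fun x => (V x).1 :=
    TopologicalSpace.IsOpenCover.mk (eq_top_iff.2 fun x _ => TopologicalSpace.Opens.mem_iSup.2 ⟨x, hx x⟩)
  refine T.transitive (hz _ (P.openCoverOfIsOpenCover _ hcov).mem_grothendieckTopology) _ ?_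
  rintro Z _ ⟨_, k, _, ⟨x⟩, rfl⟩
  rw [Sieve.pullback_comp]
  refine T.pullback_stable k ?_
  show (R.pullback b).pullback (V x).1.ι ∈ T _
  rw [← Sieve.pullback_comp, ← (V x).2.isoSpec_hom_fromSpec, Category.assoc, Sieve.pullback_comp]
  exact T.pullback_stable _ (hV x)

/-- If two elements generate a principal ideal, locally one divides the other. -/
theorem mem_of_span_eq_singleton {T : GrothendieckTopology Scheme.{u}}
    (hz : Scheme.zariskiTopology ≤ T) {C : CommRingCat.{u}} (f g t : C)
    (ht : Ideal.span {f, g} = Ideal.span {t}) (R : Sieve (Spec C))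
    (h : ∀ (B : CommRingCat.{u}) (φ : C ⟶ B), (φ.hom f ∣ φ.hom g ∨ φ.hom g ∣ φ.hom f) → R (Spec.map φ)) :
    R ∈ T (Spec C) := by
  obtain ⟨u, hu⟩ := Ideal.mem_span_singleton'.1 (ht ▸ Ideal.subset_span (Set.mem_insert f {g}) : f ∈ Ideal.span {t})
  obtain ⟨v, hv⟩ := Ideal.mem_span_singleton'.1
    (ht ▸ Ideal.subset_span (Set.mem_insert_of_mem f rfl) : g ∈ Ideal.span {t})
  obtain ⟨a, b, hab⟩ := Ideal.mem_span_pair.1 (ht.symm ▸ Ideal.mem_span_singleton_self t : t ∈ Ideal.span {f, g})
  let w : C := 1 - a * u - b * v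
  have hw : t * w = 0 := by
    simp only [w, ← hu, ← hv] at hab ⊢
    linear_combination -hab
  let e : ULift.{u} (Fin 3) → C := fun i => ![u, v, w] i.down
  have hone : Ideal.span (Set.range e) = ⊤ := by
    rw [Ideal.eq_top_iff_one, show (1 : C) = a * u + b * v + w by simp only [w]; ring]
    exact add_mem (add_mem (Ideal.mul_mem_left _ _ (Ideal.subset_span ⟨⟨0⟩, rfl⟩))
      (Ideal.mul_mem_left _ _ (Ideal.subset_span ⟨⟨1⟩, rfl⟩))) (Ideal.subset_span ⟨⟨2⟩, rfl⟩)
  refine T.superset_covering ?_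
    (hz _ (Scheme.affineOpenCoverOfSpanRangeEqTop (R := C) e hone).openCover.mem_grothendieckTopology)
  rw [Sieve.ofArrows, Sieve.generate_le_iff]
  rintro _ _ ⟨i⟩
  refine h _ (CommRingCat.ofHom (algebraMap C (Localization.Away (e i)))) ?_
  let α : C →+* Localization.Away (e i) := algebraMap C _
  have hunit : IsUnit (α (e i)) := IsLocalization.Away.algebraMap_isUnit _
  show α f ∣ α g ∨ α g ∣ α f
  obtain ⟨i⟩ := i
  fin_cases i
  · left
    rw [← hu, ← hv, map_mul, map_mul]
    exact mul_dvd_mul_right hunit.dvd _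
  · right
    rw [← hu, ← hv, map_mul, map_mul]
    exact mul_dvd_mul_right hunit.dvd _
  · left
    have h0 : α t = 0 := by
      have h1 := congrArg α hw
      rw [map_mul, map_zero] at h1
      exact hunit.mul_left_eq_zero.1 h1
    rw [← hu, ← hv, map_mul, map_mul, h0, mul_zero, mul_zero]

variable {S : Scheme.{u}} {F : (Over S)ᵒᵖ ⥤ Type w}

/-- The cartesian condition for two-generated almost blow up squares with affine corner. -/
def CartTwo (F : (Over S)ᵒᵖ ⥤ Type w) : Prop :=
  ∀ (E Z X' X : Over S) (e : E ⟶ X') (π : E ⟶ Z) (b : X' ⟶ X) (i : Z ⟶ X), IsAffine X.left →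
    HTop.IsAlmostBlowUpSquare e.left π.left b.left i.left →
    (∃ f₁ f₂ : Γ(X.left, ⊤), i.left.ker = Scheme.IdealSheafData.ofIdealTop (Ideal.span {f₁, f₂})) →
    ∀ (t : F.obj (op Z)) (s' : F.obj (op X')), F.map π.op t = F.map e.op s' →
      ∃! s : F.obj (op X), F.map i.op s = t ∧ F.map b.op s = s'

/-- The legs of a two-generated almost blow up square cover. -/
theorem pair_mem_descTop (hF : Presieve.IsSheaf (Scheme.zariskiTopology.over S) F) (hcart : CartTwo F)
    {E₀ Z₀ P X₀ : Scheme.{u}} [IsAffine X₀] {e₀ : E₀ ⟶ P} {π₀ : E₀ ⟶ Z₀} {b₀ : P ⟶ X₀} {i₀ : Z₀ ⟶ X₀}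
    (hsq : HTop.IsAlmostBlowUpSquare e₀ π₀ b₀ i₀) (f₁ f₂ : Γ(X₀, ⊤))
    (hker : i₀.ker = Scheme.IdealSheafData.ofIdealTop (Ideal.span {f₁, f₂})) :
    Sieve.generate (pairFam b₀ i₀).presieve₀ ∈ descTop F X₀ := by
  refine mem_descTop_of_affine hF fun U f x hU => ?_
  have := hsq.isClosedImmersion
  let gX : pullback b₀ f ⟶ P := pullback.fst b₀ f
  let b₁ : pullback b₀ f ⟶ U := pullback.snd b₀ f
  let gZ : pullback i₀ f ⟶ Z₀ := pullback.fst i₀ f
  let i₁ : pullback i₀ f ⟶ U := pullback.snd i₀ f
  let gE : pullback e₀ gX ⟶ E₀ := pullback.fst e₀ gX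
  let e₁ : pullback e₀ gX ⟶ pullback b₀ f := pullback.snd e₀ gX
  let π₁ : pullback e₀ gX ⟶ pullback i₀ f := pullback.lift (gE ≫ π₀) (e₁ ≫ b₁) (by
    rw [Category.assoc, ← hsq.isPullback.w, pullback.condition_assoc, Category.assoc]
    exact congrArg _ pullback.condition)
  have hsq₁ : HTop.IsAlmostBlowUpSquare e₁ π₁ b₁ i₁ :=
    isAlmostBlowUpSquare_baseChange hsq f (IsPullback.of_hasPullback b₀ f)
      (IsPullback.of_hasPullback i₀ f) (IsPullback.of_hasPullback e₀ gX) (pullback.lift_snd _ _ _)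
  have hker₁ : i₁.ker = Scheme.IdealSheafData.ofIdealTop (Ideal.span {f.appTop.hom f₁, f.appTop.hom f₂}) := by
    rw [ker_of_isPullback (IsPullback.of_hasPullback i₀ f), hker]
    refine Scheme.IdealSheafData.ext_of_isAffine ?_
    rw [MP99.ideal_comap_top_of_isAffine]
    simp only [Scheme.IdealSheafData.ofIdealTop_ideal]
    erw [X₀.presheaf.map_id, U.presheaf.map_id, Ideal.map_id, Ideal.map_id]
    rw [Ideal.map_span, Set.image_pair]
  let Ys : Bool → Over S := fun c => cond c (Over.mk (b₁ ≫ x)) (Over.mk (i₁ ≫ x))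
  let g : ∀ c, Ys c ⟶ Over.mk x := fun c => match c with
    | true => Over.homMk b₁ rfl
    | false => Over.homMk i₁ rfl
  have e : overSieve x ((Sieve.generate (pairFam b₀ i₀).presieve₀).pullback f) =
      Sieve.generate (Presieve.ofArrows Ys g) := by
    ext W l
    rw [Sieve.overEquiv_symm_iff]
    constructor
    · rintro ⟨_, a, _, ⟨c⟩, hc⟩
      cases c
      · refine ⟨Ys false, Over.homMk (pullback.lift a l.left hc) ?_, g false, Presieve.ofArrows.mk false,
          Over.OverMorphism.ext (pullback.lift_snd _ _ _)⟩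
        show pullback.lift a l.left hc ≫ i₁ ≫ x = W.hom
        rw [pullback.lift_snd_assoc]
        exact Over.w l
      · refine ⟨Ys true, Over.homMk (pullback.lift a l.left hc) ?_, g true, Presieve.ofArrows.mk true,
          Over.OverMorphism.ext (pullback.lift_snd _ _ _)⟩
        show pullback.lift a l.left hc ≫ b₁ ≫ x = W.hom
        rw [pullback.lift_snd_assoc]
        exact Over.w l
    · rintro ⟨_, a, _, ⟨c⟩, rfl⟩
      cases c
      · refine ⟨_, a.left ≫ gZ, i₀, Presieve.ofArrows.mk false, ?_⟩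
        show (a.left ≫ gZ) ≫ i₀ = (a.left ≫ i₁) ≫ f
        simp only [Category.assoc, gZ, i₁, pullback.condition]
      · refine ⟨_, a.left ≫ gX, b₀, Presieve.ofArrows.mk true, ?_⟩
        show (a.left ≫ gX) ≫ b₀ = (a.left ≫ b₁) ≫ f
        simp only [Category.assoc, gX, b₁, pullback.condition]
  rw [e, ← Presieve.isSheafFor_iff_generate, Presieve.isSheafFor_arrows_iff]
  intro z hz
  let EE : Over S := Over.mk (e₁ ≫ b₁ ≫ x)
  let oe : EE ⟶ Ys true := Over.homMk e₁ rfl
  let oπ : EE ⟶ Ys false := Over.homMk π₁ (by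
    show π₁ ≫ i₁ ≫ x = e₁ ≫ b₁ ≫ x
    rw [← reassoc_of% hsq₁.isPullback.w])
  have hcomm : oe ≫ g true = oπ ≫ g false := Over.OverMorphism.ext hsq₁.isPullback.w
  obtain ⟨s, hs, hu⟩ := hcart EE (Ys false) (Ys true) (Over.mk x) oe oπ (g true) (g false) hU hsq₁
    ⟨_, _, hker₁⟩ (z false) (z true) (hz true false EE oe oπ hcomm).symm
  refine ⟨s, fun c => ?_, fun s' hs' => hu s' ⟨hs' false, hs' true⟩⟩
  cases c
  · exact hs.1
  · exact hs.2

/-- Flat surjective proper morphisms of finite presentation cover. -/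
theorem flat_singleton_mem_descTop (hF : Presieve.IsSheaf (Scheme.zariskiTopology.over S) F)
    (hp : ∀ (X Y : Over S) (f : X ⟶ Y), IsAffine Y.left → Surjective f.left → Flat f.left →
      IsProper f.left → LocallyOfFinitePresentation f.left →
        Presieve.IsSheafFor F (Presieve.singleton f))
    {U V : Scheme.{u}} (g : V ⟶ U) [IsProper g] [Surjective g] [Flat g]
    [LocallyOfFinitePresentation g] :
    Sieve.generate (Presieve.singleton g) ∈ descTop F U := by
  refine mem_descTop_of_affine hF fun U' f x hU' => ?_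
  let k : Over.mk (pullback.fst f g ≫ x) ⟶ Over.mk x := Over.homMk (pullback.fst f g) rfl
  have e : overSieve x ((Sieve.generate (Presieve.singleton g)).pullback f) =
      Sieve.generate (Presieve.singleton k) := by
    ext W l
    rw [generate_singleton_pullback, Sieve.overEquiv_symm_iff]
    constructor
    · rintro ⟨Z, a, _, ⟨⟩, ha⟩
      refine ⟨_, Over.homMk (V := Over.mk (pullback.fst f g ≫ x)) a ?_, k, Presieve.singleton_self k,
        Over.OverMorphism.ext ha⟩
      show a ≫ pullback.fst f g ≫ x = W.hom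
      rw [reassoc_of% ha]
      exact Over.w l
    · rintro ⟨Z, a, _, ⟨⟩, rfl⟩
      exact ⟨_, a.left, _, Presieve.singleton_self _, rfl⟩
  rw [e, ← Presieve.isSheafFor_iff_generate]
  exact hp _ _ k hU' (inferInstanceAs (Surjective (pullback.fst f g)))
    (inferInstanceAs (Flat (pullback.fst f g))) (inferInstanceAs (IsProper (pullback.fst f g)))
    (inferInstanceAs (LocallyOfFinitePresentation (pullback.fst f g)))

/-- The conditions give the devissage axioms. -/
theorem devissageAxioms_descTop (hF : Presieve.IsSheaf (Scheme.zariskiTopology.over S) F)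
    (hp : ∀ (X Y : Over S) (f : X ⟶ Y), IsAffine Y.left → Surjective f.left → Flat f.left →
      IsProper f.left → LocallyOfFinitePresentation f.left →
        Presieve.IsSheafFor F (Presieve.singleton f))
    (hcart : CartTwo F) : DevissageAxioms (descTop F) where
  zariski := zariski_le_descTop hF
  free A B φ hfin hflat hfp hinj := by
    have : IsFinite (Spec.map φ) := (IsFinite.SpecMap_iff φ).2 hfin
    have : Flat (Spec.map φ) := HasRingHomProperty.Spec_iff.2 hflat
    have : LocallyOfFinitePresentation (Spec.map φ) := HasRingHomProperty.Spec_iff.2 hfp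
    have : Surjective (Spec.map φ) := ⟨(hfin.to_isIntegral).comap_surjective hinj⟩
    exact flat_singleton_mem_descTop hF hp (Spec.map φ)
  dvd A f g R hR := by
    let φ₀ : A ⟶ CommRingCat.of (A ⧸ Ideal.span {f, g}) := CommRingCat.ofHom (Ideal.Quotient.mk _)
    have : IsClosedImmersion (Spec.map φ₀) := IsClosedImmersion.spec_of_surjective _ Ideal.Quotient.mk_surjective
    have : LocallyOfFinitePresentation (Spec.map φ₀) :=
      HasRingHomProperty.Spec_iff.2 (RingHom.FinitePresentation.of_surjective _ Ideal.Quotient.mk_surjective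
        (by rw [show φ₀.hom = Ideal.Quotient.mk _ from rfl, Ideal.mk_ker]
            exact Submodule.fg_span (Set.toFinite _)))
    obtain ⟨E, P, e, π, b, hsq⟩ := exists_isAlmostBlowUpSquare (Spec.map φ₀)
    have hker := ker_specMap_mk f g
    refine (descTop F).transitive (pair_mem_descTop hF hcart hsq _ _ hker) _ ?_
    rintro Z _ ⟨_, k, _, ⟨c⟩, rfl⟩
    rw [Sieve.pullback_comp]
    refine (descTop F).pullback_stable k ?_
    cases c
    · show R.pullback (Spec.map φ₀) ∈ descTop F _
      have hz0 : ∀ z ∈ ({f, g} : Set A), φ₀.hom z = 0 := fun z hz =>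
        Ideal.Quotient.eq_zero_iff_mem.2 (Ideal.subset_span hz)
      have h1 : R (Spec.map φ₀) := hR _ φ₀ (Or.inl (by
        rw [hz0 f (by simp), hz0 g (by simp)]))
      rw [(R.mem_iff_pullback_eq_top _).1 h1]
      exact (descTop F).top_mem _
    · show R.pullback b ∈ descTop F _
      refine pullback_mem_of_nhds (zariski_le_descTop hF) b R fun x => ?_
      obtain ⟨V, hx, t, ht⟩ := hsq.locPrincipal x
      refine ⟨V, hx, ?_⟩
      change ((Spec.map φ₀).ker.comap b).ideal V = _ at ht
      rw [hker, ideal_comap_twoIdeal] at ht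
      rw [fromSpec_cst b V.2]
      refine mem_of_span_eq_singleton (zariski_le_descTop hF) (cst b V.1 f) (cst b V.1 g) t ht _
        fun B φ hφ => ?_
      show R (Spec.map φ ≫ Spec.map (CommRingCat.ofHom (cst b V.1)))
      rw [← Spec.map_comp]
      exact hR _ _ hφ
  torsion A _ f I hI R h1 h2 := by
    let J : (Spec A).IdealSheafData := Scheme.IdealSheafData.ofIdealTop (twoIdeal f f)
    have : LocallyOfFinitePresentation J.subschemeι := lfp_of_lft _
    obtain ⟨P, b, hb⟩ := FBlow13.exists_isBlowUp_scheme (Spec A) J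
    have hft : BlowUp.IsFiniteTypeIdeal J := fun U =>
      have := IsLocallyNoetherian.component_noetherian U
      IsNoetherian.noetherian _
    have := RegImm10.BlowModel.isProper_of_isBlowUp hft hb
    have := lfp_of_lft b
    refine (descTop F).transitive (pair_mem_descTop hF hcart
      (isAlmostBlowUpSquare_of_isBlowUp J hb) _ _ (Scheme.IdealSheafData.ker_subschemeι J)) _ ?_
    rintro Z _ ⟨_, k, _, ⟨c⟩, rfl⟩
    rw [Sieve.pullback_comp]
    refine (descTop F).pullback_stable k ?_
    cases c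
    · show R.pullback J.subschemeι ∈ descTop F _
      refine pullback_mem_of_nhds (zariski_le_descTop hF) _ R fun x => ?_
      obtain ⟨V, hV, hx, -⟩ := TopologicalSpace.Opens.isBasis_iff_nbhd.1 J.subscheme.isBasis_affineOpens
        (TopologicalSpace.Opens.mem_top x)
      refine ⟨⟨V, hV⟩, hx, ?_⟩
      rw [fromSpec_cst _ hV]
      have h0 : J.comap J.subschemeι = ⊥ := le_bot_iff.1 (by
        rw [← Scheme.IdealSheafData.le_map_iff_comap_le, Scheme.IdealSheafData.map_bot,
          Scheme.IdealSheafData.ker_subschemeι])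
      have hf : cst J.subschemeι V f = 0 := by
        have h := ideal_comap_twoIdeal f f J.subschemeι ⟨V, hV⟩
        change (J.comap J.subschemeι).ideal ⟨V, hV⟩ = _ at h
        rw [h0, Scheme.IdealSheafData.ideal_bot] at h
        exact (Submodule.mem_bot _).1 (h.ge (Ideal.subset_span (Set.mem_insert _ _)) :
          cst J.subschemeι V f ∈ (⊥ : Ideal Γ(J.subscheme, V)))
      refine pullback_mem_of_fac R _ _ (CommRingCat.ofHom (Ideal.Quotient.lift (Ideal.span {f})
        (cst J.subschemeι V) ?_)) rfl h2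
      intro z hz
      obtain ⟨c, rfl⟩ := Ideal.mem_span_singleton'.1 hz
      exact (map_mul (cst J.subschemeι V) c f).trans (mul_eq_zero_of_right _ hf)
    · show R.pullback b ∈ descTop F _
      refine pullback_mem_of_nhds (zariski_le_descTop hF) b R fun x => ?_
      obtain ⟨V, hx, t, htn, ht⟩ := hb.1 x
      refine ⟨V, hx, ?_⟩
      rw [ideal_comap_twoIdeal, Set.pair_eq_singleton] at ht
      obtain ⟨c, hc⟩ := Ideal.mem_span_singleton'.1
        (ht.ge (Ideal.mem_span_singleton_self t) : t ∈ Ideal.span {cst b V.1 f})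
      rw [fromSpec_cst b V.2]
      refine pullback_mem_of_fac R _ _ (CommRingCat.ofHom (Ideal.Quotient.lift I (cst b V.1) ?_)) rfl h1
      intro z hz
      obtain ⟨n, hn⟩ := hI z hz
      have h1 := congrArg (cst b V.1) hn
      rw [map_mul, map_pow, map_zero] at h1
      refine (mul_right_mem_nonZeroDivisors_eq_zero_iff (pow_mem htn n)).1 ?_
      rw [← hc, mul_pow]
      linear_combination c ^ n * h1

end Groth.Agent.HTop50
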