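import Groth.Agent.HTop50.AlmostBlowUp
import Groth.Agent.MP99.Basic

/-! Almost blow up squares: base change and closed subschemes. -/

set_option autoImplicit false
set_option linter.style.haveILetI false

universe u

open CategoryTheory CategoryTheory.Limits AlgebraicGeometry

namespace Groth.Agent.HTop50

variable {X Y T W : Scheme.{u}}

theorem toImage_dominant (f : X ⟶ Y) [QuasiCompact f] :
    IsSchemeTheoreticallyDominant f.toImage := by
  constructor
  refine Scheme.IdealSheafData.ext_of_iSup_eq_top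
    (fun U : Y.affineOpens => ⟨f.imageι ⁻¹ᵁ U.1, U.2.preimage f.imageι⟩) ?_ fun U => ?_
  · rw [← Scheme.Hom.preimage_iSup, show (⨆ U : Y.affineOpens, U.1) = ⊤ from
      Y.isBasis_affineOpens.isOpenCover.iSup_eq_top]
    rfl
  · rw [Scheme.Hom.ker_apply, Scheme.IdealSheafData.ideal_bot, Pi.bot_apply,
      ← RingHom.injective_iff_ker_eq_bot]
    exact f.toImage_app_injective U

/-- A morphism under which the inverse image of a locally principal ideal is effective Cartier kills
the sections supported on that ideal. -/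
theorem supportedOn_le_ker {I : X.IdealSheafData} (h : T ⟶ X)
    (he : BlowUp.IsEffCartierIdeal (I.comap h)) : HTop.supportedOn I ≤ h.ker := by
  have := MP99.dominant_of_isEffCartier he
  let A := ModPair.interior (I.comap h)
  let l := IsOpenImmersion.lift (ModPair.interior I).ι (A.ι ≫ h) (by
    rw [Scheme.Opens.range_ι]
    rintro _ ⟨a, rfl⟩
    have : a.1 ∈ h ⁻¹ᵁ ModPair.interior I := (MP99.interior_comap I h).le a.2
    exact this)
  have e : (A.ι ≫ h).ker = h.ker := by
    rw [Scheme.Hom.ker_comp, A.ι.ker_eq_bot, Scheme.IdealSheafData.map_bot]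
  rw [← e, ← IsOpenImmersion.lift_fac (ModPair.interior I).ι (A.ι ≫ h) _]
  exact Scheme.Hom.le_ker_comp l _

/-- The inverse image of a locally principal ideal is effective Cartier on the subscheme cut out by
the sections supported on it. -/
theorem isEffCartier_supportedOn {I : X.IdealSheafData} (hI : MP99.IsLocPrincipal I) :
    BlowUp.IsEffCartierIdeal (I.comap (HTop.supportedOn I).subschemeι) := by
  have := MP99.isAffineHom_interior hI
  have := toImage_dominant (ModPair.interior I).ι
  let w := (HTop.supportedOn I).subschemeι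
  let l : (ModPair.interior I).toScheme ⟶ (HTop.supportedOn I).subscheme :=
    (ModPair.interior I).ι.toImage
  have hw : l ≫ w = (ModPair.interior I).ι := (ModPair.interior I).ι.toImage_imageι
  have : IsSchemeTheoreticallyDominant l := toImage_dominant _
  have : IsSchemeTheoreticallyDominant (ModPair.interior (I.comap w)).ι := by
    refine MP99.ker_le_of_factor l _ (IsOpenImmersion.lift (ModPair.interior (I.comap w)).ι l ?_)
      (IsOpenImmersion.lift_fac _ _ _)
    rw [Scheme.Opens.range_ι, MP99.interior_comap]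
    rintro _ ⟨a, rfl⟩
    show w (l a) ∈ ModPair.interior I
    rw [← Scheme.Hom.comp_apply, hw]
    exact a.2
  exact MP99.isEffCartier_of_dominant (MP99.isLocPrincipal_comap hI w)

/-- The universal property of the blow up in terms of the almost blow up: maps to `X'` over `X`. -/
theorem eq_of_almost {X' : Scheme.{u}} {b : X' ⟶ X} {C : X.IdealSheafData}
    (hb : BlowUp.IsBlowUp ((HTop.supportedOn (C.comap b)).subschemeι ≫ b) C) {k₁ k₂ : T ⟶ X'}
    (h : k₁ ≫ b = k₂ ≫ b) (he : BlowUp.IsEffCartierIdeal (C.comap (k₁ ≫ b))) : k₁ = k₂ := by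
  let w := (HTop.supportedOn (C.comap b)).subschemeι
  have f₁ : w.ker ≤ k₁.ker := by
    simp only [w, Scheme.IdealSheafData.ker_subschemeι]
    exact supportedOn_le_ker k₁ (by rw [← Scheme.IdealSheafData.comap_comp]; exact he)
  have f₂ : w.ker ≤ k₂.ker := by
    simp only [w, Scheme.IdealSheafData.ker_subschemeι]
    exact supportedOn_le_ker k₂ (by rw [← Scheme.IdealSheafData.comap_comp, ← h]; exact he)
  rw [← IsClosedImmersion.lift_fac w k₁ f₁, ← IsClosedImmersion.lift_fac w k₂ f₂]
  refine congrArg (· ≫ w) ((hb.2 T (k₁ ≫ b) he).unique ?_ ?_)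
  · rw [← Category.assoc, IsClosedImmersion.lift_fac]
  · rw [← Category.assoc, IsClosedImmersion.lift_fac, h]

theorem exists_lift_almost {X' : Scheme.{u}} {b : X' ⟶ X} {C : X.IdealSheafData}
    (hb : BlowUp.IsBlowUp ((HTop.supportedOn (C.comap b)).subschemeι ≫ b) C) (g : T ⟶ X)
    (he : BlowUp.IsEffCartierIdeal (C.comap g)) : ∃ k : T ⟶ X', k ≫ b = g := by
  obtain ⟨l, hl, -⟩ := hb.2 T g he
  exact ⟨l ≫ _, by rw [Category.assoc]; exact hl⟩

theorem ker_of_isPullback {Z Z₁ : Scheme.{u}} {i : Z ⟶ X} {g : Y ⟶ X} {gZ : Z₁ ⟶ Z} {i₁ : Z₁ ⟶ Y}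
    [IsClosedImmersion i] (h : IsPullback gZ i₁ i g) : i₁.ker = i.ker.comap g := by
  rw [← Scheme.IdealSheafData.ker_fst_of_isClosedImmersion, ← h.flip.isoPullback_hom_fst,
    Scheme.Hom.ker_comp_of_isIso]

theorem isBlowUp_baseChange {X' X₁ : Scheme.{u}} {b : X' ⟶ X} {C : X.IdealSheafData} (g : Y ⟶ X)
    {b₁ : X₁ ⟶ Y} {gX : X₁ ⟶ X'} (hX : IsPullback gX b₁ b g)
    (hI : MP99.IsLocPrincipal ((C.comap g).comap b₁))
    (hb : BlowUp.IsBlowUp ((HTop.supportedOn (C.comap b)).subschemeι ≫ b) C) :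
    BlowUp.IsBlowUp ((HTop.supportedOn ((C.comap g).comap b₁)).subschemeι ≫ b₁) (C.comap g) := by
  let w₁ := (HTop.supportedOn ((C.comap g).comap b₁)).subschemeι
  refine ⟨?_, fun T h he => ?_⟩
  · rw [Scheme.IdealSheafData.comap_comp]
    exact isEffCartier_supportedOn hI
  have he' : BlowUp.IsEffCartierIdeal (C.comap (h ≫ g)) := by
    rw [Scheme.IdealSheafData.comap_comp]; exact he
  obtain ⟨k, hk⟩ := exists_lift_almost hb (h ≫ g) he'
  let m := hX.lift k h hk
  have hf : w₁.ker ≤ m.ker := by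
    simp only [w₁, Scheme.IdealSheafData.ker_subschemeι]
    refine supportedOn_le_ker m ?_
    rw [← Scheme.IdealSheafData.comap_comp, hX.lift_snd]
    exact he
  refine ⟨IsClosedImmersion.lift w₁ m hf, ?_, fun l hl => ?_⟩
  · show IsClosedImmersion.lift w₁ m hf ≫ w₁ ≫ b₁ = h
    rw [← Category.assoc, IsClosedImmersion.lift_fac, hX.lift_snd]
  · rw [← cancel_mono w₁, IsClosedImmersion.lift_fac]
    refine hX.hom_ext ?_ ?_
    · rw [hX.lift_fst]
      have hl' : ((l ≫ w₁) ≫ gX) ≫ b = h ≫ g := by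
        simp only [Category.assoc, hX.w]
        rw [← reassoc_of% hl]
      exact eq_of_almost hb (hl'.trans hk.symm) (by rw [hl']; exact he')
    · rw [hX.lift_snd, Category.assoc]
      exact hl

theorem isAlmostBlowUpSquare_baseChange {E Z X' E₁ Z₁ X₁ : Scheme.{u}} {e : E ⟶ X'} {π : E ⟶ Z}
    {b : X' ⟶ X} {i : Z ⟶ X} (h : HTop.IsAlmostBlowUpSquare e π b i) (g : Y ⟶ X) {b₁ : X₁ ⟶ Y}
    {gX : X₁ ⟶ X'} (hX : IsPullback gX b₁ b g) {i₁ : Z₁ ⟶ Y} {gZ : Z₁ ⟶ Z}
    (hZ : IsPullback gZ i₁ i g) {e₁ : E₁ ⟶ X₁} {gE : E₁ ⟶ E} (hE : IsPullback gE e₁ e gX)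
    {π₁ : E₁ ⟶ Z₁} (hπ : π₁ ≫ i₁ = e₁ ≫ b₁) : HTop.IsAlmostBlowUpSquare e₁ π₁ b₁ i₁ := by
  have := h.isClosedImmersion
  have hi₁ : IsClosedImmersion i₁ := MorphismProperty.of_isPullback hZ ‹IsClosedImmersion i›
  have hker := ker_of_isPullback hZ
  have hcomap : (i.ker.comap g).comap b₁ = (i.ker.comap b).comap gX := by
    rw [← Scheme.IdealSheafData.comap_comp, ← hX.w, Scheme.IdealSheafData.comap_comp]
  have hI : MP99.IsLocPrincipal ((i.ker.comap g).comap b₁) := by
    rw [hcomap]; exact MP99.isLocPrincipal_comap h.locPrincipal gX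
  refine ⟨hi₁, MorphismProperty.of_isPullback (P := @LocallyOfFinitePresentation.{u}) hZ
    h.finitePresentation_base, ?_, hker ▸ hI,
    MorphismProperty.of_isPullback (P := @IsProper.{u}) hX h.isProper,
    MorphismProperty.of_isPullback (P := @LocallyOfFinitePresentation.{u}) hX h.finitePresentation, ?_⟩
  · have h1 := hE.paste_horiz h.isPullback.flip
    rw [hX.w] at h1
    have hm : gE ≫ π = π₁ ≫ gZ := by
      rw [← cancel_mono i, Category.assoc, Category.assoc, hZ.w, ← h.isPullback.w, reassoc_of% hπ,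
        hE.w_assoc, hX.w]
    rw [hm] at h1
    exact (IsPullback.of_right h1 hπ hZ).flip
  · rw [hker]
    exact isBlowUp_baseChange g hX hI h.isBlowUp

theorem ker_le_supportedOn_iff {E Z X' EW : Scheme.{u}} {e : E ⟶ X'} {π : E ⟶ Z} {b : X' ⟶ X}
    {i : Z ⟶ X} (h : HTop.IsAlmostBlowUpSquare e π b i) (w : W ⟶ X') [IsClosedImmersion w]
    [LocallyOfFinitePresentation w] {eW : EW ⟶ W} {gE : EW ⟶ E} (hEW : IsPullback gE eW e w) :
    w.ker ≤ HTop.supportedOn (i.ker.comap b) ↔
      HTop.IsAlmostBlowUpSquare eW (gE ≫ π) (w ≫ b) i := by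
  have := h.isClosedImmersion
  have := h.isProper
  have := h.finitePresentation
  let w' := (HTop.supportedOn (i.ker.comap (w ≫ b))).subschemeι
  let u' := (HTop.supportedOn (i.ker.comap b)).subschemeι
  have hI : MP99.IsLocPrincipal (i.ker.comap (w ≫ b)) := by
    rw [Scheme.IdealSheafData.comap_comp]; exact MP99.isLocPrincipal_comap h.locPrincipal w
  have heff : BlowUp.IsEffCartierIdeal (i.ker.comap (w' ≫ w ≫ b)) := by
    exact (congrArg BlowUp.IsEffCartierIdeal
      (Scheme.IdealSheafData.comap_comp i.ker w' (w ≫ b))).mpr (isEffCartier_supportedOn hI)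
  have huker : u'.ker = HTop.supportedOn (i.ker.comap b) := Scheme.IdealSheafData.ker_subschemeι _
  constructor
  · intro hle
    refine ⟨h.isClosedImmersion, h.finitePresentation_base, (hEW.paste_horiz h.isPullback.flip).flip,
      hI, inferInstance, inferInstance, heff, fun T g he => ?_⟩
    obtain ⟨k, hk⟩ := exists_lift_almost h.isBlowUp g he
    have hke : BlowUp.IsEffCartierIdeal (i.ker.comap (k ≫ b)) := by rw [hk]; exact he
    have hkw : w.ker ≤ k.ker :=
      hle.trans (supportedOn_le_ker k (by rw [← Scheme.IdealSheafData.comap_comp]; exact hke))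
    let m := IsClosedImmersion.lift w k hkw
    have hm : m ≫ w = k := IsClosedImmersion.lift_fac _ _ _
    have hmw : w'.ker ≤ m.ker := by
      simp only [w', Scheme.IdealSheafData.ker_subschemeι]
      refine supportedOn_le_ker m ?_
      rw [← Scheme.IdealSheafData.comap_comp, reassoc_of% hm]
      exact hke
    refine ⟨IsClosedImmersion.lift w' m hmw, ?_, fun l hl => ?_⟩
    · show IsClosedImmersion.lift w' m hmw ≫ w' ≫ w ≫ b = g
      rw [← Category.assoc, IsClosedImmersion.lift_fac, reassoc_of% hm, hk]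
    · rw [← cancel_mono w', IsClosedImmersion.lift_fac, ← cancel_mono w, hm]
      have hl' : ((l ≫ w') ≫ w) ≫ b = g := by simp only [Category.assoc]; exact hl
      exact eq_of_almost h.isBlowUp (hl'.trans hk.symm) (by rw [hl']; exact he)
  · intro hW
    obtain ⟨l, hl, -⟩ := hW.isBlowUp.2 _ (u' ≫ b) h.isBlowUp.1
    change l ≫ w' ≫ w ≫ b = u' ≫ b at hl
    have he : BlowUp.IsEffCartierIdeal (i.ker.comap (u' ≫ b)) := h.isBlowUp.1
    have : l ≫ w' ≫ w = u' :=
      eq_of_almost h.isBlowUp (by simp only [Category.assoc]; exact hl)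
        (by simp only [Category.assoc]; rw [hl]; exact he)
    rw [← huker, ← this, ← Category.assoc]
    exact Scheme.Hom.le_ker_comp _ _

end Groth.Agent.HTop50
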