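import Groth.Agent.HTop50.Cartesian
import Groth.Agent.MP99.BlowUpDense

/-! An almost blow up is an isomorphism away from its centre. -/

set_option autoImplicit false
set_option linter.style.haveILetI false

universe u

open CategoryTheory CategoryTheory.Limits AlgebraicGeometry

namespace Groth.Agent.HTop50

/-- The complement of a closed subscheme, as an open. -/
theorem mem_interior_or_range {Z X : Scheme.{u}} (i : Z ⟶ X) [IsClosedImmersion i] (x : X) :
    x ∈ ModPair.interior i.ker ∨ x ∈ Set.range i := by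
  by_cases h : x ∈ Set.range i
  · exact Or.inr h
  · refine Or.inl fun hx => h ?_
    rw [SetLike.mem_coe, ← SetLike.mem_coe, i.support_ker, i.isClosedEmbedding.isClosed_range.closure_eq] at hx
    exact hx

/-- An almost blow up is an isomorphism away from its centre. -/
theorem isIso_restrict_of_almost {X' X : Scheme.{u}} (b : X' ⟶ X) (C : X.IdealSheafData)
    (hb : BlowUp.IsBlowUp ((HTop.supportedOn (C.comap b)).subschemeι ≫ b) C) :
    IsIso (b ∣_ ModPair.interior C) := by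
  let U := ModPair.interior C
  let w := (HTop.supportedOn (C.comap b)).subschemeι
  have h := MP99.isIso_restrict_of_isBlowUp _ _ hb
  rw [morphismRestrict_comp] at h
  have hV : HTop.awayFrom (C.comap b) = b ⁻¹ᵁ U := by
    ext x
    simp [HTop.awayFrom, U, ModPair.interior, Scheme.IdealSheafData.support_comap]
  have hker : w.ker ≤ (b ⁻¹ᵁ U).ι.ker := by
    rw [← hV]
    simp [w, Scheme.IdealSheafData.ker_subschemeι, HTop.supportedOn]
  let l := IsClosedImmersion.lift w (b ⁻¹ᵁ U).ι hker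
  have hl : Set.range l ⊆ Set.range (w ⁻¹ᵁ (b ⁻¹ᵁ U)).ι := by
    rw [Scheme.Opens.range_ι]
    rintro _ ⟨v, rfl⟩
    show w (l v) ∈ b ⁻¹ᵁ U
    rw [← Scheme.Hom.comp_apply, IsClosedImmersion.lift_fac]
    exact v.2
  let s := IsOpenImmersion.lift (w ⁻¹ᵁ (b ⁻¹ᵁ U)).ι l hl
  have hs : s ≫ w ∣_ (b ⁻¹ᵁ U) = 𝟙 _ := by
    rw [← cancel_mono (b ⁻¹ᵁ U).ι, Category.assoc, morphismRestrict_ι, IsOpenImmersion.lift_fac_assoc,
      IsClosedImmersion.lift_fac, Category.id_comp]
  have : IsSplitEpi (w ∣_ (b ⁻¹ᵁ U)) := IsSplitEpi.mk' ⟨s, hs⟩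
  have : IsIso (w ∣_ (b ⁻¹ᵁ U)) := isIso_of_mono_of_isSplitEpi _
  exact @IsIso.of_isIso_comp_left _ _ _ _ _ (w ∣_ (b ⁻¹ᵁ U)) (b ∣_ U) _ h

end Groth.Agent.HTop50
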