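import Groth.Agent.VCov93.Cover
import Groth.Prelude.Def_MoreMor
import Mathlib.CategoryTheory.Sites.Over

/-! Proper surjective morphisms as ph and h coverings; thickenings. -/

set_option autoImplicit false

universe w w' u

open CategoryTheory CategoryTheory.Limits AlgebraicGeometry Opposite

namespace Groth.Agent.HTop50

/-- Over an affine base a proper surjective morphism gives a standard ph covering by finitely many
affine opens of its source. -/
theorem exists_standardPh_of_proper {Z P : Scheme.{u}} [IsAffine Z] (q : P ⟶ Z) [IsProper q]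
    [Surjective q] : ∃ (n : ℕ) (W : Fin n → P.Opens), (∀ k, IsAffineOpen (W k)) ∧
      HTop.IsStandardPh
        (⟨Fin n, fun k => ((W k : P.Opens) : Scheme.{u}), fun k => (W k).ι ≫ q⟩ :
          PreZeroHypercover.{0} Z) := by
  classical
  have : CompactSpace P := QuasiCompact.compactSpace_of_compactSpace q
  choose O hO hxO _ using fun x : P =>
    TopologicalSpace.Opens.isBasis_iff_nbhd.1 P.isBasis_affineOpens
      (TopologicalSpace.Opens.mem_top x)
  obtain ⟨t, ht⟩ := isCompact_univ.elim_finite_subcover (fun x => (O x : Set P))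
    (fun x => (O x).2) fun x _ => Set.mem_iUnion.2 ⟨x, hxO x⟩
  let e := t.equivFin.symm
  let W : Fin t.card → P.Opens := fun k => O (e k)
  refine ⟨t.card, W, fun k => hO _, ⟨inferInstance, inferInstanceAs (Finite (Fin _)), fun k => hO _,
    P, q, fun k => (W k).ι, inferInstance, inferInstance, fun k => inferInstanceAs
      (IsOpenImmersion (W k).ι), fun k => rfl, fun x => ?_⟩⟩
  obtain ⟨a, hat, hxa⟩ := Set.mem_iUnion₂.1 (ht (Set.mem_univ x))
  refine ⟨t.equivFin ⟨a, hat⟩, ?_⟩
  change x ∈ Set.range (W (t.equivFin ⟨a, hat⟩)).ι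
  rw [Scheme.Opens.range_ι]
  simpa [W, e] using hxa

/-- A proper surjective morphism is a ph covering. -/
theorem isPhCover_of_proper {X Y : Scheme.{u}} (f : X ⟶ Y) [IsProper f] [Surjective f] :
    HTop.IsPhCover (PreZeroHypercover.singleton.{w} f) := by
  refine ⟨fun _ => inferInstanceAs (LocallyOfFiniteType f), fun U => ?_⟩
  have : IsAffine (U : Y.Opens) := U.2
  obtain ⟨n, W, -, hF⟩ := exists_standardPh_of_proper (pullback.snd f (U : Y.Opens).ι)
  refine ⟨_, hF, fun k => ⟨PUnit.unit, (W k).ι ≫ pullback.fst f (U : Y.Opens).ι, ?_⟩⟩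
  show ((W k).ι ≫ pullback.fst f _) ≫ f = ((W k).ι ≫ pullback.snd f _) ≫ (U : Y.Opens).ι
  rw [Category.assoc, pullback.condition, Category.assoc]

/-- A proper surjective morphism has the valuative lifting property. -/
theorem hasValLift_of_proper {X Y : Scheme.{u}} (f : X ⟶ Y) [IsProper f] [Surjective f] :
    HTop.HasValLift (PreZeroHypercover.singleton.{w} f) := by
  intro V _ _ g
  obtain ⟨W, i1, i2, φ, hφ, g', hg'⟩ := VCov93.exists_lift_of_proper_surjective f V g
  exact ⟨W, i1, i2, φ, hφ, PUnit.unit, g', hg'⟩

/-- A proper surjective morphism of finite presentation is an h covering. -/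
theorem isHCover_of_proper {X Y : Scheme.{u}} (f : X ⟶ Y) [IsProper f] [Surjective f]
    [LocallyOfFinitePresentation f] : HTop.IsHCover (PreZeroHypercover.singleton.{w} f) :=
  ⟨fun _ => inferInstanceAs (LocallyOfFinitePresentation f),
    VCov93.isVCover_of_hasValLift f (hasValLift_of_proper f)⟩

/-- The sieve generated by a single covering morphism over `S` covers. -/
theorem generate_singleton_mem_over {J : GrothendieckTopology Scheme.{u}} {S : Scheme.{u}} {X Y : Over S}
    (f : X ⟶ Y) (h : Sieve.generate (Presieve.singleton f.left) ∈ J Y.left) :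
    Sieve.generate (Presieve.singleton f) ∈ (J.over S) Y := by
  rw [GrothendieckTopology.mem_over_iff, Sieve.overEquiv_generate]
  refine J.superset_covering (Sieve.generate_mono ?_) h
  rintro Z g ⟨⟩
  exact ⟨X, f, 𝟙 _, Presieve.singleton_self f, (Category.id_comp _).symm⟩

theorem singleton_presieve₀ {X Y : Scheme.{u}} (f : X ⟶ Y) :
    (PreZeroHypercover.singleton.{w} f).presieve₀ = Presieve.singleton f := by
  simp

theorem ph_singleton_mem {S : Scheme.{u}} {X Y : Over S} (f : X ⟶ Y) [IsProper f.left]
    [Surjective f.left] : Sieve.generate (Presieve.singleton f) ∈ HTop.Jph S Y := by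
  refine generate_singleton_mem_over f (Precoverage.generate_mem_toGrothendieck ?_)
  rw [← singleton_presieve₀.{0} f.left]
  exact (HTop.presieve₀_mem_phPrecoverage_iff _).2 (isPhCover_of_proper f.left)

theorem h_singleton_mem {S : Scheme.{u}} {X Y : Over S} (f : X ⟶ Y)
    (h : HTop.IsHCover (PreZeroHypercover.singleton.{0} f.left)) :
    Sieve.generate (Presieve.singleton f) ∈ HTop.Jh S Y := by
  refine generate_singleton_mem_over f (Precoverage.generate_mem_toGrothendieck ?_)
  rw [← singleton_presieve₀.{0} f.left]
  exact (HTop.presieve₀_mem_hPrecoverage_iff _).2 h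

/-- Sheaves are invariant under covering monomorphisms. -/
theorem bijective_map_of_mono {C : Type*} [Category C] {J : GrothendieckTopology C} {P : Cᵒᵖ ⥤ Type w}
    (hP : Presieve.IsSheaf J P) {X Y : C} (f : X ⟶ Y) [Mono f]
    (hf : Sieve.generate (Presieve.singleton f) ∈ J Y) : Function.Bijective (P.map f.op) := by
  have h := Presieve.isSheafFor_singleton.1 ((Presieve.isSheafFor_iff_generate _).2 (hP _ hf))
  have key : ∀ x, ∃! y, P.map f.op y = x := fun x => h x fun p₁ p₂ e => by
    rw [(cancel_mono f).1 e]
  exact (Function.bijective_iff_existsUnique _).2 key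

theorem mono_of_isThickening {S : Scheme.{u}} {X Y : Over S} (f : X ⟶ Y)
    (h : MoreMor.IsThickening f.left) : Mono f := by
  have := h.1
  have : Mono f.left := inferInstance
  exact Over.mono_of_mono_left f

end Groth.Agent.HTop50
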