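import Groth.Agent.HTop50.Topology
import Mathlib.AlgebraicGeometry.Sites.Fpqc

/-! V sheaves as Zariski sheaves with the sheaf property for standard V coverings. -/

set_option autoImplicit false
set_option linter.style.haveILetI false

universe w w' u

open CategoryTheory CategoryTheory.Limits AlgebraicGeometry Opposite

namespace Groth.Agent.HTop50

variable {F : Scheme.{u}ᵒᵖ ⥤ Type w}

theorem generate_presieve₀_pullback {T T' : Scheme.{u}} (g : T' ⟶ T)
    (E : PreZeroHypercover.{w'} T) :
    (Sieve.generate E.presieve₀).pullback g = Sieve.generate (E.pullback₁ g).presieve₀ := by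
  ext Z k
  constructor
  · rintro ⟨Y, a, _, ⟨i⟩, ha⟩
    exact ⟨_, pullback.lift k a ha.symm, _, ⟨i⟩, pullback.lift_fst _ _ _⟩
  · rintro ⟨Y, a, _, ⟨i⟩, rfl⟩
    exact ⟨_, a ≫ pullback.snd g (E.f i), _, ⟨i⟩, by
      simp only [PreZeroHypercover.pullback₁_f, Category.assoc]
      exact congrArg (a ≫ ·) pullback.condition.symm⟩

theorem isVCover_of_isStandardV {T : Scheme.{u}} {E : PreZeroHypercover.{0} T}
    (h : HTop.IsStandardV E) : HTop.IsVCover E := fun U => by
  have : IsAffine (U : T.Opens) := U.2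
  exact ⟨E.pullback₁ (U : T.Opens).ι, VCov93.isStandardV_pullback _ h,
    fun k => ⟨k, pullback.snd _ _, pullback.condition.symm⟩⟩

theorem isVCover_of_isStandardV' {T : Scheme.{u}} {E : PreZeroHypercover.{w'} T}
    (h : HTop.IsStandardV E) : HTop.IsVCover E := fun U => by
  have : IsAffine (U : T.Opens) := U.2
  have := h.finite_index
  let e := Finite.equivFin E.I₀
  let G : PreZeroHypercover.{0} T :=
    ⟨Fin (Nat.card E.I₀), fun k => E.X (e.symm k), fun k => E.f (e.symm k)⟩
  have hG : HTop.IsStandardV G := ⟨h.isAffine, inferInstanceAs (Finite (Fin _)),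
    fun k => h.isAffine_obj _, VCov93.hasValLift_of_refines (fun i => by
      obtain ⟨k, rfl⟩ := e.symm.surjective i
      exact ⟨k, 𝟙 _, by simp [G]⟩) h.lift⟩
  exact ⟨G.pullback₁ (U : T.Opens).ι, VCov93.isStandardV_pullback _ hG,
    fun k => ⟨e.symm k, pullback.snd _ _, pullback.condition.symm⟩⟩

/-- A V sheaf is a Zariski sheaf. -/
theorem isSheaf_zariski_of_isVSheaf (h : HTop.IsVSheaf F) :
    Presieve.IsSheaf Scheme.zariskiTopology F := by
  refine (Precoverage.isSheaf_toGrothendieck_iff _).2 fun {X Y f} R hR => ?_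
  obtain ⟨E, rfl⟩ := R.exists_eq_preZeroHypercover
  have hE : HTop.IsVCover E := VCov93.isVCover_of_fpqc
    ⟨E, Scheme.zariskiPrecoverage_le_fpqcPrecoverage _ hR⟩
  rw [generate_presieve₀_pullback, ← Presieve.isSheafFor_iff_generate]
  exact h _ ((HTop.presieve₀_mem_vPrecoverage_iff _).2 (VCov93.isVCover_pullback f hE))

/-- A Zariski sheaf with the sheaf property for standard V coverings is a V sheaf. -/
theorem isVSheaf_of_zariski_standardV (hF : Presieve.IsSheaf Scheme.zariskiTopology F)
    (hs : ∀ (Y : Scheme.{u}) (G : PreZeroHypercover.{0} Y), HTop.IsStandardV G →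
      Sieve.generate G.presieve₀ ∈ sheafTop F Y) : HTop.IsVSheaf F := by
  intro X R hR
  obtain ⟨E, hE, rfl⟩ := PreZeroHypercoverFamily.mem_precoverage_iff.1 hR
  refine isSheafFor_of_generate_mem (mem_sheafTop_of_affine hF fun Y f hY => ?_)
  obtain ⟨G, hG, href⟩ := VCov93.exists_standard_refining hE f
  refine isSheafFor_of_mem ((sheafTop F).superset_covering ?_ (hs Y G hG))
  rw [Sieve.generate_le_iff]
  rintro _ _ ⟨k⟩
  obtain ⟨i, a, ha⟩ := href k
  exact ⟨_, a, _, ⟨i⟩, ha⟩

theorem isStandardV_sigmaDesc {T : Scheme.{u}} {E : PreZeroHypercover.{0} T}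
    (h : HTop.IsStandardV E) :
    HTop.IsStandardV (PreZeroHypercover.singleton.{w'} (Sigma.desc E.f)) := by
  have := h.finite_index
  have : ∀ i, IsAffine (E.X i) := h.isAffine_obj
  refine ⟨h.isAffine, inferInstanceAs (Finite PUnit), fun _ => inferInstanceAs (IsAffine (∐ E.X)),
    VCov93.hasValLift_of_refines (fun i => ⟨PUnit.unit, Sigma.ι E.X i, ?_⟩) h.lift⟩
  exact Sigma.ι_desc _ _

/-- The family of inclusions into a finite coproduct is covering. -/
theorem sigmaι_mem (hF : Presieve.IsSheaf Scheme.zariskiTopology F) {ι : Type} [Finite ι]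
    (X : ι → Scheme.{u}) : Sieve.ofArrows X (Sigma.ι X) ∈ sheafTop F (∐ X) :=
  ofArrows_mem_of_opens hF X (Sigma.ι X) (fun i => inferInstance) fun x => by
    obtain ⟨i, y, hy⟩ := (sigmaOpenCover X).exists_eq x
    exact ⟨i, y, hy⟩

/-- Standard V coverings cover if the single arrows among them do. -/
theorem generate_standardV_mem (hF : Presieve.IsSheaf Scheme.zariskiTopology F)
    (hs : ∀ (U V : Scheme.{u}) (f : V ⟶ U),
      HTop.IsStandardV (PreZeroHypercover.singleton.{w'} f) →
        Presieve.IsSheafFor F (Presieve.singleton f))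
    {Y : Scheme.{u}} (G : PreZeroHypercover.{0} Y) (hG : HTop.IsStandardV G) :
    Sieve.generate G.presieve₀ ∈ sheafTop F Y := by
  have := hG.finite_index
  have hσ := isStandardV_sigmaDesc.{w'} hG
  refine (sheafTop F).transitive (S := Sieve.generate (Presieve.singleton (Sigma.desc G.f)))
    (mem_sheafTop_of_affine hF fun Z g hZ => ?_) _ ?_
  · rw [generate_singleton_pullback, ← Presieve.isSheafFor_iff_generate]
    refine hs _ _ _ ⟨hZ, inferInstanceAs (Finite PUnit), fun _ => ?_,
      (VCov93.isStandardV_pullback g hσ).lift⟩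
    exact (VCov93.isStandardV_pullback g hσ).isAffine_obj PUnit.unit
  intro Z g hg
  obtain ⟨_, b, _, ⟨⟩, rfl⟩ := hg
  rw [Sieve.pullback_comp]
  refine (sheafTop F).pullback_stable b ((sheafTop F).superset_covering ?_ (sigmaι_mem hF G.X))
  rw [Sieve.generate_le_iff]
  rintro _ _ ⟨k⟩
  exact ⟨_, 𝟙 _, _, ⟨k⟩, by rw [Category.id_comp]; exact (Sigma.ι_desc _ _).symm⟩

theorem isSheafFor_of_isStandardV_of_isVSheaf (h : HTop.IsVSheaf F) {T : Scheme.{u}}
    {E : PreZeroHypercover.{w'} T} (hE : HTop.IsStandardV E) :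
    Presieve.IsSheafFor F E.presieve₀ :=
  h _ ((HTop.presieve₀_mem_vPrecoverage_iff _).2 (isVCover_of_isStandardV' hE))

end Groth.Agent.HTop50
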