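import Groth.Agent.HTop50.ValDescent
import Groth.Agent.HTop50.HRefine
import Groth.Agent.HTop50.VSheaf
import Mathlib.AlgebraicGeometry.AffineTransitionLimit

/-! Standard h coverings of a limit of affine schemes descend. -/

set_option autoImplicit false
set_option linter.style.haveILetI false

universe w u

open CategoryTheory CategoryTheory.Limits AlgebraicGeometry MvPolynomial IsLocalRing

namespace Groth.Agent.HTop50

/-- A finite presentation by finitely many equations. -/
theorem exists_presentation {A R : Type u} [CommRing A] [CommRing R] (γ : A →+* R)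
    (hγ : γ.FinitePresentation) :
    ∃ (σ : Sys A) (a : Fin σ.n → R), Function.Surjective (eval₂Hom γ a) ∧
      RingHom.ker (eval₂Hom γ a) = Ideal.span (Set.range σ.F) := by
  algebraize [γ]
  obtain ⟨n, f, hf, hker⟩ := Algebra.FinitePresentation.out (R := A) (A := R)
  obtain ⟨r, F, hF⟩ := Submodule.fg_iff_exists_fin_generating_family.1 hker
  have hev : eval₂Hom γ (fun i => f (X i)) = (f : MvPolynomial (Fin n) A →+* R) :=
    MvPolynomial.ringHom_ext (fun a => by
      rw [eval₂Hom_C]; exact (f.commutes a).symm) fun i => eval₂Hom_X' _ _ _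
  exact ⟨⟨n, r, F⟩, fun i => f (X i), by rw [hev]; exact hf, by rw [hev]; exact hF.symm⟩

/-- A pushout square of presented algebras. -/
theorem isPushout_of_presentation {R R' S T : CommRingCat.{u}} {π : R ⟶ R'} {γ : R' ⟶ S}
    {α : R ⟶ T} {β : T ⟶ S} {n : ℕ} (xs : Fin n → T) (a : Fin n → S)
    (comm : π ≫ γ = α ≫ β) (hβ : ∀ o, β.hom (xs o) = a o)
    (hgen : Function.Surjective (eval₂Hom α.hom xs))
    (hsur : Function.Surjective (eval₂Hom γ.hom a))
    (hker : RingHom.ker (eval₂Hom γ.hom a) ≤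
      Ideal.map (MvPolynomial.map π.hom) (RingHom.ker (eval₂Hom α.hom xs))) :
    IsPushout π α γ β := by
  refine ⟨⟨comm⟩, ⟨PushoutCocone.IsColimit.mk _
    (fun s => CommRingCat.ofHom (RingHom.liftOfSurjective _ hsur
      ⟨eval₂Hom s.inl.hom (fun o => s.inr.hom (xs o)), ?_⟩)) (fun s => ?_) (fun s => ?_)
    (fun s mm h1 h2 => ?_)⟩⟩
  · refine hker.trans (Ideal.map_le_iff_le_comap.2 fun p hp => ?_)
    rw [Ideal.mem_comap, RingHom.mem_ker, eval₂Hom_map_hom,
      show s.inl.hom.comp π.hom = s.inr.hom.comp α.hom from congrArg CommRingCat.Hom.hom s.condition,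
      ← comp_eval₂Hom, RingHom.comp_apply, RingHom.mem_ker.1 hp, map_zero]
  · refine CommRingCat.hom_ext (RingHom.ext fun r => ?_)
    rw [CommRingCat.hom_comp, RingHom.comp_apply, CommRingCat.hom_ofHom,
      ← eval₂Hom_C γ.hom a r, RingHom.liftOfRightInverse_comp_apply]
    exact eval₂Hom_C _ _ r
  · refine CommRingCat.hom_ext ((RingHom.cancel_right hgen).1 (MvPolynomial.ringHom_ext
      (fun r => ?_) fun o => ?_))
    · simp only [RingHom.comp_apply, CommRingCat.hom_comp, CommRingCat.hom_ofHom, eval₂Hom_C]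
      rw [show β.hom (α.hom r) = γ.hom (π.hom r) from
          (RingHom.congr_fun (congrArg CommRingCat.Hom.hom comm) r).symm,
        ← eval₂Hom_C γ.hom a (π.hom r), RingHom.liftOfRightInverse_comp_apply]
      exact (eval₂Hom_C _ _ _).trans (RingHom.congr_fun (congrArg CommRingCat.Hom.hom s.condition) r)
    · simp only [RingHom.comp_apply, CommRingCat.hom_comp, CommRingCat.hom_ofHom, eval₂Hom_X']
      rw [hβ, ← eval₂Hom_X' γ.hom a o, RingHom.liftOfRightInverse_comp_apply]
      exact eval₂Hom_X' _ _ _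
  · refine CommRingCat.hom_ext ((RingHom.cancel_right hsur).1 (MvPolynomial.ringHom_ext
      (fun r => ?_) fun o => ?_))
    · simp only [RingHom.comp_apply, CommRingCat.hom_ofHom, RingHom.liftOfRightInverse_comp_apply]
      rw [eval₂Hom_C, eval₂Hom_C, ← h1]
      rfl
    · simp only [RingHom.comp_apply, CommRingCat.hom_ofHom, RingHom.liftOfRightInverse_comp_apply]
      rw [eval₂Hom_X', eval₂Hom_X', ← h2, ← hβ o]
      rfl

variable {I : Type u} [SmallCategory I] [IsCofiltered I] {D : I ⥤ Scheme.{u}}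
  [∀ i, IsAffine (D.obj i)] {c : Cone D}

/-- A finitely generated subring of the functions on the limit comes from a stage. -/
theorem exists_stage (hc : IsLimit c) (G : Finset Γ(c.pt, ⊤)) :
    ∃ (k : I) (ρ : Subring.closure (G : Set Γ(c.pt, ⊤)) →+* Γ(D.obj k, ⊤)),
      (c.π.app k).appTop.hom.comp ρ = (Subring.closure (G : Set Γ(c.pt, ⊤))).subtype := by
  classical
  choose j t ht using fun g : G => exists_appTop_π_eq_of_isAffine_of_isLimit D c hc g.1
  obtain ⟨i, hi⟩ := IsCofiltered.inf_objs_exists (Finset.univ.image j)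
  have hi' : ∀ g : G, Nonempty (i ⟶ j g) := fun g => hi (Finset.mem_image_of_mem j (Finset.mem_univ g))
  let t' : G → Γ(D.obj i, ⊤) := fun g => (D.map (hi' g).some).appTop.hom (t g)
  have ht' : ∀ g, (c.π.app i).appTop.hom (t' g) = g.1 := fun g => by
    rw [← ht g, ← c.w (hi' g).some, Scheme.Hom.comp_appTop, CommRingCat.comp_apply]
  let ψ : MvPolynomial G ℤ →+* Γ(c.pt, ⊤) := eval₂Hom (Int.castRingHom _) (fun g => g.1)
  let ψi : MvPolynomial G ℤ →+* Γ(D.obj i, ⊤) := eval₂Hom (Int.castRingHom _) t'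
  have hψ : (c.π.app i).appTop.hom.comp ψi = ψ :=
    MvPolynomial.ringHom_ext (fun n => by simp [ψ, ψi]) fun g => by simp [ψ, ψi, ht']
  obtain ⟨S, hS⟩ := (IsNoetherian.noetherian (RingHom.ker ψ) : (RingHom.ker ψ).FG)
  have hzero : ∀ r : S, ∃ (k : I) (f : k ⟶ i), (D.map f).appTop.hom (ψi r.1) = 0 := fun r => by
    refine exists_appTop_map_eq_zero_of_isAffine_of_isLimit D c hc i _ ?_
    show ((c.π.app i).appTop.hom.comp ψi) r.1 = 0
    rw [hψ]
    exact RingHom.mem_ker.1 (hS ▸ Ideal.subset_span r.2)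
  choose kr fr hfr using hzero
  obtain ⟨co⟩ := IsCofiltered.cone_nonempty (WidePullbackShape.wideCospan i kr fr)
  let k := co.pt
  let f : k ⟶ i := co.π.app none
  have hf : ∀ r : S, ∃ g : k ⟶ kr r, g ≫ fr r = f := fun r => ⟨co.π.app (some r), co.w (WidePullbackShape.Hom.term r)⟩
  let ψk : MvPolynomial G ℤ →+* Γ(D.obj k, ⊤) := (D.map f).appTop.hom.comp ψi
  have hker : RingHom.ker ψ ≤ RingHom.ker ψk := by
    rw [← hS, Ideal.span_le]
    intro r hr
    obtain ⟨g, hg⟩ := hf ⟨r, hr⟩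
    show (D.map f).appTop.hom (ψi r) = 0
    rw [← hg, D.map_comp, Scheme.Hom.comp_appTop, CommRingCat.comp_apply, hfr ⟨r, hr⟩, map_zero]
  have hrange : ψ.range = Subring.closure (G : Set Γ(c.pt, ⊤)) := by
    refine le_antisymm ?_ (Subring.closure_le.2 fun g hg => ⟨X ⟨g, hg⟩, eval₂Hom_X' _ _ _⟩)
    rintro _ ⟨p, rfl⟩
    induction p using MvPolynomial.induction_on with
    | C n => simp [ψ, intCast_mem]
    | add p q hp hq => rw [map_add]; exact add_mem hp hq
    | mul_X p g hp =>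
      rw [map_mul, eval₂Hom_X']
      exact mul_mem hp (Subring.subset_closure g.2)
  let q : MvPolynomial G ℤ →+* Subring.closure (G : Set Γ(c.pt, ⊤)) :=
    ψ.codRestrict _ fun p => hrange ▸ ⟨p, rfl⟩
  have hq : Function.Surjective q := fun z => by
    obtain ⟨p, hp⟩ : (z : Γ(c.pt, ⊤)) ∈ ψ.range := by rw [hrange]; exact z.2
    exact ⟨p, Subtype.ext hp⟩
  have hkerq : RingHom.ker q ≤ RingHom.ker ψk := fun p hp =>
    hker (congrArg Subtype.val (RingHom.mem_ker.1 hp) : ψ p = 0)
  refine ⟨k, RingHom.liftOfSurjective q hq ⟨ψk, hkerq⟩, RingHom.ext fun z => ?_⟩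
  obtain ⟨p, rfl⟩ := hq z
  rw [RingHom.comp_apply, RingHom.liftOfRightInverse_comp_apply]
  show (c.π.app k).appTop.hom ((D.map f).appTop.hom (ψi p)) = ψ p
  rw [← hψ, RingHom.comp_apply, ← CommRingCat.comp_apply, ← Scheme.Hom.comp_appTop, c.w f]

set_option maxHeartbeats 1000000 in
-- bookkeeping
/-- The descent. -/
theorem exists_standardH_descent (hc : IsLimit c) [IsAffine c.pt] (V : PreZeroHypercover.{w} c.pt)
    (hV : HTop.IsStandardH V) : ∃ (i : I) (W : PreZeroHypercover.{w} (D.obj i)),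
      HTop.IsStandardH W ∧ ∃ (σ : V.I₀ ≃ W.I₀) (e : ∀ j, V.X j ≅ pullback (c.π.app i) (W.f (σ j))),
        ∀ j, (e j).hom ≫ pullback.fst (c.π.app i) (W.f (σ j)) = V.f j := by
  classical
  have := hV.finite_index
  have haff : ∀ j, IsAffine (V.X j) := hV.isAffine_obj
  have hfp : ∀ j, (V.f j).appTop.hom.FinitePresentation := fun j => by
    have := HasRingHomProperty.appLE @LocallyOfFinitePresentation _ (hV.finitePresentation j)
      ⟨_, isAffineOpen_top c.pt⟩ ⟨_, isAffineOpen_top (V.X j)⟩ le_top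
    rwa [show (V.f j).appLE ⊤ ⊤ le_top = (V.f j).appTop from (Scheme.Hom.app_eq_appLE _).symm] at this
  choose σ a hsur hker using fun j => exists_presentation (V.f j).appTop.hom (hfp j)
  let ε := Finite.equivFin V.I₀
  -- the subring of coefficients
  let C : Finset Γ(c.pt, ⊤) := Finset.univ.biUnion fun m : Fin (Nat.card V.I₀) =>
    Finset.univ.biUnion fun r : Fin (σ (ε.symm m)).r =>
      ((σ (ε.symm m)).F r).support.image fun e => ((σ (ε.symm m)).F r).coeff e
  let A₀ := Subring.closure (C : Set Γ(c.pt, ⊤))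
  have hlift : ∀ (m : Fin (Nat.card V.I₀)) (r : Fin (σ (ε.symm m)).r),
      ∃ F₀ : MvPolynomial (Fin (σ (ε.symm m)).n) A₀,
        MvPolynomial.map A₀.subtype F₀ = (σ (ε.symm m)).F r := fun m r => by
    refine ⟨∑ e ∈ ((σ (ε.symm m)).F r).support.attach,
      monomial e.1 ⟨((σ (ε.symm m)).F r).coeff e.1, Subring.subset_closure (Finset.mem_biUnion.2
        ⟨m, Finset.mem_univ _, Finset.mem_biUnion.2 ⟨r, Finset.mem_univ _,
          Finset.mem_image_of_mem _ e.2⟩⟩)⟩, ?_⟩
    rw [map_sum]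
    simp only [map_monomial, Subring.subtype_apply]
    rw [Finset.sum_attach _ fun e => monomial e (((σ (ε.symm m)).F r).coeff e)]
    exact ((σ (ε.symm m)).F r).as_sum.symm
  choose F₀ hF₀ using hlift
  let σ₀ : Fin (Nat.card V.I₀) → Sys A₀ := fun m => ⟨(σ (ε.symm m)).n, (σ (ε.symm m)).r, F₀ m⟩
  have hs : ∀ (V' : Type u) [CommRing V'] [IsDomain V'] [ValuationRing V']
      [IsAlgClosed (FractionRing V')] (φ : Γ(c.pt, ⊤) →+* V'),
      ∃ (m : Fin (Nat.card V.I₀)) (b : Fin (σ₀ m).n → V'), ∀ k,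
        eval₂Hom (φ.comp A₀.subtype) b ((σ₀ m).F k) = 0 := by
    intro V' _ _ _ _ φ
    obtain ⟨G, hG, href⟩ := VCov93.exists_standard_refining hV.isVCover (𝟙 c.pt)
    choose ik h hh using href
    obtain ⟨W', _, _, ψ, ⟨hψi, hψl⟩, k, g', hg'⟩ :=
      hG.lift (CommRingCat.of V') (Spec.map (CommRingCat.ofHom φ) ≫ c.pt.isoSpec.inv)
    let l : Spec W' ⟶ Spec Γ(V.X (ik k), ⊤) := g' ≫ h k ≫ (V.X (ik k)).isoSpec.hom
    have hl : (V.f (ik k)).appTop ≫ Spec.preimage l = CommRingCat.ofHom φ ≫ ψ := by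
      apply Spec.map_injective
      rw [Spec.map_comp, Spec.map_comp, Spec.map_preimage, ← cancel_mono c.pt.isoSpec.inv,
        Category.assoc, Category.assoc, Scheme.isoSpec_inv_naturality]
      simp only [Category.assoc, Iso.hom_inv_id_assoc, hh k, Category.comp_id, hg']
    suffices key : ∀ (j : V.I₀) (l' : Spec W' ⟶ Spec Γ(V.X j, ⊤)),
        (V.f j).appTop ≫ Spec.preimage l' = CommRingCat.ofHom φ ≫ ψ →
          ∀ m, ε.symm m = j → ∃ (m : Fin (Nat.card V.I₀)) (b : Fin (σ₀ m).n → V'), ∀ k,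
            eval₂Hom (φ.comp A₀.subtype) b ((σ₀ m).F k) = 0 from
      key _ l hl _ (ε.symm_apply_apply _)
    rintro _ l' hl' m rfl
    obtain ⟨b', hb'⟩ := exists_solution_of_ext (φ.comp A₀.subtype) ψ.hom hψi (σ₀ m)
      (fun o => (Spec.preimage l').hom (a (ε.symm m) o)) fun e => by
        have hz : eval₂Hom (V.f (ε.symm m)).appTop.hom (a (ε.symm m)) ((σ (ε.symm m)).F e) = 0 := by
          rw [← RingHom.mem_ker, hker]; exact Ideal.subset_span ⟨e, rfl⟩
        have h1 := congrArg (Spec.preimage l').hom hz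
        rw [map_zero, ← RingHom.comp_apply, comp_eval₂Hom, ← CommRingCat.hom_comp, hl', ← hF₀ m e,
          eval₂Hom_map_hom] at h1
        exact h1
    exact ⟨m, b', hb'⟩
  obtain ⟨F, hF⟩ := exists_subring_valuative σ₀ hs
  obtain ⟨i, ρ, hρ⟩ := exists_stage hc (C ∪ F)
  have hsup : A₀ ⊔ Subring.closure (F : Set Γ(c.pt, ⊤)) =
      Subring.closure ((C ∪ F : Finset _) : Set Γ(c.pt, ⊤)) := by
    rw [Finset.coe_union, Subring.closure_union]
  let ρ₀ : A₀ →+* Γ(D.obj i, ⊤) := ρ.comp (Subring.inclusion (hsup ▸ le_sup_left))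
  let π := (c.π.app i).appTop
  have hρ₀ : π.hom.comp ρ₀ = A₀.subtype := by
    rw [← RingHom.comp_assoc, hρ]
    rfl
  -- the descended family
  let J : ∀ m, Ideal (MvPolynomial (Fin (σ₀ m).n) Γ(D.obj i, ⊤)) := fun m =>
    Ideal.span (Set.range fun r => MvPolynomial.map ρ₀ ((σ₀ m).F r))
  let B : Fin (Nat.card V.I₀) → Type u := fun m => MvPolynomial (Fin (σ₀ m).n) Γ(D.obj i, ⊤) ⧸ J m
  let alg : ∀ m, Γ(D.obj i, ⊤) →+* B m := fun m => (Ideal.Quotient.mk (J m)).comp MvPolynomial.C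
  let xs : ∀ m, Fin (σ₀ m).n → B m := fun m o => Ideal.Quotient.mk (J m) (X o)
  have hmk : ∀ m, eval₂Hom (alg m) (xs m) = Ideal.Quotient.mk (J m) := fun m =>
    MvPolynomial.ringHom_ext (fun r => by simp [alg]) fun o => by simp [xs]
  have hrel : ∀ m r, eval₂Hom ((alg m).comp ρ₀) (xs m) ((σ₀ m).F r) = 0 := fun m r => by
    rw [← eval₂Hom_map_hom, hmk, Ideal.Quotient.eq_zero_iff_mem]
    exact Ideal.subset_span ⟨r, rfl⟩
  have hext : ∀ (m) (T : Type u) [CommRing T] (u : Γ(D.obj i, ⊤) →+* T) (b : Fin (σ₀ m).n → T),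
      (∀ r, eval₂Hom (u.comp ρ₀) b ((σ₀ m).F r) = 0) →
        ∃ v : B m →+* T, v.comp (alg m) = u ∧ ∀ o, v (xs m o) = b o := by
    intro m T _ u b hb
    refine ⟨Ideal.Quotient.lift (J m) (eval₂Hom u b) fun z hz => ?_, RingHom.ext fun r => ?_, fun o => ?_⟩
    · refine (Ideal.span_le (I := RingHom.ker (eval₂Hom u b))).2 ?_ hz
      rintro _ ⟨r, rfl⟩
      rw [SetLike.mem_coe, RingHom.mem_ker, eval₂Hom_map_hom]
      exact hb r
    · show eval₂Hom u b (MvPolynomial.C r) = u r
      rw [eval₂Hom_C]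
    · show eval₂Hom u b (X o) = b o
      rw [eval₂Hom_X']
  let Z : Fin (Nat.card V.I₀) → Scheme.{u} := fun m => Spec (CommRingCat.of (B m))
  let W : PreZeroHypercover.{w} (D.obj i) :=
    { I₀ := V.I₀
      X := fun j => Z (ε j)
      f := fun j => Spec.map (CommRingCat.ofHom (alg (ε j))) ≫ (D.obj i).isoSpec.inv }
  have hfpB : ∀ m, (alg m).FinitePresentation := fun m =>
    (RingHom.FinitePresentation.of_surjective _ Ideal.Quotient.mk_surjective
      (by rw [Ideal.mk_ker]; exact Submodule.fg_span (Set.finite_range _))).comp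
      (RingHom.finitePresentation_algebraMap.2 inferInstance)
  have hWf : ∀ j, LocallyOfFinitePresentation (W.f j) := fun j => by
    have : LocallyOfFinitePresentation (Spec.map (CommRingCat.ofHom (alg (ε j)))) :=
      (HasRingHomProperty.Spec_iff (P := @LocallyOfFinitePresentation)).2 (hfpB _)
    exact inferInstanceAs (LocallyOfFinitePresentation
      (Spec.map (CommRingCat.ofHom (alg (ε j))) ≫ (D.obj i).isoSpec.inv))
  have hstd : HTop.IsStandardV W := by
    refine ⟨inferInstance, inferInstanceAs (Finite V.I₀), fun j => inferInstanceAs (IsAffine (Spec _)),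
      fun V' _ _ g => ?_⟩
    let φ := (Spec.preimage (g ≫ (D.obj i).isoSpec.hom)).hom
    obtain ⟨K, _, _, Wv, gW, hgW, hgWl⟩ := exists_dominating V'
    have : IsAlgClosed (FractionRing Wv) :=
      IsAlgClosed.of_ringEquiv _ _ (FractionRing.algEquiv Wv K).symm.toRingEquiv
    obtain ⟨m, b, hb⟩ := hF Wv ((gW.comp φ).comp (ρ.comp (Subring.inclusion hsup.le)))
    obtain ⟨v, hv, -⟩ := hext m Wv (gW.comp φ) b fun r => hb r
    refine ⟨CommRingCat.of Wv, inferInstance, inferInstance, CommRingCat.ofHom gW, ⟨hgW, hgWl⟩,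
      ε.symm m, ?_⟩
    have key : ∀ m', m = m' → ∃ g' : Spec (CommRingCat.of Wv) ⟶ Z m',
        g' ≫ Spec.map (CommRingCat.ofHom (alg m')) ≫ (D.obj i).isoSpec.inv =
          Spec.map (CommRingCat.ofHom gW) ≫ g := by
      rintro m' rfl
      refine ⟨Spec.map (CommRingCat.ofHom v), ?_⟩
      rw [← Spec.map_comp_assoc, ← CommRingCat.ofHom_comp, hv,
        show CommRingCat.ofHom (gW.comp φ) =
          Spec.preimage (g ≫ (D.obj i).isoSpec.hom) ≫ CommRingCat.ofHom gW from rfl,
        Spec.map_comp, Spec.map_preimage, Category.assoc, Category.assoc, Iso.hom_inv_id,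
        Category.comp_id]
    exact key _ (ε.apply_symm_apply m).symm
  have hsq : ∀ j, ∃ t : V.X j ⟶ W.X j, IsPullback (V.f j) t (c.π.app i) (W.f j) := by
    intro j
    obtain ⟨m, hm⟩ : ∃ m, ε j = m := ⟨_, rfl⟩
    obtain rfl : ε.symm m = j := by rw [← hm, Equiv.symm_apply_apply]
    show ∃ t : V.X (ε.symm m) ⟶ Z (ε (ε.symm m)), IsPullback _ t _ _
    suffices hZ : ∀ m', m = m' → ∃ t : V.X (ε.symm m) ⟶ Z m', IsPullback (V.f (ε.symm m)) t
        (c.π.app i) (Spec.map (CommRingCat.ofHom (alg m')) ≫ (D.obj i).isoSpec.inv) from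
      hZ _ (ε.apply_symm_apply m).symm
    rintro m' rfl
    obtain ⟨β, hβ, hβx⟩ := hext m Γ(V.X (ε.symm m), ⊤) ((V.f (ε.symm m)).appTop.hom.comp π.hom)
      (a (ε.symm m)) fun r => by
        rw [RingHom.comp_assoc, hρ₀, ← eval₂Hom_map_hom,
          show MvPolynomial.map A₀.subtype ((σ₀ m).F r) = (σ (ε.symm m)).F r from hF₀ m r,
          ← RingHom.mem_ker, hker]
        exact Ideal.subset_span ⟨r, rfl⟩
    have hpo : IsPushout π (CommRingCat.ofHom (alg m)) (V.f (ε.symm m)).appTop (CommRingCat.ofHom β) := by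
      refine isPushout_of_presentation (xs m) (a (ε.symm m)) (CommRingCat.hom_ext hβ.symm) hβx
        ?_ (hsur _) ?_
      · show Function.Surjective (eval₂Hom (alg m) (xs m))
        rw [hmk]
        exact Ideal.Quotient.mk_surjective
      · rw [hker, Ideal.span_le]
        rintro _ ⟨r, rfl⟩
        show (σ (ε.symm m)).F r ∈ Ideal.map (MvPolynomial.map π.hom)
          (RingHom.ker (eval₂Hom (alg m) (xs m)))
        rw [← hF₀ m r, ← hρ₀, ← MvPolynomial.map_map]
        exact Ideal.mem_map_of_mem _ (by rw [RingHom.mem_ker, eval₂Hom_map_hom]; exact hrel m r)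
    refine ⟨(V.X (ε.symm m)).isoSpec.hom ≫ Spec.map (CommRingCat.ofHom β), ?_⟩
    refine (isPullback_SpecMap_of_isPushout _ _ _ _ hpo).of_iso (V.X (ε.symm m)).isoSpec.symm
      c.pt.isoSpec.symm (Iso.refl _) (D.obj i).isoSpec.symm ?_ ?_ ?_ ?_
    · exact Scheme.isoSpec_inv_naturality (V.f (ε.symm m))
    · simp
    · have : IsAffine (((Functor.const I).obj c.pt).obj i) := inferInstanceAs (IsAffine c.pt)
      exact Scheme.isoSpec_inv_naturality (c.π.app i)
    · simp
  choose t ht using hsq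
  refine ⟨i, W, ⟨inferInstance, inferInstanceAs (Finite V.I₀), fun j => inferInstanceAs (IsAffine (Spec _)),
    hWf, isVCover_of_isStandardV' hstd⟩, Equiv.refl _, fun j => (ht j).isoPullback, fun j => ?_⟩
  exact (ht j).isoPullback_hom_fst

end Groth.Agent.HTop50
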