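import Groth.Agent.HTop50.PointLift
import Groth.Agent.HTop50.StandardHDescent
import Groth.Agent.HTop50.Family
import Groth.Agent.HTop50.Basic
import Groth.Agent.Stage62.SubringSpec

/-! h coverings are coverings in every topology satisfying the devissage axioms. -/

set_option autoImplicit false
set_option linter.style.haveILetI false

universe w u

open CategoryTheory CategoryTheory.Limits AlgebraicGeometry

namespace Groth.Agent.HTop50

variable {J : GrothendieckTopology Scheme.{u}}

/-- h coverings of a Noetherian affine scheme. -/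
theorem mem_of_hCover_noetherian (hJ : DevissageAxioms J) {X : Scheme.{u}} [IsAffine X]
    [IsNoetherianRing Γ(X, ⊤)] (E : PreZeroHypercover.{w} X)
    (hE : ∀ i, LocallyOfFinitePresentation (E.f i)) (hV : HTop.IsVCover E) :
    Sieve.generate E.presieve₀ ∈ J X := by
  obtain ⟨Y, g, n, V, ⟨D, _, _, _, pD, hch, hg⟩, -, hgs, -, -, hcov, hfac⟩ :=
    exists_projective_refining E hE hV
  let R := Sieve.generate E.presieve₀
  let c := (isAffineOpen_top X).fromSpec
  let g' := pD ≫ Spec.map (CommRingCat.ofHom (algebraMap Γ(X, ⊤) D))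
  have hgc : g = g' ≫ c := by rw [hg]; simp only [g', c, Category.assoc]
  have : IsIso c := by
    show IsIso (isAffineOpen_top X).fromSpec
    rw [IsAffineOpen.fromSpec_top]; infer_instance
  have : Surjective g' := by
    rw [show g' = g ≫ inv c by rw [hgc, Category.assoc, IsIso.hom_inv_id, Category.comp_id]]
    infer_instance
  have h1 : (Sieve.generate (Presieve.singleton g')) ∈ J _ :=
    mem_of_projCharts hJ pD hch _ ⟨_, 𝟙 _, g', Presieve.singleton_self _, Category.id_comp _⟩
  have h2 : R.pullback g ∈ J Y := by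
    refine J.superset_covering ?_ (hJ.zariski _
      (Y.openCoverOfIsOpenCover V (TopologicalSpace.IsOpenCover.mk hcov)).mem_grothendieckTopology)
    rw [Sieve.ofArrows, Sieve.generate_le_iff]
    rintro _ _ ⟨j⟩
    obtain ⟨i, h, hh⟩ := hfac j
    exact ⟨_, h, E.f i, Presieve.ofArrows.mk i, hh⟩
  have h3 : R.pullback c ∈ J _ := by
    refine J.transitive h1 _ ?_
    rintro Z _ ⟨_, k, _, ⟨⟩, rfl⟩
    rw [Sieve.pullback_comp]
    refine J.pullback_stable k ?_
    rw [← Sieve.pullback_comp, ← hgc]
    exact h2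
  have := J.pullback_stable (inv c) h3
  rwa [← Sieve.pullback_comp, IsIso.inv_hom_id, Sieve.pullback_id] at this

/-- h coverings of an affine scheme. -/
theorem mem_of_hCover_affine (hJ : DevissageAxioms J) {A : CommRingCat.{u}}
    (E : PreZeroHypercover.{w} (Spec A)) (hE : ∀ i, LocallyOfFinitePresentation (E.f i))
    (hV : HTop.IsVCover E) : Sieve.generate E.presieve₀ ∈ J (Spec A) := by
  obtain ⟨Y, g, n, V, -, hgp, hgs, hgf, hVa, hcov, hfac⟩ := exists_projective_refining E hE hV
  choose i h hh using hfac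
  let W : PreZeroHypercover.{0} (Spec A) :=
    { I₀ := Fin n, X := fun j => V j, f := fun j => (V j).ι ≫ g }
  have hW : HTop.IsStandardH W := by
    refine ⟨inferInstance, inferInstanceAs (Finite (Fin n)), fun j => hVa j, fun j => ?_, ?_⟩
    · exact inferInstanceAs (LocallyOfFinitePresentation ((V j).ι ≫ g))
    · let 𝒰 := Y.openCoverOfIsOpenCover V (TopologicalSpace.IsOpenCover.mk hcov)
      refine isVCover_of_refines ?_ (VCov93.isVCover_bind (isHCover_of_proper.{0} g).2
        (F := fun _ => 𝒰.toPreZeroHypercover) fun _ => VCov93.isVCover_of_fpqc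
          ⟨_, Scheme.zariskiPrecoverage_le_fpqcPrecoverage _ 𝒰.mem₀⟩)
      rintro ⟨-, k⟩
      exact ⟨k, 𝟙 _, Category.id_comp _⟩
  have : IsAffine (Stage62.subringCone A).pt := inferInstanceAs (IsAffine (Spec _))
  obtain ⟨s, W₀, hW₀, σ, e, he⟩ :=
    exists_standardH_descent (Stage62.isLimitSubringCone A) W hW
  have : Algebra.FiniteType ℤ ↥(s.unop.1) := (Subalgebra.fg_iff_finiteType _).1 s.unop.2
  have : IsNoetherianRing ↥(s.unop.1) := Algebra.FiniteType.isNoetherianRing ℤ _
  have : IsNoetherianRing Γ((Stage62.subringSpec A).obj s, ⊤) :=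
    isNoetherianRing_of_ringEquiv _
      (Scheme.ΓSpecIso (CommRingCat.of ↥(s.unop.1))).symm.commRingCatIsoToRingEquiv
  have h0 : Sieve.generate W₀.presieve₀ ∈ J _ :=
    mem_of_hCover_noetherian hJ W₀ hW₀.finitePresentation hW₀.isVCover
  refine J.superset_covering ?_ (J.pullback_stable ((Stage62.subringCone A).π.app s) h0)
  rintro Z k ⟨_, a, _, ⟨j'⟩, ha⟩
  obtain ⟨j, rfl⟩ := σ.surjective j'
  refine ⟨_, pullback.lift k a ha.symm ≫ (e j).inv ≫ h j, E.f (i j), Presieve.ofArrows.mk (i j), ?_⟩
  have he' : (e j).inv ≫ (V j).ι ≫ g = pullback.fst ((Stage62.subringCone A).π.app s) (W₀.f (σ j)) := by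
    rw [Iso.inv_comp_eq]
    exact (he j).symm
  rw [Category.assoc, Category.assoc, hh j]
  exact (congrArg (fun t => pullback.lift k a ha.symm ≫ t) he').trans (pullback.lift_fst _ _ _)

/-- The h topology is the coarsest topology satisfying the devissage axioms. -/
theorem hTopology_le (hJ : DevissageAxioms J) : HTop.hTopology ≤ J := by
  refine (Precoverage.toGrothendieck_le_iff_le_toPrecoverage).2 ?_
  intro X R hR
  obtain ⟨E, hE, rfl⟩ := PreZeroHypercoverFamily.mem_precoverage_iff.1 hR
  show Sieve.generate E.presieve₀ ∈ J X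
  refine mem_of_spec hJ _ fun B l => ?_
  refine J.superset_covering ?_ (mem_of_hCover_affine hJ (E.pullback₁ l) (fun i => ?_)
    (VCov93.isVCover_pullback l hE.2))
  · rw [Sieve.generate_le_iff]
    rintro _ _ ⟨i⟩
    exact ⟨_, pullback.snd l (E.f i), E.f i, Presieve.ofArrows.mk i, pullback.condition.symm⟩
  · have : LocallyOfFinitePresentation (E.f i) := hE.1 i
    exact inferInstanceAs (LocallyOfFinitePresentation (pullback.fst l (E.f i)))

end Groth.Agent.HTop50
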