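import Groth.Agent.HTop50.AlmostAxioms
import Groth.Agent.HTop50.NoethReduction
import Groth.Agent.HTop50.AlmostBlowUp

/-! The criterion for h sheaves by flat proper morphisms and almost blow up squares. -/

set_option autoImplicit false
set_option linter.style.haveILetI false

universe w u

open CategoryTheory CategoryTheory.Limits AlgebraicGeometry Opposite

namespace Groth.Agent.HTop50

variable {S : Scheme.{u}} {F : (Over S)ᵒᵖ ⥤ Type w}

/-- The axioms imply the sheaf property. -/
theorem isSheaf_jh_of_axioms (hJ : DevissageAxioms (descTop F)) : Presieve.IsSheaf (HTop.Jh S) F := by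
  intro Y R hR
  have h := hTopology_le hJ _ ((GrothendieckTopology.mem_over_iff _ R).1 hR)
  have := isSheafFor_of_mem_descTop h Y.hom
  rwa [show overSieve Y.hom (Sieve.overEquiv Y R) = R from
    (Sieve.overEquiv Y).symm_apply_apply R] at this

/-- h sheaves turn almost blow up squares into cartesian squares. -/
theorem cartesian_almost (hF : Presieve.IsSheaf (HTop.Jh S) F) {E Z X' X : Over S} (e : E ⟶ X')
    (π : E ⟶ Z) (b : X' ⟶ X) (i : Z ⟶ X)
    (h : HTop.IsAlmostBlowUpSquare e.left π.left b.left i.left)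
    (t : F.obj (op Z)) (s' : F.obj (op X')) (hts : F.map π.op t = F.map e.op s') :
    ∃! s : F.obj (op X), F.map i.op s = t ∧ F.map b.op s = s' := by
  have := h.isClosedImmersion
  have := h.finitePresentation_base
  have := h.isProper
  have := h.finitePresentation
  let U := ModPair.interior i.left.ker
  have : IsIso (b.left ∣_ U) := isIso_restrict_of_almost b.left i.left.ker h.isBlowUp
  have := lfp_diagonal b.left
  exact cartesian hF e π b i h.isPullback
    (pairFam_mem_h b.left i.left fun x =>
      (mem_interior_or_range i.left x).imp (mem_range_of_isIso_restrict b.left U) id)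
    (pairFam_mem_h _ _ (diag_cover b.left i.left U (mem_interior_or_range i.left))) t s' hts

theorem isSheaf_jh_iff_two (F : (Over S)ᵒᵖ ⥤ Type w) :
    Presieve.IsSheaf (HTop.Jh S) F ↔ (Presieve.IsSheaf (Scheme.zariskiTopology.over S) F ∧
      (∀ (X Y : Over S) (f : X ⟶ Y), IsAffine Y.left → Surjective f.left → Flat f.left →
        IsProper f.left → LocallyOfFinitePresentation f.left →
          Presieve.IsSheafFor F (Presieve.singleton f)) ∧ CartTwo F) := by
  refine ⟨fun h => ⟨((isSheaf_jh_iff F).1 h).1, fun X Y f hY hs _ hp hf =>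
    ((isSheaf_jh_iff F).1 h).2 Y X f hY hp hs hf, ?_⟩, fun h =>
      isSheaf_jh_of_axioms (devissageAxioms_descTop h.1 h.2.1 h.2.2)⟩
  intro E Z X' X e π b i _ hsq _ t s' hts
  exact cartesian_almost h e π b i hsq t s' hts

theorem isSheaf_jh_iff_almost (F : (Over S)ᵒᵖ ⥤ Type w) :
    Presieve.IsSheaf (HTop.Jh S) F ↔ (Presieve.IsSheaf (Scheme.zariskiTopology.over S) F ∧
      (∀ (X Y : Over S) (f : X ⟶ Y), IsAffine Y.left → Surjective f.left → Flat f.left →
        IsProper f.left → LocallyOfFinitePresentation f.left →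
          Presieve.IsSheafFor F (Presieve.singleton f)) ∧
      ∀ (E Z X' X : Over S) (e : E ⟶ X') (π : E ⟶ Z) (b : X' ⟶ X) (i : Z ⟶ X), IsAffine X.left →
        HTop.IsAlmostBlowUpSquare e.left π.left b.left i.left →
        ∀ (t : F.obj (op Z)) (s' : F.obj (op X')), F.map π.op t = F.map e.op s' →
          ∃! s : F.obj (op X), F.map i.op s = t ∧ F.map b.op s = s') := by
  refine ⟨fun h => ⟨((isSheaf_jh_iff_two F).1 h).1, ((isSheaf_jh_iff_two F).1 h).2.1,
    fun E Z X' X e π b i _ hsq t s' hts => cartesian_almost h e π b i hsq t s' hts⟩, fun h => ?_⟩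
  exact (isSheaf_jh_iff_two F).2 ⟨h.1, h.2.1, fun E Z X' X e π b i hX hsq _ t s' hts =>
    h.2.2 E Z X' X e π b i hX hsq t s' hts⟩

end Groth.Agent.HTop50
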