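import Groth.Agent.HTop50.AlmostBaseChange
import Groth.Agent.RegImm10.BlowModel
import Groth.Agent.Approx60.ClosedLimit
import Groth.Agent.Lim60.EvAffine
import Groth.Agent.S12442

/-! Two almost blow up squares are dominated by a third one. -/

set_option autoImplicit false
set_option linter.style.haveILetI false

universe u

open CategoryTheory CategoryTheory.Limits AlgebraicGeometry

namespace Groth.Agent.HTop50

theorem qsep_of_closed {A B : Scheme.{u}} (g : A ⟶ B) (_ : IsClosedImmersion g)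
    [QuasiSeparatedSpace B] : QuasiSeparatedSpace A :=
  quasiSeparatedSpace_of_quasiSeparated g

set_option maxHeartbeats 800000 in
-- limits of closed subschemes
/-- Two almost blow ups of the same centre contain a common one. -/
theorem exists_common_almost {Z X E₁ X₁ E₂ X₂ : Scheme.{u}} [CompactSpace X] [QuasiSeparatedSpace X]
    (i : Z ⟶ X) {e₁ : E₁ ⟶ X₁} {π₁ : E₁ ⟶ Z} {b₁ : X₁ ⟶ X}
    (h₁ : HTop.IsAlmostBlowUpSquare e₁ π₁ b₁ i) {e₂ : E₂ ⟶ X₂} {π₂ : E₂ ⟶ Z} {b₂ : X₂ ⟶ X}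
    (h₂ : HTop.IsAlmostBlowUpSquare e₂ π₂ b₂ i) :
    ∃ (E X' : Scheme.{u}) (e : E ⟶ X') (π : E ⟶ Z) (b : X' ⟶ X) (j₁ : X' ⟶ X₁) (j₂ : X' ⟶ X₂),
      HTop.IsAlmostBlowUpSquare e π b i ∧ IsClosedImmersion j₁ ∧ IsClosedImmersion j₂ ∧
        j₁ ≫ b₁ = b ∧ j₂ ≫ b₂ = b := by
  have := h₁.isProper
  have := h₂.isProper
  have := h₁.finitePresentation
  have := h₂.finitePresentation
  have : CompactSpace X₁ := QuasiCompact.compactSpace_of_compactSpace b₁
  have : CompactSpace X₂ := QuasiCompact.compactSpace_of_compactSpace b₂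
  have : QuasiSeparatedSpace X₁ := quasiSeparatedSpace_of_quasiSeparated b₁
  have : QuasiSeparatedSpace X₂ := quasiSeparatedSpace_of_quasiSeparated b₂
  let p₁ := pullback.fst b₁ b₂
  let p₂ := pullback.snd b₁ b₂
  have : CompactSpace ↥(pullback b₁ b₂) := QuasiCompact.compactSpace_of_compactSpace p₁
  have : QuasiSeparatedSpace ↥(pullback b₁ b₂) := quasiSeparatedSpace_of_quasiSeparated p₁
  let u₁ := (HTop.supportedOn (i.ker.comap b₁)).subschemeι
  let u₂ := (HTop.supportedOn (i.ker.comap b₂)).subschemeι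
  obtain ⟨σ, hσ⟩ := RegImm10.BlowModel.exists_iso h₁.isBlowUp h₂.isBlowUp
  let w := pullback.lift u₁ (σ.hom ≫ u₂) (by rw [Category.assoc]; exact hσ.symm)
  have : IsClosedImmersion (w ≫ p₁) := by
    rw [pullback.lift_fst]; exact inferInstanceAs (IsClosedImmersion u₁)
  have : IsClosedImmersion (w ≫ p₂) := by
    rw [pullback.lift_snd]; exact inferInstanceAs (IsClosedImmersion (σ.hom ≫ u₂))
  have : IsClosedImmersion w := IsClosedImmersion.of_comp w p₁
  obtain ⟨α, _, _, _, D, π, ⟨hl⟩, hobj, hmap, -⟩ := Approx60.exists_closed_limit w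
  have : IsConnected αᵒᵖ := IsCofiltered.isConnected _
  let F := D ⋙ Over.forget (pullback b₁ b₂)
  let c := (Over.forget (pullback b₁ b₂)).mapCone (Cone.mk (Over.mk w) π)
  have hc : IsLimit c := isLimitOfPreserves _ hl
  let t₁ : F ⟶ (Functor.const αᵒᵖ).obj X₁ :=
    { app := fun a => (D.obj a).hom ≫ p₁, naturality := fun a b m => by simp [F] }
  let t₂ : F ⟶ (Functor.const αᵒᵖ).obj X₂ :=
    { app := fun a => (D.obj a).hom ≫ p₂, naturality := fun a b m => by simp [F] }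
  have hcl : ∀ (a b : αᵒᵖ) (m : a ⟶ b), IsClosedImmersion (F.map m) := hmap
  have : ∀ (a b : αᵒᵖ) (m : a ⟶ b), IsAffineHom (F.map m) := fun a b m =>
    have := hmap a b m; inferInstanceAs (IsAffineHom (D.map m).left)
  have : ∀ a, CompactSpace (F.obj a) := fun a =>
    have : IsClosedImmersion (D.obj a).hom := (hobj a).1; QuasiCompact.compactSpace_of_compactSpace (X := (D.obj a).left) (Y := pullback b₁ b₂) (D.obj a).hom
  have : ∀ a, QuasiSeparatedSpace (F.obj a) := fun a => qsep_of_closed _ (hobj a).1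
  have : ∀ a, LocallyOfFiniteType (t₁.app a) := fun a =>
    have := (hobj a).2; inferInstanceAs (LocallyOfFiniteType ((D.obj a).hom ≫ p₁))
  have : ∀ a, LocallyOfFiniteType (t₂.app a) := fun a =>
    have := (hobj a).2; inferInstanceAs (LocallyOfFiniteType ((D.obj a).hom ≫ p₂))
  obtain ⟨a₀⟩ := IsCofiltered.nonempty (C := αᵒᵖ)
  have hπ : ∀ a, (π.app a).left ≫ (D.obj a).hom = w := fun a => Over.w (π.app a)
  have : IsClosedImmersion (c.π.app a₀ ≫ t₁.app a₀) := by
    show IsClosedImmersion ((π.app a₀).left ≫ (D.obj a₀).hom ≫ p₁)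
    rw [reassoc_of% (hπ a₀)]; infer_instance
  have : IsClosedImmersion (c.π.app a₀ ≫ t₂.app a₀) := by
    show IsClosedImmersion ((π.app a₀).left ≫ (D.obj a₀).hom ≫ p₂)
    rw [reassoc_of% (hπ a₀)]; infer_instance
  obtain ⟨m₁, hm₁⟩ := Lim60.exists_isClosedImmersion_structureMap X₁ F t₁ c hc hcl a₀
  obtain ⟨m₂, hm₂⟩ := Lim60.exists_isClosedImmersion_structureMap X₂ F t₂ c hc hcl a₀
  obtain ⟨a, f₁, f₂, -⟩ := IsCofilteredOrEmpty.cone_objs m₁ m₂
  let j₁ : (D.obj a).left ⟶ X₁ := (D.obj a).hom ≫ p₁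
  let j₂ : (D.obj a).left ⟶ X₂ := (D.obj a).hom ≫ p₂
  have hj₁ : IsClosedImmersion j₁ := hm₁ a f₁
  have hj₂ : IsClosedImmersion j₂ := hm₂ a f₂
  have := (hobj a).2
  have : LocallyOfFinitePresentation j₁ := inferInstanceAs (LocallyOfFinitePresentation ((D.obj a).hom ≫ p₁))
  have hle : j₁.ker ≤ HTop.supportedOn (i.ker.comap b₁) := by
    rw [← Scheme.IdealSheafData.ker_subschemeι (HTop.supportedOn (i.ker.comap b₁)),
      show (HTop.supportedOn (i.ker.comap b₁)).subschemeι = (π.app a).left ≫ j₁ by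
        simp only [j₁, reassoc_of% (hπ a)]
        exact (pullback.lift_fst _ _ _).symm]
    exact Scheme.Hom.le_ker_comp _ _
  have hsq := (ker_le_supportedOn_iff h₁ j₁
    (IsPullback.of_hasPullback e₁ j₁)).1 hle
  refine ⟨_, _, _, _, j₁ ≫ b₁, j₁, j₂, hsq, hj₁, hj₂, rfl, ?_⟩
  simp only [j₁, j₂, p₁, p₂, Category.assoc, pullback.condition]

end Groth.Agent.HTop50
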