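import Groth.Agent.HTop50.BigGerm
import Groth.Agent.Mod48.FppfProperBC

/-!
The pullback of a small étale sheaf has the same presheaf of sections on the big fppf site and on the big
site of any geometric topology.
-/

universe u

open CategoryTheory CategoryTheory.Limits AlgebraicGeometry Opposite

namespace Groth.Agent.HTop50.Big

set_option backward.isDefEq.respectTransparency.types false

open Mod48 (GSite GPt etaleGSite fppfGSite)

variable (τ : GrothendieckTopology Scheme.{u}) [GeomTop τ] {S : Scheme.{u}}
  [(EtFppf.a S).IsContinuous S.smallEtaleTopology (τ.over S)] [EtFppf.ACont S] (F : EtCoh.Ab S)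

/-- Two sections have the same values at all geometric points. -/
def SameVal {W : Over S} (c : ((bigPull τ S).obj F).obj.obj (op W))
    (c' : ((EtFppf.aPull S).obj F).obj.obj (op W)) : Prop :=
  ∀ (η : GPt S) (v : Over.mk η.hom ⟶ W), (bigGSite τ S).val F η v c = (fppfGSite S).val F η v c'

variable {τ F}

theorem SameVal.map {W W' : Over S} (g : W' ⟶ W) {c : ((bigPull τ S).obj F).obj.obj (op W)}
    {c' : ((EtFppf.aPull S).obj F).obj.obj (op W)} (h : SameVal τ F c c') :
    SameVal τ F (((bigPull τ S).obj F).obj.map g.op c) (((EtFppf.aPull S).obj F).obj.map g.op c') :=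
  fun η v => (((bigGSite τ S).val_map F g η v c).trans (h η (v ≫ g))).trans
    ((fppfGSite S).val_map F g η v c').symm

theorem SameVal.add {W : Over S} {c d : ((bigPull τ S).obj F).obj.obj (op W)}
    {c' d' : ((EtFppf.aPull S).obj F).obj.obj (op W)} (h : SameVal τ F c c') (h' : SameVal τ F d d') :
    SameVal τ F (c + d) (c' + d') :=
  fun η v => by rw [map_add, map_add, h η v, h' η v]

theorem exists_right {W : Over S} (c : ((bigPull τ S).obj F).obj.obj (op W)) :
    ∃ c', SameVal τ F c c' := by
  let e : W ⟶ (toBig W.hom).obj (EtCoh.top W.left) :=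
    Over.homMk (𝟙 _) ((Category.id_comp _).trans (Category.id_comp _))
  let e' : (toBig W.hom).obj (EtCoh.top W.left) ⟶ W :=
    Over.homMk (𝟙 _) ((Category.id_comp _).trans (Category.id_comp _).symm)
  obtain ⟨t, ht⟩ := toBigRes_surjective τ W.hom F (EtCoh.top W.left)
    (((bigPull τ S).obj F).obj.map e'.op c)
  refine ⟨((EtFppf.aPull S).obj F).obj.map e.op
    ((Mod48.toBigRes W.hom F).hom.app (op (EtCoh.top W.left)) t), fun η v => ?_⟩
  refine Eq.trans ?_ ((fppfGSite S).val_map F e η v _).symm
  refine Eq.trans ?_ (Mod48.val_toBigRes W.hom F η (v ≫ e) t).symm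
  refine Eq.trans ?_ (val_toBigRes τ W.hom F η (v ≫ e) t)
  rw [ht]
  refine Eq.trans ?_ ((bigGSite τ S).val_map F e' η (v ≫ e) c).symm
  refine congrArg (fun w => (bigGSite τ S).val F η w c) ?_
  apply Over.OverMorphism.ext
  show v.left = (v.left ≫ 𝟙 _) ≫ 𝟙 _
  rw [Category.comp_id, Category.comp_id]

theorem exists_left {W : Over S} (c' : ((EtFppf.aPull S).obj F).obj.obj (op W)) :
    ∃ c : ((bigPull τ S).obj F).obj.obj (op W), SameVal τ F c c' := by
  let e : W ⟶ (toBig W.hom).obj (EtCoh.top W.left) :=
    Over.homMk (𝟙 _) ((Category.id_comp _).trans (Category.id_comp _))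
  let e' : (toBig W.hom).obj (EtCoh.top W.left) ⟶ W :=
    Over.homMk (𝟙 _) ((Category.id_comp _).trans (Category.id_comp _).symm)
  obtain ⟨t, ht⟩ := Mod48.toBigRes_surjective W.hom F (EtCoh.top W.left)
    (((EtFppf.aPull S).obj F).obj.map e'.op c')
  refine ⟨((bigPull τ S).obj F).obj.map e.op
    ((toBigRes τ W.hom F).hom.app (op (EtCoh.top W.left)) t), fun η v => ?_⟩
  refine ((bigGSite τ S).val_map F e η v _).trans ?_
  refine (val_toBigRes τ W.hom F η (v ≫ e) t).trans ?_
  refine (Mod48.val_toBigRes W.hom F η (v ≫ e) t).symm.trans ?_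
  rw [ht]
  refine ((fppfGSite S).val_map F e' η (v ≫ e) c').trans ?_
  refine congrArg (fun w => (fppfGSite S).val F η w c') ?_
  apply Over.OverMorphism.ext
  show (v.left ≫ 𝟙 _) ≫ 𝟙 _ = v.left
  rw [Category.comp_id, Category.comp_id]

theorem SameVal.unique_right {W : Over S} {c : ((bigPull τ S).obj F).obj.obj (op W)}
    {c' d' : ((EtFppf.aPull S).obj F).obj.obj (op W)} (h : SameVal τ F c c') (h' : SameVal τ F c d') :
    c' = d' :=
  (fppfGSite S).eq_of_val F _ _ fun η v => (h η v).symm.trans (h' η v)

theorem SameVal.unique_left {W : Over S} {c d : ((bigPull τ S).obj F).obj.obj (op W)}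
    {c' : ((EtFppf.aPull S).obj F).obj.obj (op W)} (h : SameVal τ F c c') (h' : SameVal τ F d c') :
    c = d :=
  (bigGSite τ S).eq_of_val F _ _ fun η v => (h η v).trans (h' η v).symm

variable (τ F) in
/-- Sections of the two pullbacks. -/
noncomputable def appHom (W : Over S) :
    ((bigPull τ S).obj F).obj.obj (op W) →+ ((EtFppf.aPull S).obj F).obj.obj (op W) :=
  AddMonoidHom.mk' (fun c => (exists_right c).choose) fun c d =>
    (exists_right (c + d)).choose_spec.unique_right
      ((exists_right c).choose_spec.add (exists_right d).choose_spec)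

variable (τ F) in
theorem appHom_bijective (W : Over S) : Function.Bijective (appHom τ F W) := by
  refine ⟨fun c d h => ?_, fun c' => ?_⟩
  · exact (show SameVal τ F c (appHom τ F W c) from (exists_right c).choose_spec).unique_left
      (h ▸ (exists_right d).choose_spec)
  · obtain ⟨c, hc⟩ := exists_left (τ := τ) c'
    exact ⟨c, (exists_right c).choose_spec.unique_right hc⟩

variable (τ F) in
/-- The presheaves of sections of the two pullbacks agree. -/
noncomputable def presheafIso :
    ((bigPull τ S).obj F).obj ≅ ((EtFppf.aPull S).obj F).obj :=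
  have : ∀ W : (Over S)ᵒᵖ, IsIso (AddCommGrpCat.ofHom (appHom τ F W.unop) :
      ((bigPull τ S).obj F).obj.obj W ⟶ ((EtFppf.aPull S).obj F).obj.obj W) := fun W =>
    (ConcreteCategory.isIso_iff_bijective _).2 (appHom_bijective τ F W.unop)
  NatIso.ofComponents (fun W => asIso (AddCommGrpCat.ofHom (appHom τ F W.unop))) fun {W W'} g => by
    ext c
    exact (exists_right _).choose_spec.unique_right ((exists_right c).choose_spec.map g.unop)

variable (τ) in
/-- Pullback to the big site commutes with direct image along proper morphisms, given the fppf case. -/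
theorem nonempty_push_iso {X Y : Scheme.{u}} (f : X ⟶ Y)
    [(EtFppf.a X).IsContinuous X.smallEtaleTopology (τ.over X)]
    [(EtFppf.a Y).IsContinuous Y.smallEtaleTopology (τ.over Y)]
    [(Over.pullback f).IsContinuous (τ.over Y) (τ.over X)] [IsProper f] (E : EtCoh.Ab X) :
    Nonempty ((bigPull τ Y).obj ((EtCoh.push f).obj E) ≅
      ((Over.pullback f).sheafPushforwardContinuous AddCommGrpCat.{u + 1} (τ.over Y) (τ.over X)).obj
        ((bigPull τ X).obj E)) := by
  have : EtFppf.ACont X := Mod48.aCont X
  have : EtFppf.ACont Y := Mod48.aCont Y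
  have := Mod48.isIso_bcMapF_proper f E
  exact ⟨(fullyFaithfulSheafToPresheaf _ _).preimageIso
    (presheafIso τ ((EtCoh.push f).obj E) ≪≫
      (sheafToPresheaf _ _).mapIso (asIso (Mod48.bcMapF f E)) ≪≫
      Functor.isoWhiskerLeft (Over.pullback f).op (presheafIso τ E).symm)⟩

end Groth.Agent.HTop50.Big
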