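import Groth.Agent.HTop50.GeomTop
import Groth.Agent.Mod48.GermEtale

/-!
Sections of the pullback of a small étale sheaf to the big site of a geometric topology
(after `Groth.Agent.Mod48.GermEtale`, which treats the fppf topology).
-/

universe u

open CategoryTheory CategoryTheory.Limits AlgebraicGeometry Opposite

namespace Groth.Agent.HTop50.Big

set_option backward.isDefEq.respectTransparency.types false

open Unr55 (EtSh.germ EtSh.Pt EtSh.germ_map EtSh.mem_topology EtSh.exists_germ_eq EtSh.isSheafFor_forget)
open Mod48 (GSite GPt etaleGSite exists_gpt openEt openEtι etale_left img exists_point_of_mem)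

variable (τ : GrothendieckTopology Scheme.{u}) [GeomTop τ]

omit [GeomTop τ] in
theorem mem_over_iff' {X : Scheme.{u}} {W : Over X} (R : Sieve W) :
    R ∈ τ.over X W ↔ Sieve.overEquiv W R ∈ τ W.left :=
  GrothendieckTopology.mem_over_iff _ _

/-- Jointly surjective étale maps cover. -/
theorem mem_over_of_etale {X : Scheme.{u}} {W : Over X} (R : Sieve W)
    (hR : ∀ x : W.left, ∃ (W' : Over X) (g : W' ⟶ W) (w : W'.left), R g ∧ Etale g.left ∧ g.left w = x) :
    R ∈ τ.over X W := by
  rw [mem_over_iff']
  choose W' g w hg he hw using hR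
  refine τ.superset_covering ?_
    (GeomTop.mem_of_etale (τ := τ) (fun x => (W' x).left) (fun x => (g x).left) he fun x => ⟨x, w x, hw x⟩)
  rw [Sieve.ofArrows, Sieve.generate_le_iff]
  rintro Z q ⟨x⟩
  exact (Sieve.overEquiv_iff R (g x).left).2 (by
    have e : (Over.homMk (g x).left : Over.mk ((g x).left ≫ W.hom) ⟶ W) =
        (Over.isoMk (Iso.refl _) (by exact (Category.id_comp _).trans (Over.w (g x)).symm) :
          Over.mk ((g x).left ≫ W.hom) ≅ W' x).hom ≫ g x := by
      apply Over.OverMorphism.ext
      exact (Category.id_comp _).symm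
    rw [e]
    exact R.downward_closed (hg x) _)

/-- The small étale site maps continuously to the big site. -/
theorem aCont (T : Scheme.{u}) :
    (EtFppf.a T).IsContinuous T.smallEtaleTopology (τ.over T) := by
  have : PreservesFiniteLimits (EtFppf.a T) :=
    inferInstanceAs (PreservesFiniteLimits (MorphismProperty.Over.forget EtCoh.etaleMP.{u} ⊤ T))
  have : RepresentablyFlat (EtFppf.a T) := flat_of_preservesFiniteLimits _
  rw [Functor.isContinuous_iff_coverPreserving]
  refine ⟨fun {U R} hR => mem_over_of_etale τ _ fun x => ?_⟩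
  obtain ⟨W, g, w, hg, hw⟩ := exists_point_of_mem hR x
  exact ⟨_, (EtFppf.a T).map g, w, Sieve.image_mem_functorPushforward _ _ hg, etale_left g, hw⟩

/-- The big site of a geometric topology. -/
noncomputable def bigGSite (X : Scheme.{u}) : GSite X (τ.over X) (EtFppf.a X) where
  U := 𝟭 _
  faithful := inferInstance
  c := { app := fun _ => 𝟙 _, naturality := fun _ _ _ => (Category.comp_id _).trans (Category.id_comp _).symm }
  bij V W := ⟨fun a b h => (Category.comp_id _).symm.trans (h.trans (Category.comp_id _)),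
    fun q => ⟨q, Category.comp_id _⟩⟩
  lift {V S} hS k _ _ v := by
    obtain ⟨W, g, w, hg, hw⟩ := (GeomTop.geomSieve ((mem_over_iff' τ _).1 hS)).lift v
    exact ⟨Over.mk (g ≫ V.hom), Over.homMk g, w, (Sieve.overEquiv_iff S g).1 hg, hw⟩
  pb := (Mod48.fppfGSite X).pb
  quot {V S} hS Z hZ := by
    refine (GeomTop.geomSieve ((mem_over_iff' τ _).1 hS)).quot Z fun W g hg => ?_
    exact hZ (Over.mk (g ≫ V.hom)) (Over.homMk g) ((Sieve.overEquiv_iff S g).1 hg)

/-- Pullback of a small étale sheaf to the big site. -/
noncomputable abbrev bigPull (X : Scheme.{u}) [(EtFppf.a X).IsContinuous X.smallEtaleTopology (τ.over X)] :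
    EtCoh.Ab X ⥤ Sheaf (τ.over X) AddCommGrpCat.{u + 1} :=
  (EtFppf.a X).sheafPullback AddCommGrpCat.{u + 1} X.smallEtaleTopology (τ.over X)

variable {S T : Scheme.{u}} (f : T ⟶ S)

/-- An etale `T`-scheme as an `S`-scheme. -/
noncomputable abbrev toBig : T.Etale ⥤ Over S := EtFppf.a T ⋙ Over.map f

instance toBig_isContinuous : (toBig f).IsContinuous T.smallEtaleTopology (τ.over S) :=
  have : (EtFppf.a T).IsContinuous T.smallEtaleTopology (τ.over T) := aCont τ T
  Functor.isContinuous_comp (EtFppf.a T) (Over.map f) _ (τ.over T) _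

variable [(EtFppf.a S).IsContinuous S.smallEtaleTopology (τ.over S)] (F : EtCoh.Ab S)

/-- The restriction of the big pullback to the small etale site of `T`. -/
noncomputable abbrev bigRes : EtCoh.Ab T :=
  ((toBig f).sheafPushforwardContinuous AddCommGrpCat.{u + 1} T.smallEtaleTopology (τ.over S)).obj
    ((bigPull τ S).obj F)

/-- The projection of a base change. -/
noncomputable def bcProj (U : S.Etale) : (toBig f).obj ((EtCoh.bc f).obj U) ⟶ (EtFppf.a S).obj U :=
  (etaleGSite f).c.app U

/-- The comparison map from the inverse image. -/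
noncomputable def toBigRes : (EtCoh.pull f).obj F ⟶ bigRes τ f F :=
  ((GSite.adj T.smallEtaleTopology (EtCoh.bc f)).homEquiv _ _).symm
    { hom :=
      { app := fun U => AddCommGrpCat.ofHom
          { toFun := fun s => ((bigPull τ S).obj F).obj.map (bcProj f U.unop).op
              (GSite.etaSect (τ.over S) (EtFppf.a S) F s)
            map_zero' := (congrArg _ (map_zero _)).trans (map_zero _)
            map_add' := fun s s' => (congrArg _ (map_add _ _ _)).trans (map_add _ _ _) }
        naturality := fun U U' g => by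
          ext s
          show ((bigPull τ S).obj F).obj.map (bcProj f U'.unop).op
              (GSite.etaSect (τ.over S) (EtFppf.a S) F (F.obj.map g s)) =
            ((bigPull τ S).obj F).obj.map ((toBig f).map ((EtCoh.bc f).map g.unop)).op
              (((bigPull τ S).obj F).obj.map (bcProj f U.unop).op
                (GSite.etaSect (τ.over S) (EtFppf.a S) F s))
          rw [← g.op_unop, ← GSite.eta_map, ← ConcreteCategory.comp_apply, ← ConcreteCategory.comp_apply,
            ← Functor.map_comp, ← Functor.map_comp, ← op_comp, ← op_comp]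
          refine congrArg (fun k => ((bigPull τ S).obj F).obj.map (Quiver.Hom.op k)
            (GSite.etaSect (τ.over S) (EtFppf.a S) F s)) ?_
          exact ((etaleGSite f).c.naturality g.unop).symm } }

lemma toBigRes_eta {U : S.Etale} (s : EtCoh.sect F U) :
    (toBigRes τ f F).hom.app (op ((EtCoh.bc f).obj U))
        (GSite.etaSect T.smallEtaleTopology (EtCoh.bc f) F s) =
      ((bigPull τ S).obj F).obj.map (bcProj f U).op (GSite.etaSect (τ.over S) (EtFppf.a S) F s) := by
  have h : (GSite.adj T.smallEtaleTopology (EtCoh.bc f)).homEquiv _ _ (toBigRes τ f F) = _ :=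
    Equiv.apply_symm_apply _ _
  rw [Adjunction.homEquiv_unit] at h
  exact congrArg (fun φ : F ⟶ _ => φ.hom.app (op U) s) h

/-- Values are preserved. -/
lemma val_toBigRes {V : T.Etale} (η : GPt S) (v : (etaleGSite f).Pts η V)
    (t : ((EtCoh.pull f).obj F).obj.obj (op V)) :
    (bigGSite τ S).val F η (v : Over.mk η.hom ⟶ (toBig f).obj V) ((toBigRes τ f F).hom.app (op V) t) =
      (etaleGSite f).val F η v t := by
  let res : bigRes τ f F ⟶ (etaleGSite f).sky F :=
    { hom :=
      { app := fun W => ((bigGSite τ S).value F).hom.app (op ((toBig f).obj W.unop))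
        naturality := fun W W' g =>
          ((bigGSite τ S).value F).hom.naturality ((toBig f).map g.unop).op } }
  have key : toBigRes τ f F ≫ res = (etaleGSite f).value F := by
    apply ((GSite.adj T.smallEtaleTopology (EtCoh.bc f)).homEquiv _ _).injective
    rw [GSite.value, Equiv.apply_symm_apply, Adjunction.homEquiv_unit]
    ext U s
    funext ζ w
    show (bigGSite τ S).val F ζ w ((toBigRes τ f F).hom.app (op ((EtCoh.bc f).obj U.unop))
        (GSite.etaSect T.smallEtaleTopology (EtCoh.bc f) F s)) = _
    rw [toBigRes_eta]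
    exact ((bigGSite τ S).val_map F (bcProj f U.unop) ζ w _).trans
      ((bigGSite τ S).val_eta F ζ _ s)
  exact congrFun (congrFun (congrArg (fun φ : _ ⟶ (etaleGSite f).sky F => φ.hom.app (op V) t) key) η) v

lemma toBigRes_injective (V : T.Etale) : Function.Injective ((toBigRes τ f F).hom.app (op V)) :=
  fun t t' h => (etaleGSite f).eq_of_val F t t' fun η v => by
    rw [← val_toBigRes τ, ← val_toBigRes τ, h]

lemma toBigRes_surjective (V : T.Etale) : Function.Surjective ((toBigRes τ f F).hom.app (op V)) := by
  intro t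
  let P := (EtCoh.pull f).obj F
  let R : Sieve V :=
    { arrows := fun W g => ∃ σ : EtCoh.sect P W,
        (toBigRes τ f F).hom.app (op W) σ = (bigRes τ f F).obj.map g.op t
      downward_closed := fun {W W' g} ⟨σ, hσ⟩ k => ⟨P.obj.map k.op σ, by
        rw [op_comp, Functor.map_comp, ConcreteCategory.comp_apply, ← hσ]
        exact NatTrans.naturality_apply (toBigRes τ f F).hom k.op σ⟩ }
  have hR : R ∈ T.smallEtaleTopology V := EtSh.mem_topology fun x => by
    obtain ⟨η, v, hv⟩ := exists_gpt ((etaleGSite f).U.obj V) x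
    obtain ⟨W₀, w₀, σ₀, hσ₀⟩ := EtSh.exists_germ_eq η.hom F ((bigGSite τ S).val F η v t)
    let vl : Spec (CommRingCat.of η.k) ⟶ V.left := v.left
    let wl : Spec (CommRingCat.of η.k) ⟶ W₀.left := w₀.left
    have hvw : wl ≫ W₀.hom = vl ≫ V.hom ≫ f := (Over.w w₀).trans (Over.w v).symm
    have : Etale W₀.hom := W₀.prop
    have : Etale V.hom := V.prop
    let q := pullback.fst (V.hom ≫ f) W₀.hom
    let W : T.Etale := MorphismProperty.Over.mk ⊤ (q ≫ V.hom) (inferInstance : Etale (q ≫ V.hom))
    let a : W ⟶ V := MorphismProperty.Over.homMk q rfl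
    let b : (etaleGSite f).U.obj W ⟶ (Scheme.Etale.forget S).obj W₀ :=
      Over.homMk (pullback.snd (V.hom ≫ f) W₀.hom) (by
        show pullback.snd (V.hom ≫ f) W₀.hom ≫ W₀.hom = (q ≫ V.hom) ≫ f
        rw [← pullback.condition, Category.assoc])
    let w : (etaleGSite f).Pts η W := Over.homMk (pullback.lift vl wl hvw.symm) (by
      show pullback.lift vl wl hvw.symm ≫ (q ≫ V.hom) ≫ f = η.hom
      rw [Category.assoc, pullback.lift_fst_assoc]
      exact Over.w v)
    have wa : w ≫ (etaleGSite f).U.map a = v := Over.OverMorphism.ext (pullback.lift_fst _ _ _)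
    have wb : w ≫ b = (w₀ : Over.mk η.hom ⟶ (Scheme.Etale.forget S).obj W₀) :=
      Over.OverMorphism.ext (pullback.lift_snd _ _ _)
    let σ : EtCoh.sect P W := P.obj.map ((etaleGSite f).toE b).op
      (GSite.etaSect T.smallEtaleTopology (EtCoh.bc f) F σ₀)
    let d : ((bigPull τ S).obj F).obj.obj (op ((toBig f).obj W)) :=
      (bigRes τ f F).obj.map a.op t - (toBigRes τ f F).hom.app (op W) σ
    have hd : (bigGSite τ S).val F η w d = 0 := by
      refine (map_sub ((bigGSite τ S).val F η w) _ _).trans (sub_eq_zero.2 ?_)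
      refine Eq.trans ?_ (val_toBigRes τ f F η w σ).symm
      rw [GSite.val_rep, GSite.unE_toE]
      refine ((bigGSite τ S).val_map F ((toBig f).map a) η w t).trans ?_
      exact (congrArg ((bigGSite τ S).val F η · t) wa).trans
        (hσ₀.symm.trans (congrArg (fun q : EtSh.Pt η.hom W₀ => EtSh.germ η.hom F q σ₀) wb.symm))
    let O : W.left.Opens := ⟨(bigGSite τ S).locusSet F d, (bigGSite τ S).isOpen_locusSet F d⟩
    have hz : ((bigPull τ S).obj F).obj.map ((toBig f).map (openEtι W O)).op d = 0 := by
      refine (bigGSite τ S).eq_zero_of_val F _ fun ζ u => ?_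
      rw [GSite.val_map, ← GSite.mem_locusSet_iff]
      exact ((img u : O.toScheme)).2
    let wp : W.left := img (η := η) (Y := (etaleGSite f).U.obj W) w
    have hwO : wp ∈ O := ((bigGSite τ S).mem_locusSet_iff F d η w).2 hd
    refine ⟨openEt W O, openEtι W O ≫ a, (⟨wp, hwO⟩ : O.toScheme), ⟨P.obj.map (openEtι W O).op σ, ?_⟩, ?_⟩
    · have hz' : (bigRes τ f F).obj.map (openEtι W O).op ((bigRes τ f F).obj.map a.op t) =
          (bigRes τ f F).obj.map (openEtι W O).op ((toBigRes τ f F).hom.app (op W) σ) :=
        sub_eq_zero.1 ((map_sub _ _ _).symm.trans hz)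
      rw [op_comp, Functor.map_comp, ConcreteCategory.comp_apply]
      exact (NatTrans.naturality_apply (toBigRes τ f F).hom (openEtι W O).op σ).trans hz'.symm
    · exact (congrArg (fun q : (etaleGSite f).Pts η V => img q) wa).trans hv
  choose σ hσ using fun W (g : W ⟶ V) (hg : R g) => hg
  have hcomp : Presieve.FamilyOfElements.Compatible
      (P := P.obj ⋙ forget AddCommGrpCat.{u + 1}) (R := R.arrows) σ := by
    intro W₁ W₂ W g₁ g₂ f₁ f₂ h₁ h₂ w
    refine toBigRes_injective τ f F W ?_
    show (toBigRes τ f F).hom.app (op W) (P.obj.map g₁.op (σ W₁ f₁ h₁)) =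
      (toBigRes τ f F).hom.app (op W) (P.obj.map g₂.op (σ W₂ f₂ h₂))
    rw [NatTrans.naturality_apply, NatTrans.naturality_apply, hσ, hσ, ← ConcreteCategory.comp_apply,
      ← ConcreteCategory.comp_apply, ← Functor.map_comp, ← Functor.map_comp, ← op_comp, ← op_comp, w]
  obtain ⟨s, hs, -⟩ := EtSh.isSheafFor_forget P hR σ hcomp
  refine ⟨s, (EtSh.isSheafFor_forget (bigRes τ f F) hR).isSeparatedFor.ext fun W g hg => ?_⟩
  show (bigRes τ f F).obj.map g.op ((toBigRes τ f F).hom.app (op V) s) = (bigRes τ f F).obj.map g.op t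
  rw [← hσ W g hg]
  exact (NatTrans.naturality_apply (toBigRes τ f F).hom g.op s).symm.trans (congrArg _ (hs g hg))

/-- Sections of the pullback to the big site over `T` are sections of the inverse image over `T`. -/
theorem nonempty_bigPull_sections :
    Nonempty (((bigPull τ S).obj F).obj.obj (op (Over.mk f)) ≅
      ((EtCoh.pull f).obj F).obj.obj (op (EtCoh.top T))) := by
  have : IsIso ((toBigRes τ f F).hom.app (op (EtCoh.top T))) :=
    (ConcreteCategory.isIso_iff_bijective _).2
      ⟨toBigRes_injective τ f F _, toBigRes_surjective τ f F _⟩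
  let e : Over.mk f ≅ (toBig f).obj (EtCoh.top T) :=
    Over.isoMk (Iso.refl _) ((Category.id_comp _).trans (Category.id_comp _))
  exact ⟨((bigPull τ S).obj F).obj.mapIso e.symm.op ≪≫
    (asIso ((toBigRes τ f F).hom.app (op (EtCoh.top T)))).symm⟩

end Groth.Agent.HTop50.Big
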