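import Groth.Agent.HTop50.Submersive
import Groth.Agent.HTop50.AlmostBlowUp

/-! An open of a blow up which is universally submersive over the base is everything. -/

set_option autoImplicit false
set_option linter.style.haveILetI false

universe u

open CategoryTheory CategoryTheory.Limits AlgebraicGeometry Topology

namespace Groth.Agent.HTop50

/-- Two maps from a spectrum of a valuation ring into a separated scheme which agree after a map which
is an isomorphism over an open containing the image of the generic point are equal. -/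
theorem eq_of_isIso_restrict {X' X : Scheme.{u}} [X'.IsSeparated] (b : X' ⟶ X) (U : X.Opens)
    [IsIso (b ∣_ U)] {A : CommRingCat.{u}} [IsDomain A] (h₁ h₂ : Spec A ⟶ X')
    (h : h₁ ≫ b = h₂ ≫ b) {s : ↥(Spec A)} (hs : b (h₁ s) ∈ U) : h₁ = h₂ := by
  let V := (h₁ ≫ b) ⁻¹ᵁ U
  have : IsDominant V.ι := ⟨by
    rw [denseRange_iff_closure_range, Scheme.Opens.range_ι]
    exact (V.2.dense ⟨s, hs⟩).closure_eq⟩
  refine ext_of_isDominant V.ι ?_
  let l₁ := IsOpenImmersion.lift (b ⁻¹ᵁ U).ι (V.ι ≫ h₁) (by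
    rw [Scheme.Opens.range_ι]
    rintro _ ⟨v, rfl⟩
    exact v.2)
  let l₂ := IsOpenImmersion.lift (b ⁻¹ᵁ U).ι (V.ι ≫ h₂) (by
    rw [Scheme.Opens.range_ι]
    rintro _ ⟨v, rfl⟩
    show (V.ι ≫ h₂ ≫ b) v ∈ U
    rw [← h]
    exact v.2)
  have e : l₁ = l₂ := by
    rw [← cancel_mono (b ∣_ U), ← cancel_mono U.ι]
    simp only [Category.assoc, morphismRestrict_ι, l₁, l₂, IsOpenImmersion.lift_fac_assoc, h]
  simpa [l₁, l₂] using congrArg (· ≫ (b ⁻¹ᵁ U).ι) e

theorem eq_top_of_univSubmersive {X X' : Scheme.{u}} [IsLocallyNoetherian X] [X'.IsSeparated]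
    (𝓘 : X.IdealSheafData) (b : X' ⟶ X) [LocallyOfFiniteType b] (hb : BlowUp.IsBlowUp b 𝓘)
    (U : X'.Opens) (hU : SGA1.UnivSubmersive (U.ι ≫ b)) : U = ⊤ := by
  have := MP99.isIso_restrict_of_isBlowUp b 𝓘 hb
  have : IsLocallyNoetherian X' := LocallyOfFiniteType.isLocallyNoetherian b
  let W := ModPair.interior 𝓘
  refine top_unique fun x _ => ?_
  obtain ⟨η, hηW, hη⟩ : ∃ η ∈ b ⁻¹ᵁ W, η ⤳ x := by
    refine exists_specializes_of_mem_closure_open _ ?_
    have h1 : IsSchemeTheoreticallyDominant (b ⁻¹ᵁ W).ι := by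
      rw [← MP99.interior_comap]
      exact MP99.dominant_of_isEffCartier hb.1
    have h2 : IsDominant (b ⁻¹ᵁ W).ι := inferInstance
    have h3 := h2.denseRange.closure_range
    rw [Scheme.Opens.range_ι] at h3
    rw [h3]
    trivial
  by_cases hne : η = x
  · subst hne
    obtain ⟨v, hv⟩ := (hU (𝟙 _) (𝟙 X) (U.ι ≫ b) (IsPullback.of_vert_isIso ⟨by simp⟩)).surjective (b η)
    let l₁ : ↥(b ⁻¹ᵁ W) := ⟨η, hηW⟩
    have hmem : U.ι v ∈ b ⁻¹ᵁ W := by
      show b (U.ι v) ∈ W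
      rw [← Scheme.Hom.comp_apply, hv]
      exact hηW
    let l₂ : ↥(b ⁻¹ᵁ W) := ⟨U.ι v, hmem⟩
    have : l₂ = l₁ := by
      refine (b ∣_ W).homeomorph.injective (W.ι.isOpenEmbedding.injective ?_)
      show W.ι ((b ∣_ W) l₂) = W.ι ((b ∣_ W) l₁)
      rw [← Scheme.Hom.comp_apply, ← Scheme.Hom.comp_apply, morphismRestrict_ι,
        Scheme.Hom.comp_apply, Scheme.Hom.comp_apply]
      exact hv
    have hval : U.ι v = η := congrArg Subtype.val this
    exact hval ▸ v.2
  obtain ⟨V, hV, g, hgc, hgg, -⟩ := E4O.exists_dvr_hom hη hne (X'.residueField η)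
    (IntermediateField.fg_top _ _)
  let f := U.ι ≫ b
  let q := pullback.fst (g ≫ b) f
  have : IsNoetherianRing V := inferInstance
  have : IsLocallyNoetherian (pullback (g ≫ b) f) := LocallyOfFiniteType.isLocallyNoetherian q
  obtain ⟨ξ, u, hs, hξ, hu⟩ := exists_specializes_of_isQuotientMap q
    (hU (pullback.snd (g ≫ b) f) (g ≫ b) q (IsPullback.of_hasPullback (g ≫ b) f))
  obtain ⟨A, hA1, hA2, ψ, hψξ, hψu⟩ := VCov93.exists_val_of_specializes hs
  have heq : ψ ≫ q ≫ g = ψ ≫ pullback.snd (g ≫ b) f ≫ U.ι := by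
    refine eq_of_isIso_restrict b W _ _ ?_ (s := VCov93.genPt A) ?_
    · simp only [Category.assoc, q, f, pullback.condition]
    · show b ((ψ ≫ q ≫ g) _) ∈ W
      rw [Scheme.Hom.comp_apply, Scheme.Hom.comp_apply, hψξ, hξ, hgg]
      exact hηW
  have hx : (ψ ≫ q ≫ g) (VCov93.clPt A) = x := by
    rw [Scheme.Hom.comp_apply, Scheme.Hom.comp_apply, hψu, hu, hgc]
  rw [heq, Scheme.Hom.comp_apply, Scheme.Hom.comp_apply] at hx
  exact hx ▸ (pullback.snd (g ≫ b) f (ψ (VCov93.clPt A))).2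

end Groth.Agent.HTop50
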