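import Groth.Agent.HTop50.RootData

/-! A homogeneous certificate that the coordinates indexed by a set dominate: if over every valuation
ring some coordinate of the set divides all the others, a homogeneous identity witnesses it. -/

set_option autoImplicit false
set_option linter.style.haveILetI false

universe u

open MvPolynomial

namespace Groth.Agent.HTop50

variable {D R' : Type u} [CommRing D] [CommRing R'] {P : Type u}

/-- Some coordinate in the set divides all coordinates, over every valuation ring on which the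
homomorphism is defined generically. -/
def Dominated (f : D →+* R') (E : P → D) (Gs : Set P) : Prop :=
  ∀ (V : Type u) [CommRing V] [IsDomain V] [ValuationRing V] (φ : D →+* V) (K : Type u) [Field K]
    (j : V →+* K) (ψ : R' →+* K), Function.Injective j → ψ.comp f = j.comp φ →
      ∃ π ∈ Gs, ∀ ρ, φ (E π) ∣ φ (E ρ)

/-- Homogenisation, with a chosen coordinate as the extra variable. -/
noncomputable def hmgAt (c : P) (h : MvPolynomial P D) : MvPolynomial P D :=
  rename (fun o : Option P => o.elim c id) (hmg h)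

theorem isHomogeneous_hmgAt (c : P) (h : MvPolynomial P D) :
    (hmgAt c h).IsHomogeneous h.totalDegree :=
  (isHomogeneous_hmg h).rename_isHomogeneous

theorem eval_hmgAt {S : Type u} [CommRing S] (φ : D →+* S) (c : P) (a : P → S) (b : P → S)
    (hab : ∀ ρ, a ρ = a c * b ρ) (h : MvPolynomial P D) :
    eval₂Hom φ a (hmgAt c h) = a c ^ h.totalDegree * eval₂Hom φ b h := by
  rw [← eval_hmg φ h (a c) b, hmgAt, eval₂Hom_rename]
  congr 2
  funext o
  rcases o with _ | i
  · rfl
  · exact hab i

set_option maxHeartbeats 1000000 in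
-- localisation bookkeeping
/-- The certificate. -/
theorem exists_certificate [Finite P] {f : D →+* R'} {E : P → D} {Gs : Finset P}
    (hdom : Dominated f E Gs) (c : P) :
    ∃ (k : ℕ) (H : P → MvPolynomial P D), (∀ π, (H π).IsHomogeneous k) ∧
      eval₂Hom f (fun ρ => f (E ρ)) (X c ^ (k + 1) - ∑ π ∈ Gs, X π * H π) = 0 := by
  classical
  let g := f (E c)
  let L := Localization.Away g
  let i : R' →+* L := algebraMap R' L
  have hu : IsUnit (i g) := IsLocalization.Away.algebraMap_isUnit g
  let x : P → L := fun ρ => i (f (E ρ)) * ↑hu.unit⁻¹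
  have hx : ∀ ρ, i (f (E ρ)) = i g * x ρ := fun ρ => by
    show i (f (E ρ)) = i g * (i (f (E ρ)) * ↑hu.unit⁻¹)
    rw [mul_left_comm, IsUnit.mul_val_inv, mul_one]
  let Ψ : MvPolynomial P D →+* L := eval₂Hom (i.comp f) x
  let J : Ideal (MvPolynomial P D) :=
    RingHom.ker Ψ ⊔ Ideal.span ((fun π => (X π : MvPolynomial P D)) '' (Gs : Set P))
  have hJ : J = ⊤ := by
    by_contra hne
    obtain ⟨m, hm, hJm⟩ := Ideal.exists_le_maximal J hne
    have hkm : RingHom.ker Ψ ≤ m := le_sup_left.trans hJm
    -- a prime of the localisation below `m`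
    have hdisj : Disjoint (m.primeCompl.map Ψ.toMonoidHom : Set L) (⊥ : Ideal L) := by
      rw [Set.disjoint_left]
      rintro z ⟨s, hs, rfl⟩ hz
      exact hs (hkm (show Ψ s = 0 from hz))
    obtain ⟨q, hq, -, hqd⟩ := Ideal.exists_le_prime_disjoint (⊥ : Ideal L) _ hdisj.symm
    let K := q.ResidueField
    let θ : MvPolynomial P D →+* K := (algebraMap L K).comp Ψ
    have hθ : ∀ s : m.primeCompl, IsUnit (θ s) := fun s => by
      refine IsUnit.mk0 _ fun h0 => ?_
      have h1 : Ψ s ∈ q := Ideal.algebraMap_residueField_eq_zero.1 h0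
      exact Set.disjoint_left.1 hqd h1 ⟨s, s.2, rfl⟩
    let θ' : Localization.AtPrime m →+* K := IsLocalization.lift hθ
    obtain ⟨W, hW, hloc⟩ := IsLocalRing.exists_factor_valuationRing θ'
    have hθW : ∀ s, θ s ∈ W := fun s => by
      rw [← IsLocalization.lift_eq (S := Localization.AtPrime m) hθ s]
      exact hW _
    let φ : D →+* W := (θ.comp C).codRestrict W.toSubring fun d => hθW (C d)
    obtain ⟨π, hπ, hdvd⟩ := hdom W φ K W.subtype ((algebraMap L K).comp i) Subtype.val_injective
      (RingHom.ext fun d => by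
        show algebraMap L K (i (f d)) = θ (C d)
        rw [RingHom.comp_apply, eval₂Hom_C]
        rfl)
    obtain ⟨w, hw⟩ := hdvd c
    have hXπ : (X π : MvPolynomial P D) ∈ m :=
      hJm (Ideal.mem_sup_right (Ideal.subset_span ⟨π, hπ, rfl⟩))
    let t : Localization.AtPrime m := algebraMap _ _ (X π : MvPolynomial P D)
    have ht : ¬ IsUnit t := fun h =>
      (IsLocalization.AtPrime.isUnit_to_map_iff _ m _).1 h hXπ
    refine ht (isUnit_of_map_unit (θ'.codRestrict W.toSubring hW) t ?_)
    refine IsUnit.of_mul_eq_one w (Subtype.ext ?_)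
    show θ' t * (w : K) = 1
    rw [IsLocalization.lift_eq hθ, RingHom.comp_apply, eval₂Hom_X']
    have hw' : algebraMap L K (i g) = algebraMap L K (i (f (E π))) * (w : K) := by
      have := congrArg Subtype.val hw
      simpa [φ, θ, Ψ, g] using this
    have hgne : algebraMap L K (i g) ≠ 0 := (hu.map (algebraMap L K)).ne_zero
    refine mul_left_cancel₀ hgne ?_
    rw [mul_one, ← mul_assoc, ← map_mul, ← hx, ← hw']
  obtain ⟨p, hp, q, hq, hpq⟩ := Submodule.mem_sup.1 ((Ideal.eq_top_iff_one J).1 hJ)
  obtain ⟨h, hh⟩ : ∃ h : P → MvPolynomial P D, ∑ π ∈ Gs, h π * X π = q := by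
    exact (Submodule.mem_span_image_finset_iff_exists_fun' _).1 hq
  let k₀ := Gs.sup fun π => (h π).totalDegree
  let H₀ : P → MvPolynomial P D := fun π =>
    if π ∈ Gs then X c ^ (k₀ - (h π).totalDegree) * hmgAt c (h π) else 0
  have hH₀ : ∀ π, (H₀ π).IsHomogeneous k₀ := fun π => by
    by_cases hπ : π ∈ Gs
    · have hle : (h π).totalDegree ≤ k₀ := Finset.le_sup (f := fun π => (h π).totalDegree) hπ
      have := ((isHomogeneous_X D c).pow (k₀ - (h π).totalDegree)).mul
        (isHomogeneous_hmgAt c (h π))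
      rw [one_mul, Nat.sub_add_cancel hle] at this
      simpa [H₀, hπ] using this
    · simpa [H₀, hπ] using isHomogeneous_zero (σ := P) (R := D) k₀
  let Φ : MvPolynomial P D →+* R' := eval₂Hom f fun ρ => f (E ρ)
  have hev : i (Φ (X c ^ (k₀ + 1) - ∑ π ∈ Gs, X π * H₀ π)) = 0 := by
    have hΦ : i.comp Φ = eval₂Hom (i.comp f) fun ρ => i (f (E ρ)) := by
      simp [Φ, comp_eval₂Hom]
    rw [← RingHom.comp_apply, hΦ]
    simp only [map_sub, map_pow, map_sum, map_mul, eval₂Hom_X']
    have : ∀ π ∈ Gs, i (f (E π)) * eval₂Hom (i.comp f) (fun ρ => i (f (E ρ))) (H₀ π) =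
        i g ^ (k₀ + 1) * Ψ (h π * X π) := by
      intro π hπ
      have hle : (h π).totalDegree ≤ k₀ := Finset.le_sup (f := fun π => (h π).totalDegree) hπ
      simp only [H₀, if_pos hπ, map_mul, map_pow, eval₂Hom_X',
        eval_hmgAt (i.comp f) c (fun ρ => i (f (E ρ))) x hx, Ψ]
      rw [hx π, pow_succ, show i (f (E c)) = i g from rfl]
      conv_rhs => rw [← Nat.sub_add_cancel hle, pow_add]
      ring
    rw [Finset.sum_congr rfl this, ← Finset.mul_sum, ← map_sum, hh, sub_eq_zero]
    have h1 : Ψ q = 1 := by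
      rw [← map_one Ψ, ← hpq, map_add, RingHom.mem_ker.1 hp, zero_add]
    rw [h1, mul_one]
  rw [IsLocalization.map_eq_zero_iff (Submonoid.powers g)] at hev
  obtain ⟨⟨_, N, rfl⟩, hN⟩ := hev
  refine ⟨k₀ + N, fun π => X c ^ N * H₀ π, fun π => ?_, ?_⟩
  · have := ((isHomogeneous_X D c).pow N).mul (hH₀ π)
    rwa [one_mul, add_comm] at this
  · rw [show (X c ^ (k₀ + N + 1) - ∑ π ∈ Gs, X π * (X c ^ N * H₀ π) : MvPolynomial P D) =
      X c ^ N * (X c ^ (k₀ + 1) - ∑ π ∈ Gs, X π * H₀ π) by
        rw [mul_sub, Finset.mul_sum]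
        congr 1
        · rw [← pow_add]; congr 1; omega
        · exact Finset.sum_congr rfl fun π _ => by ring]
    rw [map_mul, map_pow, eval₂Hom_X']
    exact hN

end Groth.Agent.HTop50
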