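import Groth.Agent.HTop50.PtFunAlg
import Groth.Agent.VCov93.Basic
import Mathlib.AlgebraicGeometry.Morphisms.Proper

/-! Descent of sections along proper surjective morphisms to seminormal schemes. -/

set_option autoImplicit false
set_option linter.style.haveILetI false

universe u

open CategoryTheory CategoryTheory.Limits AlgebraicGeometry IsLocalRing W4c1hilbchowinc
open scoped TensorProduct

namespace Groth.Agent.HTop50

theorem mem_range_of_tmul {K L : Type u} [Field K] [Field L] [Algebra K L] {c : L}
    (h : c ⊗ₜ[K] (1 : L) = (1 : L) ⊗ₜ[K] c) : c ∈ (algebraMap K L).range := by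
  by_contra hc
  have hc' : c ∉ Submodule.span K ({1} : Set L) := fun hmem => by
    obtain ⟨k, hk⟩ := Submodule.mem_span_singleton.1 hmem
    exact hc ⟨k, by rw [Algebra.algebraMap_eq_smul_one, hk]⟩
  obtain ⟨ℓ, hℓc, hℓ⟩ := Submodule.exists_dual_map_eq_bot_of_notMem hc' inferInstance
  have h1 : ℓ 1 = 0 := by
    have : ℓ 1 ∈ Submodule.map ℓ (Submodule.span K ({1} : Set L)) :=
      Submodule.mem_map_of_mem (Submodule.subset_span rfl)
    rwa [hℓ, Submodule.mem_bot] at this
  have := congrArg ((TensorProduct.lid K L).toLinearMap ∘ₗ TensorProduct.map ℓ LinearMap.id) h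
  simp only [LinearMap.comp_apply, TensorProduct.map_tmul, LinearMap.id_apply, LinearEquiv.coe_coe,
    TensorProduct.lid_tmul, h1, zero_smul, smul_eq_zero, one_ne_zero, or_false] at this
  exact hℓc this

theorem fromSpecResidueField_appTop {X : Scheme.{u}} (x : X) :
    (X.fromSpecResidueField x).appTop =
      X.Γevaluation x ≫ (Scheme.ΓSpecIso (X.residueField x)).inv := by
  rw [Scheme.fromSpecResidueField, Scheme.Hom.comp_appTop, Scheme.fromSpecStalk_appTop]
  simp only [homOfLE_refl, op_id, CategoryTheory.Functor.map_id, Category.assoc, Category.id_comp,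
    ← Scheme.ΓSpecIso_inv_naturality]
  rfl

variable {X Y : Scheme.{u}} (π : Y ⟶ X) (s : Γ(Y, ⊤))

theorem section_eq_of_pullback (hs : (pullback.fst π π).appTop s = (pullback.snd π π).appTop s)
    {T : Scheme.{u}} (p q : T ⟶ Y) (h : p ≫ π = q ≫ π) : p.appTop s = q.appTop s := by
  conv_lhs => rw [← pullback.lift_fst p q h]
  conv_rhs => rw [← pullback.lift_snd p q h]
  rw [Scheme.Hom.comp_appTop, Scheme.Hom.comp_appTop, CommRingCat.comp_apply, CommRingCat.comp_apply,
    hs]

/-- The value of the section at a point comes from the residue field below. -/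
theorem exists_value_below (hs : (pullback.fst π π).appTop s = (pullback.snd π π).appTop s) (y : Y) :
    ∃ c, (π.residueFieldMap y).hom c = Y.Γevaluation y s := by
  let _ : Algebra (X.residueField (π y)) (Y.residueField y) := (π.residueFieldMap y).hom.toAlgebra
  let T := (Y.residueField y : Type u) ⊗[X.residueField (π y)] (Y.residueField y)
  let i₁ : Y.residueField y →+* T := Algebra.TensorProduct.includeLeftRingHom
  let i₂ : Y.residueField y →+* T :=
    (Algebra.TensorProduct.includeRight (R := X.residueField (π y)) (A := Y.residueField y)).toRingHom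
  have he : π.residueFieldMap y ≫ CommRingCat.ofHom i₁ = π.residueFieldMap y ≫ CommRingCat.ofHom i₂ :=
    CommRingCat.hom_ext (RingHom.ext fun k => Algebra.TensorProduct.tmul_one_eq_one_tmul k)
  have heq := section_eq_of_pullback π s hs
    (Spec.map (CommRingCat.ofHom i₁) ≫ Y.fromSpecResidueField y)
    (Spec.map (CommRingCat.ofHom i₂) ≫ Y.fromSpecResidueField y) (by
      rw [Category.assoc, Category.assoc, ← Scheme.Hom.SpecMap_residueFieldMap_fromSpecResidueField,
        ← Spec.map_comp_assoc, ← Spec.map_comp_assoc]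
      exact congrArg (fun k => Spec.map k ≫ _) he)
  simp only [Scheme.Hom.comp_appTop, fromSpecResidueField_appTop, Category.assoc,
    ← Scheme.ΓSpecIso_inv_naturality, CommRingCat.comp_apply] at heq
  have := (ConcreteCategory.bijective_of_isIso (Scheme.ΓSpecIso (CommRingCat.of T)).inv).1 heq
  obtain ⟨c, hc⟩ := mem_range_of_tmul this
  exact ⟨c, hc⟩

/-- The pointwise function below a section with equal pullbacks. -/
theorem exists_ptFun [Surjective π]
    (hs : (pullback.fst π π).appTop s = (pullback.snd π π).appTop s) :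
    ∃ f : PtFun X, f.pullback π = PtFun.ofSection Y s := by
  classical
  have key : ∀ x : X, ∃ c : X.residueField x, ∀ (y : Y) (h : π y = x),
      (π.residueFieldMap y).hom ((X.residueFieldCongr h).inv.hom c) = Y.Γevaluation y s := by
    intro x
    obtain ⟨y₀, rfl⟩ := π.surjective x
    obtain ⟨c, hc⟩ := exists_value_below π s hs y₀
    refine ⟨c, fun y h => ?_⟩
    obtain ⟨z, hz₁, hz₂⟩ := Scheme.Pullback.exists_preimage_pullback (f := π) (g := π) y y₀ h
    subst hz₁ hz₂
    apply ((pullback.fst π π).residueFieldMap z).hom.injective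
    rw [Scheme.Γevaluation_naturality_apply, hs, ← Scheme.Γevaluation_naturality_apply, ← hc,
      ← CommRingCat.comp_apply, ← CommRingCat.comp_apply, ← CommRingCat.comp_apply,
      ← Scheme.residueFieldMap_comp, ← Scheme.residueFieldMap_comp,
      Scheme.Hom.residueFieldMap_congr (pullback.condition (f := π) (g := π)) z]
    simp only [Scheme.residueFieldCongr_inv]
    erw [Scheme.residueFieldCongr_trans_hom_assoc]
    rfl
  choose f hf using key
  refine ⟨f, funext fun y => ?_⟩
  have := hf (π y) y rfl
  simpa [PtFun.pullback, PtFun.ofSection] using this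

theorem pullback_pullback {Z : Scheme.{u}} (g : Z ⟶ Y) (f : PtFun X) :
    (f.pullback π).pullback g = f.pullback (g ≫ π) := by
  funext z
  simp only [PtFun.pullback, Scheme.residueFieldMap_comp, CommRingCat.comp_apply]
  rfl

/-- The function varies along discrete valuation rings. -/
theorem variesAlongDVR_of_pullback [IsProper π] [Surjective π] (f : PtFun X)
    (hf : f.pullback π = PtFun.ofSection Y s) : f.VariesAlongDVR := by
  intro R _ _ _ g
  have key : ∀ fR : PtFun (Spec (CommRingCat.of R)), fR = f.pullback g → fR.IsAlgebraic := by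
    intro fR hfR
    choose num den hden hnd using fun x : PrimeSpectrum R => exists_ev_frac x (fR x)
    obtain ⟨W, _, _, ψ, ⟨hψi, hψl⟩, g', hg'⟩ :=
      VCov93.exists_lift_of_proper_surjective π (CommRingCat.of R) g
    obtain ⟨w, hw⟩ := exists_eq_inv (A := W) (g'.appTop s)
    have hval : ∀ z : PrimeSpectrum W,
        w * ψ.hom (den (PrimeSpectrum.comap ψ.hom z)) - ψ.hom (num (PrimeSpectrum.comap ψ.hom z)) ∈
          z.asIdeal := by
      intro z
      have e1 : ev z w = (fR.pullback (Spec.map ψ)) z := by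
        rw [hfR, pullback_pullback, ← hg', ← pullback_pullback, hf]
        show _ = (g'.residueFieldMap z).hom (Y.Γevaluation (g' z) s)
        rw [Scheme.Γevaluation_naturality_apply, ← hw]
        rfl
      have e2 := congrArg ((Spec.map ψ).residueFieldMap z).hom (hnd (PrimeSpectrum.comap ψ.hom z))
      erw [map_mul, residueFieldMap_ev ψ.hom z, residueFieldMap_ev ψ.hom z] at e2
      rw [← ev_eq_zero_iff, map_sub, map_mul, e1, sub_eq_zero]
      exact e2
    have := hψl
    let z₀ : PrimeSpectrum W := ⟨⊥, Ideal.isPrime_bot⟩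
    let p₀ : PrimeSpectrum R := ⟨⊥, Ideal.isPrime_bot⟩
    have hc₀ : PrimeSpectrum.comap ψ.hom z₀ = p₀ := PrimeSpectrum.ext (by
      show Ideal.comap ψ.hom ⊥ = ⊥
      rw [← RingHom.ker_eq_comap_bot]
      exact (RingHom.injective_iff_ker_eq_bot _).1 hψi)
    have h0 := hval z₀
    rw [hc₀] at h0
    change w * ψ.hom (den p₀) - ψ.hom (num p₀) ∈ (⊥ : Ideal W) at h0
    rw [Ideal.mem_bot, sub_eq_zero] at h0
    have hd0 : den p₀ ≠ 0 := fun h => hden p₀ (by rw [h]; exact zero_mem _)
    obtain ⟨r, hr⟩ : den p₀ ∣ num p₀ := dvd_of_map_dvd ψ.hom hψi hd0 ⟨w, by rw [← h0, mul_comm]⟩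
    have hwr : w = ψ.hom r := by
      refine mul_right_cancel₀ (b := ψ.hom (den p₀)) ((map_ne_zero_iff _ hψi).2 hd0) ?_
      rw [h0, hr, map_mul, mul_comm]
    refine ⟨(Scheme.ΓSpecIso (CommRingCat.of R)).inv.hom r, funext fun q => ?_⟩
    show ev q r = fR q
    obtain ⟨z, hz⟩ : ∃ z : PrimeSpectrum W, PrimeSpectrum.comap ψ.hom z = q := by
      by_cases hq : q.asIdeal = ⊥
      · exact ⟨z₀, hc₀.trans (PrimeSpectrum.ext hq.symm)⟩
      · refine ⟨closedPoint W, PrimeSpectrum.ext ?_⟩
        have : q.asIdeal.IsMaximal := q.isPrime.isMaximal hq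
        rw [IsLocalRing.eq_maximalIdeal this]
        exact maximalIdeal_comap ψ.hom
    subst hz
    have h1 := hval z
    rw [hwr, ← map_mul, ← map_sub] at h1
    refine mul_right_cancel₀ (fun h => hden _ ((ev_eq_zero_iff _).1 h)) ?_
    rw [hnd, ← map_mul, ← sub_eq_zero, ← map_sub, ev_eq_zero_iff]
    exact h1
  exact key _ rfl

/-- Sections agreeing at all points are equal. -/
theorem section_ext_of_isReduced [IsReduced X] {U : X.Opens} (a b : Γ(X, U))
    (h : ∀ (x : X) (hx : x ∈ U), X.evaluation U x hx a = X.evaluation U x hx b) : a = b := by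
  rw [← sub_eq_zero]
  refine eq_zero_of_basicOpen_eq_bot _ (eq_bot_iff.2 fun x hx => ?_)
  have hxU := X.basicOpen_le _ hx
  exact (Scheme.evaluation_ne_zero_iff_mem_basicOpen X x hxU _).2 hx (by rw [map_sub, h x hxU, sub_self])

end Groth.Agent.HTop50
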