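import Mathlib.AlgebraicGeometry.Sites.BigZariski
import Mathlib.AlgebraicGeometry.AffineScheme
import Mathlib.RingTheory.RingHom.Flat
import Mathlib.RingTheory.RingHom.Finite
import Mathlib.RingTheory.RingHom.FinitePresentation
import Mathlib.RingTheory.FiniteType
import Mathlib.RingTheory.FinitePresentation
import Mathlib.RingTheory.Localization.FractionRing
import Mathlib.RingTheory.Ideal.Quotient.Operations

/-! Devissage for topologies in which two-generated almost blow up squares, quotients by torsion and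
finite free maps are coverings. -/

set_option autoImplicit false

universe u

open CategoryTheory AlgebraicGeometry

namespace Groth.Agent.HTop50

/-- The coverings used in the devissage. -/
structure DevissageAxioms (J : GrothendieckTopology Scheme.{u}) : Prop where
  zariski : Scheme.zariskiTopology ≤ J
  free : ∀ (A B : CommRingCat.{u}) (φ : A ⟶ B), φ.hom.Finite → φ.hom.Flat → φ.hom.FinitePresentation →
    Function.Injective φ.hom → Sieve.generate (Presieve.singleton (Spec.map φ)) ∈ J (Spec A)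
  dvd : ∀ (A : CommRingCat.{u}) (f g : A) (S : Sieve (Spec A)),
    (∀ (B : CommRingCat.{u}) (φ : A ⟶ B), (φ.hom f ∣ φ.hom g ∨ φ.hom g ∣ φ.hom f) → S (Spec.map φ)) →
      S ∈ J (Spec A)
  torsion : ∀ (A : CommRingCat.{u}) [IsNoetherianRing A] (f : A) (I : Ideal A),
    (∀ k ∈ I, ∃ n : ℕ, f ^ n * k = 0) → ∀ S : Sieve (Spec A),
      S.pullback (Spec.map (CommRingCat.ofHom (Ideal.Quotient.mk I))) ∈ J _ →
      S.pullback (Spec.map (CommRingCat.ofHom (Ideal.Quotient.mk (Ideal.span {f})))) ∈ J _ →
        S ∈ J (Spec A)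

variable {J : GrothendieckTopology Scheme.{u}}

/-- Covering may be checked on affine schemes mapping to the target. -/
theorem mem_of_spec (hJ : DevissageAxioms J) {T : Scheme.{u}} (S : Sieve T)
    (h : ∀ (B : CommRingCat.{u}) (l : Spec B ⟶ T), S.pullback l ∈ J _) : S ∈ J T := by
  refine J.transitive (hJ.zariski _ T.affineCover.mem_grothendieckTopology) S ?_
  rintro Z _ ⟨_, b, _, ⟨i⟩, rfl⟩
  rw [Sieve.pullback_comp]
  exact J.pullback_stable b (h _ (T.affineCover.f i))

/-- Every sieve on an empty affine scheme is covering. -/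
theorem mem_of_subsingleton (hJ : DevissageAxioms J) (A : CommRingCat.{u}) [Subsingleton A]
    (S : Sieve (Spec A)) : S ∈ J (Spec A) := by
  refine J.superset_covering ?_ (hJ.zariski _ (Spec A).affineCover.mem_grothendieckTopology)
  rintro Z _ ⟨_, b, _, ⟨i⟩, rfl⟩
  have : IsEmpty (Spec A : Scheme.{u}) := inferInstanceAs (IsEmpty (PrimeSpectrum A))
  exact (this.false i).elim

/-- Pullback along a composite. -/
theorem pullback_mem_of_fac {A B C : CommRingCat.{u}} (S : Sieve (Spec A)) (φ : A ⟶ C) (α : A ⟶ B)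
    (β : B ⟶ C) (h : α ≫ β = φ) (hα : S.pullback (Spec.map α) ∈ J _) :
    S.pullback (Spec.map φ) ∈ J _ := by
  rw [← h, Spec.map_comp, Sieve.pullback_comp]
  exact J.pullback_stable _ hα

/-- Pullback to a principal closed subscheme along a further map. -/
theorem pullback_quotient_map {A : CommRingCat.{u}} (S : Sieve (Spec A)) {R C : Type u} [CommRing R]
    [CommRing C] (φ : A →+* R) (τ : R →+* C) (x : R)
    (h : S.pullback (Spec.map (CommRingCat.ofHom ((Ideal.Quotient.mk (Ideal.span {x})).comp φ))) ∈ J _) :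
    (S.pullback (Spec.map (CommRingCat.ofHom φ ≫ CommRingCat.ofHom τ))).pullback
      (Spec.map (CommRingCat.ofHom (Ideal.Quotient.mk (Ideal.span {τ x})))) ∈ J _ := by
  rw [← Sieve.pullback_comp, ← Spec.map_comp]
  refine pullback_mem_of_fac S _ _ (CommRingCat.ofHom (Ideal.Quotient.lift (Ideal.span {x})
    ((Ideal.Quotient.mk (Ideal.span {τ x})).comp τ) ?_)) ?_ h
  · intro y hy
    obtain ⟨z, rfl⟩ := Ideal.mem_span_singleton'.1 hy
    rw [RingHom.comp_apply, map_mul τ, Ideal.Quotient.eq_zero_iff_mem]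
    exact Ideal.mul_mem_left _ _ (Ideal.subset_span rfl)
  · rfl

/-- Morphisms along which, affine locally, some member of the family divides the others. -/
def bestSieve {A : CommRingCat.{u}} {ι : Type u} (s : Finset ι) (f : ι → A) : Sieve (Spec A) where
  arrows Z := fun h => ∀ (B : CommRingCat.{u}) (l : Spec B ⟶ Z), ∃ k ∈ s, ∀ i ∈ s,
    (Spec.preimage (l ≫ h)).hom (f k) ∣ (Spec.preimage (l ≫ h)).hom (f i)
  downward_closed {Z Z'} h hh g B l := by
    simpa only [← Category.assoc] using hh B (l ≫ g)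

theorem bestSieve_map {A B : CommRingCat.{u}} {ι : Type u} {s : Finset ι} {f : ι → A} (φ : A ⟶ B)
    (h : ∃ k ∈ s, ∀ i ∈ s, φ.hom (f k) ∣ φ.hom (f i)) : bestSieve s f (Spec.map φ) := by
  intro C l
  obtain ⟨k, hk, hd⟩ := h
  refine ⟨k, hk, fun i hi => ?_⟩
  rw [show Spec.preimage (l ≫ Spec.map φ) = φ ≫ Spec.preimage l from
    Spec.map_injective (by rw [Spec.map_preimage, Spec.map_comp, Spec.map_preimage])]
  exact map_dvd (Spec.preimage l).hom (hd i hi)

/-- Principalization of a finitely generated ideal. -/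
theorem bestSieve_mem (hJ : DevissageAxioms J) {A : CommRingCat.{u}} {ι : Type u} (s : Finset ι)
    (hs : s.Nonempty) (f : ι → A) : bestSieve s f ∈ J (Spec A) := by
  classical
  induction s using Finset.induction_on generalizing A with
  | empty => exact absurd hs (by simp)
  | insert a t hat ih =>
    rcases t.eq_empty_or_nonempty with rfl | ht
    · refine hJ.dvd A (f a) (f a) _ fun B φ _ => bestSieve_map φ ⟨a, by simp, fun i hi => ?_⟩
      simp only [Finset.mem_insert, Finset.notMem_empty, or_false] at hi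
      rw [hi]
    refine J.transitive (ih ht f) _ fun Z h hh => mem_of_spec hJ _ fun B l => ?_
    obtain ⟨k, hk, hd⟩ := hh B l
    set φ := Spec.preimage (l ≫ h) with hφ
    rw [← Sieve.pullback_comp, ← Spec.map_preimage (l ≫ h), ← hφ]
    refine hJ.dvd B (φ.hom (f a)) (φ.hom (f k)) _ fun C ψ hψ => ?_
    show bestSieve _ f (Spec.map ψ ≫ Spec.map φ)
    rw [← Spec.map_comp]
    refine bestSieve_map _ ?_
    simp only [CommRingCat.hom_comp, RingHom.comp_apply]
    rcases hψ with h1 | h1
    · refine ⟨a, Finset.mem_insert_self _ _, fun i hi => ?_⟩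
      rcases Finset.mem_insert.1 hi with rfl | hi
      · rfl
      · exact h1.trans (map_dvd ψ.hom (hd i hi))
    · refine ⟨k, Finset.mem_insert_of_mem hk, fun i hi => ?_⟩
      rcases Finset.mem_insert.1 hi with rfl | hi
      · exact h1
      · exact map_dvd ψ.hom (hd i hi)

variable {A : CommRingCat.{u}} {K : Type u} [Field K] [Algebra A K]

/-- The sieve pulls back to a covering of the spectrum of a subalgebra. -/
def Good (J : GrothendieckTopology Scheme.{u}) (S : Sieve (Spec A)) (R : Subalgebra A K) : Prop :=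
  S.pullback (Spec.map (CommRingCat.ofHom (algebraMap A R))) ∈ J (Spec (CommRingCat.of R))

variable [IsNoetherianRing A] (hJ : DevissageAxioms J) (S : Sieve (Spec A))
  (hfrac : ∀ x : K, ∃ a b : A, algebraMap A K b ≠ 0 ∧ x * algebraMap A K b = algebraMap A K a)
  (hbig : ∀ x : A, algebraMap A K x ≠ 0 → S.pullback (Spec.map (CommRingCat.ofHom
    (Ideal.Quotient.mk (RingHom.ker (algebraMap A K) ⊔ Ideal.span {x})))) ∈ J _)

omit [IsNoetherianRing A] in
include hfrac hbig in
/-- Proper closed subsets of the spectrum of a subalgebra are covered. -/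
theorem pullback_quotient_mem (R : Subalgebra A K) (d : R) (hd : d ≠ 0) :
    S.pullback (Spec.map (CommRingCat.ofHom
      ((Ideal.Quotient.mk (Ideal.span {d})).comp (algebraMap A R)))) ∈ J _ := by
  obtain ⟨a, b, hb, hab⟩ := hfrac (d : K)
  have ha : algebraMap A K a ≠ 0 := by
    rw [← hab]
    exact mul_ne_zero (fun h => hd (Subtype.ext h)) hb
  refine pullback_mem_of_fac S _ _ (CommRingCat.ofHom (Ideal.Quotient.lift
    (RingHom.ker (algebraMap A K) ⊔ Ideal.span {a}) ((Ideal.Quotient.mk (Ideal.span {d})).comp (algebraMap A R)) ?_)) ?_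
    (hbig a ha)
  · intro x hx
    obtain ⟨y, hy, z, hz, rfl⟩ := Submodule.mem_sup.1 hx
    obtain ⟨c, rfl⟩ := Ideal.mem_span_singleton'.1 hz
    have h1 : algebraMap A R y = 0 := Subtype.ext hy
    have h2 : algebraMap A R a = d * algebraMap A R b := Subtype.ext hab.symm
    rw [RingHom.comp_apply, map_add (algebraMap A R), h1, zero_add,
      map_mul (algebraMap A R), h2, Ideal.Quotient.eq_zero_iff_mem]
    exact Ideal.mul_mem_left _ _ (Ideal.mul_mem_right _ _ (Ideal.subset_span rfl))
  · rfl

include hJ hfrac hbig in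
/-- Principalization inside the fraction field. -/
theorem good_of_ratios (R : Subalgebra A K) (hR : R.FG) {ι : Type u} [Finite ι] (s : ι → K)
    (hs : ∃ k, s k ≠ 0)
    (h : ∀ k, s k ≠ 0 → Good J S (R ⊔ Algebra.adjoin A (Set.range fun i => s i / s k))) :
    Good J S R := by
  classical
  have := Fintype.ofFinite ι
  choose a b hb hab using fun i => hfrac (s i)
  let D : A := ∏ i, b i
  have hD : algebraMap A K D ≠ 0 := by
    rw [map_prod]; exact Finset.prod_ne_zero_iff.2 fun i _ => hb i
  have hc : ∀ i, ∃ c : A, s i * algebraMap A K D = algebraMap A K c := fun i => by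
    refine ⟨a i * ∏ l ∈ Finset.univ.erase i, b l, ?_⟩
    rw [map_mul, ← hab, mul_assoc, ← map_mul, Finset.mul_prod_erase Finset.univ b (Finset.mem_univ i)]
  choose c hc using hc
  let f : ι → R := fun i => algebraMap A R (c i)
  have hf : ∀ i, (f i : K) = s i * algebraMap A K D := fun i => (hc i).symm
  obtain ⟨k₁, hk₁⟩ := hs
  have hfk₁ : f k₁ ≠ 0 := fun h0 => mul_ne_zero hk₁ hD (by rw [← hf, h0]; rfl)
  have : Algebra.FiniteType A R := (Subalgebra.fg_iff_finiteType R).1 hR
  have : IsNoetherianRing R := Algebra.FiniteType.isNoetherianRing A R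
  refine J.transitive (bestSieve_mem hJ (A := CommRingCat.of R) Finset.univ ⟨k₁, Finset.mem_univ _⟩ f) _
    fun Z g hg => mem_of_spec hJ _ fun B l => ?_
  obtain ⟨k, -, hk⟩ := hg B l
  set φ := Spec.preimage (l ≫ g) with hφ
  rw [← Sieve.pullback_comp, ← Spec.map_preimage (l ≫ g), ← hφ, ← Sieve.pullback_comp, ← Spec.map_comp]
  by_cases hk0 : f k = 0
  · refine pullback_mem_of_fac S _ _ (CommRingCat.ofHom (Ideal.Quotient.lift
      (Ideal.span {f k₁}) φ.hom ?_)) ?_ (pullback_quotient_mem S hfrac hbig R (f k₁) hfk₁)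
    · intro x hx
      obtain ⟨y, rfl⟩ := Ideal.mem_span_singleton'.1 hx
      obtain ⟨z, hz⟩ := hk k₁ (Finset.mem_univ _)
      rw [map_mul, hz, hk0, map_zero, zero_mul, mul_zero]
    · rfl
  choose w hw using fun i => hk i (Finset.mem_univ i)
  let rels : Ideal (MvPolynomial ι R) :=
    Ideal.span (Set.range fun i => MvPolynomial.C (f i) - MvPolynomial.X i * MvPolynomial.C (f k))
  let toC : R →+* (MvPolynomial ι R ⧸ rels) := (Ideal.Quotient.mk rels).comp MvPolynomial.C
  have hrels : rels ≤ RingHom.ker (MvPolynomial.eval₂Hom φ.hom w) := Ideal.span_le.2 (by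
    rintro _ ⟨i, rfl⟩
    simp only [SetLike.mem_coe, RingHom.mem_ker, map_sub, map_mul, MvPolynomial.eval₂Hom_C,
      MvPolynomial.eval₂Hom_X']
    rw [hw i]; ring)
  refine pullback_mem_of_fac S _ (CommRingCat.ofHom (algebraMap A R) ≫ CommRingCat.ofHom toC)
    (CommRingCat.ofHom (R := (MvPolynomial ι R ⧸ rels)) (Ideal.Quotient.lift rels (MvPolynomial.eval₂Hom φ.hom w) hrels : (MvPolynomial ι R ⧸ rels) →+* B)) ?_ ?_
  · refine CommRingCat.hom_ext (RingHom.ext fun x => ?_)
    exact MvPolynomial.eval₂Hom_C φ.hom w (algebraMap A R x)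
  let R' : Subalgebra A K := R ⊔ Algebra.adjoin A (Set.range fun i => s i / s k)
  have hsk : s k ≠ 0 := fun h0 => hk0 (Subtype.ext (by rw [hf, h0, zero_mul]; rfl))
  have hle : R ≤ R' := le_sup_left
  let xs : ι → R' := fun i => ⟨s i / s k,
    (le_sup_right : Algebra.adjoin A _ ≤ R') (Algebra.subset_adjoin ⟨i, rfl⟩)⟩
  let P : MvPolynomial ι R →+* R' := MvPolynomial.eval₂Hom (Subalgebra.inclusion hle).toRingHom xs
  have hP : rels ≤ RingHom.ker P := Ideal.span_le.2 (by
    rintro _ ⟨i, rfl⟩
    simp only [SetLike.mem_coe, RingHom.mem_ker, P, map_sub, map_mul, MvPolynomial.eval₂Hom_C,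
      MvPolynomial.eval₂Hom_X']
    apply Subtype.ext
    show (f i : K) - s i / s k * (f k : K) = 0
    rw [hf, hf, ← mul_assoc, div_mul_cancel₀ _ hsk, sub_self])
  let π : (MvPolynomial ι R ⧸ rels) →+* R' := Ideal.Quotient.lift rels P hP
  have hπs : Function.Surjective π := by
    let Pa : MvPolynomial ι R →ₐ[A] R' :=
      { P with
        commutes' := fun x => by
          show P (MvPolynomial.C (algebraMap A R x)) = _
          rw [MvPolynomial.eval₂Hom_C]; rfl }
    have hrange : (Pa.range.map R'.val) = R' := by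
      refine le_antisymm (fun x hx => ?_) (sup_le (fun x hx => ?_) (Algebra.adjoin_le ?_))
      · obtain ⟨y, -, rfl⟩ := hx; exact y.2
      · exact ⟨⟨x, hle hx⟩, ⟨MvPolynomial.C ⟨x, hx⟩, MvPolynomial.eval₂Hom_C _ _ _⟩, rfl⟩
      · rintro _ ⟨i, rfl⟩
        exact ⟨xs i, ⟨MvPolynomial.X i, MvPolynomial.eval₂Hom_X' _ _ _⟩, rfl⟩
    intro z
    obtain ⟨y, ⟨p, hp⟩, hyz⟩ := hrange.ge z.2
    exact ⟨Ideal.Quotient.mk rels p, hp.trans (Subtype.ext hyz)⟩
  have : IsNoetherianRing (MvPolynomial ι R ⧸ rels) := inferInstance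
  refine hJ.torsion (CommRingCat.of (MvPolynomial ι R ⧸ rels)) (toC (f k)) (RingHom.ker π) (fun z hz => ?_) _ ?_ ?_
  · have key : ∀ p : MvPolynomial ι R, ∃ (N : ℕ) (r : R),
        toC (f k) ^ N * Ideal.Quotient.mk rels p = toC r := by
      intro p
      induction p using MvPolynomial.induction_on with
      | C r => exact ⟨0, r, by rw [pow_zero, one_mul]; rfl⟩
      | add p q hp hq =>
        obtain ⟨N, r, hr⟩ := hp
        obtain ⟨M, t, ht⟩ := hq
        refine ⟨N + M, f k ^ M * r + f k ^ N * t, ?_⟩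
        simp only [map_add, map_mul, map_pow, ← hr, ← ht]
        ring
      | mul_X p i hp =>
        obtain ⟨N, r, hr⟩ := hp
        refine ⟨N + 1, r * f i, ?_⟩
        have hX : toC (f i) = Ideal.Quotient.mk rels (MvPolynomial.X i) * toC (f k) := by
          rw [← sub_eq_zero]
          simp only [toC, RingHom.comp_apply, ← map_mul, ← map_sub]
          exact Ideal.Quotient.eq_zero_iff_mem.2 (Ideal.subset_span ⟨i, rfl⟩)
        rw [map_mul toC, ← hr, hX, map_mul]
        ring
    obtain ⟨p, rfl⟩ := Ideal.Quotient.mk_surjective z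
    obtain ⟨N, r, hr⟩ := key p
    have hr0 : r = 0 := by
      have h1 := congrArg π hr
      rw [map_mul, RingHom.mem_ker.1 hz, mul_zero] at h1
      have h2 : P (MvPolynomial.C r) = 0 := h1.symm
      rw [MvPolynomial.eval₂Hom_C] at h2
      exact Subtype.ext (congrArg Subtype.val h2 : (r : K) = 0)
    exact ⟨N, by rw [hr, hr0, map_zero]⟩
  · rw [← Sieve.pullback_comp, ← Spec.map_comp]
    let e := RingHom.quotientKerEquivOfSurjective hπs
    refine pullback_mem_of_fac S _ _ (CommRingCat.ofHom e.symm.toRingHom) ?_ (h k hsk)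
    refine CommRingCat.hom_ext (RingHom.ext fun x => ?_)
    apply e.injective
    show e (e.symm (algebraMap A R' x)) = π (toC (algebraMap A R x))
    rw [e.apply_symm_apply]
    exact (MvPolynomial.eval₂Hom_C (Subalgebra.inclusion hle).toRingHom xs (algebraMap A R x)).symm
  · have h2 := pullback_quotient_map (R := R) (C := MvPolynomial ι R ⧸ rels) S (algebraMap A R) toC (f k)
      (pullback_quotient_mem S hfrac hbig R (f k) hk0)
    exact h2

omit [IsNoetherianRing A] in
include hJ in
/-- Covering the spectrum of a subalgebra Zariski locally. -/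
theorem good_of_local (R : Subalgebra A K)
    (h : ∀ m : Ideal R, m.IsMaximal → ∃ e ∉ m, Good J S (R ⊔ Algebra.adjoin A {(e : K)⁻¹})) :
    Good J S R := by
  classical
  choose e he hg using h
  let idx := {m : Ideal R // m.IsMaximal}
  let E : idx → R := fun m => e m.1 m.2
  have hspan : Ideal.span (Set.range E) = ⊤ := by
    by_contra hne
    obtain ⟨m, hm, hle⟩ := Ideal.exists_le_maximal _ hne
    exact he m hm (hle (Ideal.subset_span ⟨⟨m, hm⟩, rfl⟩))
  let 𝒰 := Scheme.affineOpenCoverOfSpanRangeEqTop (R := CommRingCat.of R) E hspan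
  refine J.transitive (hJ.zariski _ 𝒰.openCover.mem_grothendieckTopology) _ ?_
  rintro Z _ ⟨_, b, _, ⟨m⟩, rfl⟩
  rw [Sieve.pullback_comp]
  refine J.pullback_stable b ?_
  change Sieve.pullback (Spec.map (CommRingCat.ofHom (algebraMap R (Localization.Away (E m))))) _ ∈ J _
  rw [← Sieve.pullback_comp, ← Spec.map_comp]
  by_cases h0 : E m = 0
  · exact absurd (show E m ∈ m.1 by rw [h0]; exact m.1.zero_mem) (he m.1 m.2)
  let R' : Subalgebra A K := R ⊔ Algebra.adjoin A {(E m : K)⁻¹}
  have hu : IsUnit (algebraMap R (Localization.Away (E m)) (E m)) :=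
    IsLocalization.Away.algebraMap_isUnit _
  let : Algebra R R' := (Subalgebra.inclusion (le_sup_left : R ≤ R')).toRingHom.toAlgebra
  have hu' : IsUnit (algebraMap R R' (E m)) := ⟨⟨_, ⟨(E m : K)⁻¹,
    (le_sup_right : Algebra.adjoin A _ ≤ R') (Algebra.subset_adjoin rfl)⟩,
    Subtype.ext (mul_inv_cancel₀ fun h => h0 (Subtype.ext h)),
    Subtype.ext (inv_mul_cancel₀ fun h => h0 (Subtype.ext h))⟩, rfl⟩
  let θ : Localization.Away (E m) →+* R' := IsLocalization.Away.lift (E m) hu'
  have hθ : ∀ x, θ (algebraMap R _ x) = algebraMap R R' x := fun x => IsLocalization.Away.lift_eq _ hu' x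
  have hθb : Function.Bijective θ := by
    refine ⟨(injective_iff_map_eq_zero θ).2 fun z hz => ?_, ?_⟩
    · obtain ⟨x, y, rfl⟩ := IsLocalization.exists_mk'_eq (Submonoid.powers (E m)) z
      have h1 := congrArg θ (IsLocalization.mk'_spec (Localization.Away (E m)) x y)
      rw [map_mul, hz, zero_mul, hθ] at h1
      have hx : x = 0 := Subtype.ext (congrArg Subtype.val h1.symm : (x : K) = 0)
      rw [hx, IsLocalization.mk'_zero]
    · let θa : Localization.Away (E m) →ₐ[A] R' :=
        { θ with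
          commutes' := fun x => by
            show θ (algebraMap A _ x) = _
            rw [IsScalarTower.algebraMap_apply A R (Localization.Away (E m)), hθ]
            rfl }
      have hrange : θa.range.map R'.val = R' := by
        refine le_antisymm (fun x hx => ?_) (sup_le (fun x hx => ?_) (Algebra.adjoin_le ?_))
        · obtain ⟨y, -, rfl⟩ := hx; exact y.2
        · exact ⟨_, ⟨algebraMap R _ ⟨x, hx⟩, hθ _⟩, rfl⟩
        · rintro _ rfl
          refine ⟨θ ↑hu.unit⁻¹, ⟨_, rfl⟩, ?_⟩
          apply eq_inv_of_mul_eq_one_left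
          have h1 := congrArg (fun z => ((θ z : R') : K)) hu.val_inv_mul
          simp only [map_mul, map_one, hθ] at h1
          exact h1
      intro z
      obtain ⟨y, ⟨p, hp⟩, hyz⟩ := hrange.ge z.2
      exact ⟨p, hp.trans (Subtype.ext hyz)⟩
  let ε := RingEquiv.ofBijective θ hθb
  refine pullback_mem_of_fac S _ _ (CommRingCat.ofHom ε.symm.toRingHom) ?_ (hg m.1 m.2)
  refine CommRingCat.hom_ext (RingHom.ext fun x => ?_)
  apply ε.injective
  show ε (ε.symm (algebraMap A R' x)) = θ (algebraMap R _ (algebraMap A R x))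
  rw [ε.apply_symm_apply, hθ]
  rfl

/-- Devissage. -/
theorem mem_of_primes {J : GrothendieckTopology Scheme.{u}} (hJ : DevissageAxioms J) {A : CommRingCat.{u}}
    [IsNoetherianRing A] (S : Sieve (Spec A))
    (h : ∀ P : Ideal A, P.IsPrime →
      (∀ x ∉ P, S.pullback (Spec.map (CommRingCat.ofHom (Ideal.Quotient.mk (P ⊔ Ideal.span {x})))) ∈ J _) →
        S.pullback (Spec.map (CommRingCat.ofHom (Ideal.Quotient.mk P))) ∈ J _) :
    S ∈ J (Spec A) := by
  suffices key : ∀ I : Ideal A, S.pullback (Spec.map (CommRingCat.ofHom (Ideal.Quotient.mk I))) ∈ J _ by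
    refine hJ.torsion A 1 ⊥ (fun k hk => ⟨0, by simp [Ideal.mem_bot.1 hk]⟩) S (key ⊥) (key _)
  intro I
  induction I using WellFoundedGT.induction with
  | _ I ih =>
    by_cases hP : I.IsPrime
    · refine h I hP fun x hx => ih _ (lt_of_le_of_ne le_sup_left fun he => hx ?_)
      rw [he]
      exact (le_sup_right : _ ≤ I ⊔ Ideal.span {x}) (Ideal.mem_span_singleton_self x)
    by_cases htop : I = ⊤
    · have : Subsingleton (CommRingCat.of (A ⧸ I)) := Ideal.Quotient.subsingleton_iff.2 htop
      exact mem_of_subsingleton hJ _ _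
    obtain ⟨a, ha, b, hb, hab⟩ := (Ideal.not_isPrime_iff.1 hP).resolve_left htop
    have : IsNoetherianRing (CommRingCat.of (A ⧸ I)) := inferInstanceAs (IsNoetherianRing (A ⧸ I))
    have hlt : ∀ x ∉ I, I < I ⊔ Ideal.span {x} := fun x hx => lt_of_le_of_ne le_sup_left fun he => hx (by
      rw [he]; exact (le_sup_right : _ ≤ I ⊔ Ideal.span {x}) (Ideal.mem_span_singleton_self x))
    have hfac : ∀ x ∉ I, (S.pullback (Spec.map (CommRingCat.ofHom (Ideal.Quotient.mk I)))).pullback
        (Spec.map (CommRingCat.ofHom (Ideal.Quotient.mk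
          (Ideal.span ({Ideal.Quotient.mk I x} : Set (A ⧸ I)))))) ∈ J _ := by
      intro x hx
      rw [← Sieve.pullback_comp, ← Spec.map_comp]
      refine pullback_mem_of_fac S _ _ (CommRingCat.ofHom (Ideal.Quotient.lift (I ⊔ Ideal.span {x})
        ((Ideal.Quotient.mk (Ideal.span ({Ideal.Quotient.mk I x} : Set (A ⧸ I)))).comp (Ideal.Quotient.mk I)) ?_)) rfl
        (ih _ (hlt x hx))
      intro z hz
      obtain ⟨y, hy, v, hv, rfl⟩ := Submodule.mem_sup.1 hz
      obtain ⟨c, rfl⟩ := Ideal.mem_span_singleton'.1 hv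
      rw [RingHom.comp_apply, map_add (Ideal.Quotient.mk I), Ideal.Quotient.eq_zero_iff_mem.2 hy, zero_add,
        map_mul (Ideal.Quotient.mk I), Ideal.Quotient.eq_zero_iff_mem]
      exact Ideal.mul_mem_left _ _ (Ideal.subset_span rfl)
    refine hJ.torsion (CommRingCat.of (A ⧸ I)) (Ideal.Quotient.mk I a)
      (Ideal.span ({Ideal.Quotient.mk I b} : Set (A ⧸ I))) (fun k hk => ?_)
      _ (hfac b hb) (hfac a ha)
    obtain ⟨c, rfl⟩ := Ideal.mem_span_singleton'.1 hk
    refine ⟨1, ?_⟩
    show Ideal.Quotient.mk I a ^ 1 * (c * Ideal.Quotient.mk I b) = 0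
    rw [pow_one, mul_left_comm, ← map_mul, Ideal.Quotient.eq_zero_iff_mem.2 hab, mul_zero]

end Groth.Agent.HTop50
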