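import Groth.Agent.HTop50.ValLift
import Groth.Agent.HTop50.Family
import Groth.Agent.E4O.SectionCompDvr
import Mathlib.RingTheory.PowerSeries.Inverse

/-! The discrete valuative criterion of universal submersiveness. -/

set_option autoImplicit false
set_option linter.style.haveILetI false

universe w u

open CategoryTheory CategoryTheory.Limits AlgebraicGeometry Topology TensorProduct

namespace Groth.Agent.HTop50

/-- Specializations lift after every locally Noetherian base change. -/
def LiftsSpecializationsUniv {Y X : Scheme.{u}} (f : Y ⟶ X) : Prop :=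
  ∀ ⦃T : Scheme.{u}⦄ [IsLocallyNoetherian T] (g : T ⟶ X) ⦃η x : T⦄, η ⤳ x →
    ∃ ξ v : ↥(pullback g f), ξ ⤳ v ∧ pullback.fst g f ξ = η ∧ pullback.fst g f v = x

/-- A surjection of spectra of discrete valuation rings respects the two points. -/
theorem map_points_of_surjective {R R' : Type u} [CommRing R] [IsDomain R] [IsDiscreteValuationRing R]
    [CommRing R'] [IsDomain R'] [IsDiscreteValuationRing R']
    (φ : Spec (CommRingCat.of R') ⟶ Spec (CommRingCat.of R)) [Surjective φ] :
    φ (genericPoint (Spec (CommRingCat.of R'))) = genericPoint (Spec (CommRingCat.of R)) ∧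
      φ (IsLocalRing.closedPoint R') = IsLocalRing.closedPoint R := by
  obtain ⟨a, ha⟩ := φ.surjective (genericPoint (Spec (CommRingCat.of R)))
  obtain ⟨b, hb⟩ := φ.surjective (IsLocalRing.closedPoint R)
  have hne : genericPoint (Spec (CommRingCat.of R)) ≠ IsLocalRing.closedPoint R :=
    E4O.genericPoint_ne_closedPoint
  rcases E4O.eq_closedPoint_or_eq_genericPoint a with rfl | rfl <;>
    rcases E4O.eq_closedPoint_or_eq_genericPoint b with rfl | rfl
  · exact absurd (ha.symm.trans hb) hne
  · exfalso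
    have h : φ (genericPoint (Spec (CommRingCat.of R'))) ⤳ φ (IsLocalRing.closedPoint R') :=
      (genericPoint_specializes _).map φ.continuous
    rw [hb, ha] at h
    exact hne (((genericPoint_specializes _).antisymm h).eq)
  · exact ⟨ha, hb⟩
  · exact absurd (ha.symm.trans hb) hne

set_option maxHeartbeats 1000000 in
-- many tensor product identifications
/-- The key step, over an affine Noetherian base. -/
theorem exists_lift_of_specializesLift {Y X : Scheme.{u}} (f : Y ⟶ X) [LocallyOfFiniteType f]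
    [QuasiCompact f] (hf : LiftsSpecializationsUniv f) {A : CommRingCat.{u}} [IsNoetherianRing A]
    (e : Spec A ⟶ X) [IsLocallyNoetherian X]
    (V : CommRingCat.{u}) [IsDomain V] [ValuationRing V] (ρ : A ⟶ V) :
    ∃ (W : CommRingCat.{u}) (_ : IsDomain W) (_ : ValuationRing W) (φ : V ⟶ W),
      HTop.IsExtVal V W φ ∧ ∃ g' : Spec W ⟶ Y, g' ≫ f = Spec.map φ ≫ Spec.map ρ ≫ e := by
  classical
  algebraize [ρ.hom]
  by_contra hno
  have hYW : CompactSpace ↥(pullback f e) :=
    QuasiCompact.compactSpace_of_compactSpace (pullback.snd f e)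
  let 𝒰 := (pullback f e).affineCover.finiteSubcover
  have : ∀ j, IsAffine (𝒰.X j) := fun j => inferInstanceAs (IsAffine ((pullback f e).affineCover.X _))
  let R : 𝒰.I₀ → CommRingCat.{u} := fun j => Γ(𝒰.X j, ⊤)
  let J : ∀ j, Spec (R j) ⟶ pullback f e := fun j => (𝒰.X j).isoSpec.inv ≫ 𝒰.f j
  let σ : ∀ j, A ⟶ R j := fun j => Spec.preimage (J j ≫ pullback.snd f e)
  have hσ : ∀ j, Spec.map (σ j) = J j ≫ pullback.snd f e := fun j => Spec.map_preimage _
  letI algR : ∀ j, Algebra A (R j) := fun j => (σ j).hom.toAlgebra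
  have hV : ∀ j, ∀ q q' : Ideal (V ⊗[A] R j), q.IsPrime → q'.IsPrime → q ≤ q' →
      q.comap (Algebra.TensorProduct.includeLeftRingHom (R := A) (A := V) (B := R j)) = ⊥ →
      q'.comap (Algebra.TensorProduct.includeLeftRingHom (R := A) (A := V) (B := R j)) ≠
        IsLocalRing.maximalIdeal V := by
    intro j q q' hq hq' hle hbot hmax
    let iso := pullbackSpecIso A V (R j)
    let pV : Spec (CommRingCat.of (V ⊗[A] R j)) ⟶ Spec V :=
      Spec.map (CommRingCat.ofHom Algebra.TensorProduct.includeLeftRingHom)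
    let pR : Spec (CommRingCat.of (V ⊗[A] R j)) ⟶ Spec (R j) :=
      iso.inv ≫ pullback.snd _ _
    have hcomm : pV ≫ Spec.map ρ = pR ≫ Spec.map (σ j) := by
      have h1 : pV = iso.inv ≫ pullback.fst _ _ := (pullbackSpecIso_inv_fst A V (R j)).symm
      rw [h1, Category.assoc]
      simp only [pR, Category.assoc]
      exact congrArg (iso.inv ≫ ·) pullback.condition
    let P : Spec (CommRingCat.of (V ⊗[A] R j)) ⟶ pullback f (Spec.map ρ ≫ e) :=
      pullback.lift (pR ≫ J j ≫ pullback.fst f e) pV (by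
        simp only [Category.assoc, pullback.condition]
        rw [reassoc_of% hcomm, hσ]
        simp only [pR, Category.assoc])
    refine hno (VCov93.exists_lift_of_specializes f V (Spec.map ρ ≫ e) (P ⟨q, hq⟩) (P ⟨q', hq'⟩)
      (((PrimeSpectrum.le_iff_specializes (⟨q, hq⟩ : PrimeSpectrum _) ⟨q', hq'⟩).1 hle).map
        P.continuous) ?_ ?_)
    · rw [← Scheme.Hom.comp_apply, pullback.lift_snd]
      exact PrimeSpectrum.ext hbot
    · rw [← Scheme.Hom.comp_apply, pullback.lift_snd]
      exact PrimeSpectrum.ext hmax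
  choose B₀ hB₀ hB₀' using fun j => exists_fg_no_specializes (hV j)
  have : Fintype 𝒰.I₀ := Fintype.ofFinite _
  let B : Subalgebra A V := Finset.univ.sup B₀
  have hB : B.FG := Finset.sup_induction Subalgebra.fg_bot (fun _ h _ h' => h.sup h')
    (fun j _ => hB₀ j)
  have hft : Algebra.FiniteType A B := ⟨B.fg_top.mpr hB⟩
  have : IsNoetherianRing B := Algebra.FiniteType.isNoetherianRing A B
  let eB : Spec (CommRingCat.of B) ⟶ Spec A := Spec.map (CommRingCat.ofHom (algebraMap A B))
  let gB := eB ≫ e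
  let η : ↥(Spec (CommRingCat.of B)) := (⊥ : PrimeSpectrum B)
  let x : ↥(Spec (CommRingCat.of B)) :=
    (⟨(IsLocalRing.maximalIdeal V).comap B.val, Ideal.comap_isPrime _ _⟩ : PrimeSpectrum B)
  have hηx : η ⤳ x := (PrimeSpectrum.le_iff_specializes _ _).1 bot_le
  obtain ⟨ξ, v, hs, hξ, hv⟩ := hf gB hηx
  let l : pullback gB f ⟶ pullback f e := pullback.lift (pullback.snd gB f) (pullback.fst gB f ≫ eB)
    (by rw [← pullback.condition, Category.assoc])
  obtain ⟨j, a, ha⟩ := 𝒰.exists_eq (l v)
  let O := l ⁻¹ᵁ (J j).opensRange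
  have hvO : v ∈ O := ⟨(𝒰.X j).isoSpec.hom a, by
    rw [← Scheme.Hom.comp_apply]; simpa [J] using ha⟩
  have hξO : ξ ∈ O := hs.mem_open O.2 hvO
  let m : O.toScheme ⟶ Spec (R j) := IsOpenImmersion.lift (J j) (O.ι ≫ l) (by
    rintro _ ⟨o, rfl⟩
    exact o.2)
  let iso := pullbackSpecIso A B (R j)
  let k : O.toScheme ⟶ Spec (CommRingCat.of (B ⊗[A] R j)) :=
    pullback.lift (O.ι ≫ pullback.fst gB f) m (by
      show (O.ι ≫ pullback.fst gB f) ≫ eB = m ≫ Spec.map (σ j)
      rw [hσ, IsOpenImmersion.lift_fac_assoc, Category.assoc, Category.assoc, pullback.lift_snd])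
      ≫ iso.hom
  have hk : k ≫ Spec.map (CommRingCat.ofHom Algebra.TensorProduct.includeLeftRingHom) =
      O.ι ≫ pullback.fst gB f := by
    simp only [k, iso, Category.assoc]
    rw [pullbackSpecIso_hom_fst]
    exact pullback.lift_fst _ _ _
  have hsO : (⟨ξ, hξO⟩ : O) ⤳ ⟨v, hvO⟩ := O.ι.isOpenEmbedding.isInducing.specializes_iff.1 hs
  have hle := (PrimeSpectrum.le_iff_specializes _ _).2 (hsO.map k.continuous)
  refine hB₀' j B (Finset.le_sup (Finset.mem_univ j)) _ _ (k ⟨ξ, hξO⟩).isPrime (k ⟨v, hvO⟩).isPrime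
    hle ?_ ?_
  · have h1 : Spec.map (CommRingCat.ofHom Algebra.TensorProduct.includeLeftRingHom) (k ⟨ξ, hξO⟩) = η := by
      rw [← Scheme.Hom.comp_apply, hk, Scheme.Hom.comp_apply]
      exact hξ
    exact congrArg PrimeSpectrum.asIdeal h1
  · have h1 : Spec.map (CommRingCat.ofHom Algebra.TensorProduct.includeLeftRingHom) (k ⟨v, hvO⟩) = x := by
      rw [← Scheme.Hom.comp_apply, hk, Scheme.Hom.comp_apply]
      exact hv
    exact congrArg PrimeSpectrum.asIdeal h1

/-- Lifting specializations after Noetherian base changes gives the valuative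
lifting property. -/
theorem hasValLift_of_specializesLift {Y X : Scheme.{u}} [IsLocallyNoetherian X] (f : Y ⟶ X)
    [LocallyOfFiniteType f] [QuasiCompact f] (hf : LiftsSpecializationsUniv f) :
    HTop.HasValLift (PreZeroHypercover.singleton.{w} f) := by
  intro V _ _ g
  obtain ⟨W, hW, hxW, -⟩ := exists_isAffineOpen_mem_and_subset (U := (⊤ : X.Opens))
    (x := g (VCov93.clPt V)) trivial
  have : IsNoetherianRing Γ(X, W) := IsLocallyNoetherian.component_noetherian ⟨W, hW⟩
  have hsub : Set.range g ⊆ Set.range hW.fromSpec := by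
    rw [hW.range_fromSpec]
    rintro _ ⟨a, rfl⟩
    exact ((VCov93.specializes_clPt a).map g.continuous).mem_open W.2 hxW
  obtain ⟨ρ, hρ⟩ : ∃ ρ : Γ(X, W) ⟶ V, Spec.map ρ = IsOpenImmersion.lift hW.fromSpec g hsub :=
    ⟨_, Spec.map_preimage _⟩
  obtain ⟨W', i1, i2, φ, hφ, g', hg'⟩ := exists_lift_of_specializesLift f hf hW.fromSpec V ρ
  refine ⟨W', i1, i2, φ, hφ, PUnit.unit, g', ?_⟩
  show g' ≫ f = Spec.map φ ≫ g
  rw [hg', hρ, IsOpenImmersion.lift_fac]



/-- A one-term coproduct. -/
theorem univSubmersive_of_sigma_unit {X S : Scheme.{u}} (f : X ⟶ S)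
    (h : SGA1.UnivSubmersive (Sigma.desc fun _ : PUnit.{u + 1} => f)) : SGA1.UnivSubmersive f := by
  let ι := Sigma.ι (fun _ : PUnit.{u + 1} => X) PUnit.unit
  have e₁ : ι ≫ Sigma.desc (fun _ => 𝟙 X) = 𝟙 X := Sigma.ι_desc _ _
  have : IsIso ι := ⟨Sigma.desc fun _ => 𝟙 X, e₁, Sigma.hom_ext _ _ fun j => by
    cases j
    rw [Sigma.ι_desc_assoc, Category.id_comp, Category.comp_id]⟩
  have : SGA1.UnivSubmersive.{u}.RespectsIso := by
    delta SGA1.UnivSubmersive; infer_instance
  rw [← show ι ≫ Sigma.desc (fun _ => f) = f from Sigma.ι_desc _ _]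
  exact (MorphismProperty.cancel_left_of_respectsIso SGA1.UnivSubmersive ι _).2 h

/-- The discrete valuative criterion. -/
theorem univSubmersive_iff_dvr {X S : Scheme.{u}} [IsLocallyNoetherian S] (f : X ⟶ S)
    [LocallyOfFiniteType f] [QuasiCompact f] :
    SGA1.UnivSubmersive f ↔ ∀ (R : Type u) [CommRing R] [IsDomain R] [IsDiscreteValuationRing R]
      (g : Spec (CommRingCat.of R) ⟶ S), ∃ (R' : Type u) (_ : CommRing R') (_ : IsDomain R')
        (_ : IsDiscreteValuationRing R') (φ : Spec (CommRingCat.of R') ⟶ Spec (CommRingCat.of R))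
        (h : Spec (CommRingCat.of R') ⟶ X), Surjective φ ∧ h ≫ f = φ ≫ g := by
  constructor
  · intro hf R _ _ _ g
    let q := pullback.fst g f
    have : IsLocallyNoetherian (pullback g f) := LocallyOfFiniteType.isLocallyNoetherian q
    obtain ⟨ξ, v, hs, hξ, hv⟩ := exists_specializes_of_isQuotientMap q
      (hf (pullback.snd g f) g q (IsPullback.of_hasPullback g f))
    have hne : ξ ≠ v := fun h => E4O.genericPoint_ne_closedPoint (A := R) (by rw [← hξ, h, hv])
    obtain ⟨R', _, _, _, j, hjc, hjg⟩ := E4O.exists_dvr_of_specializes hs hne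
    refine ⟨R', inferInstance, inferInstance, inferInstance, j ≫ q, j ≫ pullback.snd g f, ⟨fun s => ?_⟩,
      by rw [Category.assoc, Category.assoc, pullback.condition]⟩
    rcases E4O.eq_closedPoint_or_eq_genericPoint s with rfl | rfl
    · exact ⟨IsLocalRing.closedPoint R', by rw [Scheme.Hom.comp_apply, hjc]; exact hv⟩
    · exact ⟨genericPoint (Spec (CommRingCat.of R')), by rw [Scheme.Hom.comp_apply, hjg]; exact hξ⟩
  intro H
  have hlift : LiftsSpecializationsUniv f := by
    intro T _ g η x hηx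
    obtain ⟨R, _, _, _, j, hjc, hjg⟩ : ∃ (R : Type u) (_ : CommRing R) (_ : IsDomain R)
        (_ : IsDiscreteValuationRing R) (j : Spec (CommRingCat.of R) ⟶ T),
        j (IsLocalRing.closedPoint R) = x ∧ j (genericPoint (Spec (CommRingCat.of R))) = η := by
      by_cases hne : η = x
      · subst hne
        refine ⟨PowerSeries (T.residueField η), inferInstance, inferInstance, inferInstance,
          Spec.map (CommRingCat.ofHom (PowerSeries.C (R := T.residueField η))) ≫ T.fromSpecResidueField η,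
          ?_, ?_⟩ <;>
        rw [Scheme.Hom.comp_apply] <;> exact Scheme.fromSpecResidueField_apply _ _
      · exact E4O.exists_dvr_of_specializes hηx hne
    obtain ⟨R', _, _, _, φ, h, hφ, hh⟩ := H R (j ≫ g)
    obtain ⟨hg', hc'⟩ := map_points_of_surjective φ
    let l : Spec (CommRingCat.of R') ⟶ pullback g f := pullback.lift (φ ≫ j) h (by
      rw [hh, Category.assoc])
    refine ⟨l (genericPoint (Spec (CommRingCat.of R'))), l (IsLocalRing.closedPoint R'),
      (genericPoint_specializes _).map l.continuous, ?_, ?_⟩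
    · rw [← Scheme.Hom.comp_apply, pullback.lift_fst, Scheme.Hom.comp_apply, hg', hjg]
    · rw [← Scheme.Hom.comp_apply, pullback.lift_fst, Scheme.Hom.comp_apply, hc', hjc]
  have h1 : HTop.IsVCover (PreZeroHypercover.singleton.{u} f) :=
    VCov93.isVCover_of_hasValLift f (hasValLift_of_specializesLift f hlift)
  have h2 := VCov93.univSubmersive_sigmaDesc h1
  exact univSubmersive_of_sigma_unit f h2

end Groth.Agent.HTop50
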