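import Groth.Prelude.Def_AnFib
import Mathlib.AlgebraicGeometry.Fiber
import Mathlib.AlgebraicGeometry.Morphisms.UniversallyOpen
import Mathlib.AlgebraicGeometry.PullbackCarrier

/-! Elementary fibrations are stable under base change. -/

set_option autoImplicit false
set_option linter.style.haveILetI false

universe u

open CategoryTheory CategoryTheory.Limits AlgebraicGeometry CohB1

namespace Groth.Agent.HTop50

/-- Base change of strong projectivity. -/
theorem isStronglyProjective_baseChange {X S S' : Scheme.{u}} {f : X ⟶ S} (u' : S' ⟶ S)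
    (hf : An.IsStronglyProjective f) : An.IsStronglyProjective (pullback.snd f u') := by
  obtain ⟨n, c, hc, hcf⟩ := hf
  let t := ProjSpace.toSpec n (ULift.{u} ℤ)
  let m : pullback f u' ⟶ pullback (CohB1.ProjSpaceOver.toBase n S) u' :=
    pullback.map _ _ _ _ c (𝟙 S') (𝟙 S) (by rw [Category.comp_id]; exact hcf.symm)
      (by rw [Category.comp_id, Category.id_comp])
  have hm : IsPullback (pullback.fst f u') m c (pullback.fst (CohB1.ProjSpaceOver.toBase n S) u') := by
    refine IsPullback.of_bot ?_ (pullback.lift_fst _ _ _).symm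
      (IsPullback.of_hasPullback (CohB1.ProjSpaceOver.toBase n S) u')
    rw [hcf, show m ≫ pullback.snd _ u' = pullback.snd f u' from
      (pullback.lift_snd _ _ _).trans (Category.comp_id _)]
    exact IsPullback.of_hasPullback f u'
  have : IsClosedImmersion m := MorphismProperty.of_isPullback (P := @IsClosedImmersion) hm hc
  let e : pullback (CohB1.ProjSpaceOver.toBase n S) u' ≅ CohB1.ProjSpaceOver n S' :=
    pullbackLeftPullbackSndIso t (specULiftZIsTerminal.from S) u' ≪≫
      pullback.congrHom rfl (specULiftZIsTerminal.hom_ext _ _)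
  refine ⟨n, m ≫ e.hom, inferInstance, ?_⟩
  have he : e.hom ≫ CohB1.ProjSpaceOver.toBase n S' = pullback.snd _ _ := by
    have hcong : ∀ {A : Scheme.{u}} (g g' : A ⟶ Spec (CommRingCat.of (ULift.{u} ℤ))) (h : g = g'),
        (pullback.congrHom (rfl : t = t) h).hom ≫ pullback.snd t g' = pullback.snd t g := by
      intro A g g' h; subst h; simp
    refine (Category.assoc _ _ _).trans ?_
    refine (congrArg _ (hcong _ _ (specULiftZIsTerminal.hom_ext _ _))).trans ?_
    exact pullbackLeftPullbackSndIso_hom_snd t (specULiftZIsTerminal.from S) u'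
  rw [Category.assoc, he]
  exact (pullback.lift_snd _ _ _).trans (Category.comp_id _)

/-- Fibrewise density is stable under base change. -/
theorem fibrewise_dense_baseChange {P S S' : Scheme.{u}} (fb : P ⟶ S) (u' : S' ⟶ S) {O : Set P}
    (h : ∀ s : S, fb ⁻¹' {s} ⊆ closure (O ∩ fb ⁻¹' {s})) (s' : S') :
    pullback.snd fb u' ⁻¹' {s'} ⊆
      closure (pullback.fst fb u' ⁻¹' O ∩ pullback.snd fb u' ⁻¹' {s'}) := by
  intro y hy
  let s := u' s'
  let σ : Spec (S'.residueField s') ⟶ Spec (S.residueField s) := Spec.map (u'.residueFieldMap s')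
  have hσ : σ ≫ S.fromSpecResidueField s = S'.fromSpecResidueField s' ≫ u' :=
    Scheme.Hom.SpecMap_residueFieldMap_fromSpecResidueField u' s'
  have : UniversallyOpen σ := inferInstance
  let W₀ := pullback fb (S.fromSpecResidueField s)
  let r := pullback.fst fb (S.fromSpecResidueField s)
  let W := pullback (pullback.snd fb (S.fromSpecResidueField s)) σ
  let q : W ⟶ W₀ := pullback.fst (pullback.snd fb (S.fromSpecResidueField s)) σ
  have : UniversallyOpen q := inferInstance
  let l : W ⟶ pullback fb u' := pullback.lift (q ≫ r)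
    (pullback.snd _ σ ≫ S'.fromSpecResidueField s') (by
      rw [Category.assoc, Category.assoc, pullback.condition, ← hσ, pullback.condition_assoc])
  have hl : IsPullback l (pullback.snd _ σ) (pullback.snd fb u') (S'.fromSpecResidueField s') := by
    refine IsPullback.of_right ?_ (pullback.lift_snd _ _ _) (IsPullback.of_hasPullback fb u')
    rw [show l ≫ pullback.fst fb u' = q ≫ r from pullback.lift_fst _ _ _, ← hσ]
    exact (IsPullback.of_hasPullback (pullback.snd fb (S.fromSpecResidueField s)) σ).paste_horiz
      (IsPullback.of_hasPullback fb (S.fromSpecResidueField s))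
  obtain ⟨w, hw, -⟩ := Scheme.exists_preimage_of_isPullback hl y
    (IsLocalRing.closedPoint _) (hy.trans (Scheme.fromSpecResidueField_apply _ _).symm)
  have hrange : Set.range r = fb ⁻¹' {s} := by
    rw [Scheme.Pullback.range_fst, Scheme.range_fromSpecResidueField]
  have hdense : Dense (r ⁻¹' O) := fun z => by
    rw [r.isEmbedding.isInducing.closure_eq_preimage_closure_image, Set.mem_preimage,
      Set.image_preimage_eq_inter_range, hrange]
    exact h s (hrange.subset ⟨z, rfl⟩)
  have hW : Dense (q ⁻¹' (r ⁻¹' O)) := hdense.preimage q.isOpenMap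
  rw [← hw]
  refine closure_mono ?_ (image_closure_subset_closure_image l.continuous ⟨w, hW w, rfl⟩)
  rintro _ ⟨z, hz, rfl⟩
  refine ⟨?_, ?_⟩
  · show pullback.fst fb u' (l z) ∈ O
    rw [← Scheme.Hom.comp_apply, pullback.lift_fst]
    exact hz
  · show pullback.snd fb u' (l z) = s'
    rw [← Scheme.Hom.comp_apply, pullback.lift_snd, Scheme.Hom.comp_apply,
      Scheme.fromSpecResidueField_apply]

/-- Elementary fibrations are stable under base change. -/
theorem isElementaryFibration_baseChange {X S S' : Scheme.{u}} (f : X ⟶ S) (u' : S' ⟶ S)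
    (hf : An.IsElementaryFibration f) : An.IsElementaryFibration (pullback.snd f u') := by
  obtain ⟨Xb, Y, j, fb, i, hj, hjo, hic, hran, hdense, hsm, hproj, hgeo, hfin, het, hsur⟩ := hf
  let jp : pullback f u' ⟶ pullback fb u' :=
    pullback.map _ _ _ _ j (𝟙 S') (𝟙 S) (by rw [Category.comp_id]; exact hj.symm)
      (by rw [Category.comp_id, Category.id_comp])
  let fbp := pullback.snd fb u'
  let ip : pullback (i ≫ fb) u' ⟶ pullback fb u' :=
    pullback.map _ _ _ _ i (𝟙 S') (𝟙 S) (by rw [Category.comp_id])
      (by rw [Category.comp_id, Category.id_comp])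
  have hjp : IsPullback (pullback.fst f u') jp j (pullback.fst fb u') := by
    refine IsPullback.of_bot ?_ (pullback.lift_fst _ _ _).symm (IsPullback.of_hasPullback fb u')
    rw [hj, show jp ≫ pullback.snd fb u' = pullback.snd f u' from
      (pullback.lift_snd _ _ _).trans (Category.comp_id _)]
    exact IsPullback.of_hasPullback f u'
  have hip : IsPullback (pullback.fst (i ≫ fb) u') ip i (pullback.fst fb u') := by
    refine IsPullback.of_bot ?_ (pullback.lift_fst _ _ _).symm (IsPullback.of_hasPullback fb u')
    rw [show ip ≫ pullback.snd fb u' = pullback.snd (i ≫ fb) u' from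
      (pullback.lift_snd _ _ _).trans (Category.comp_id _)]
    exact IsPullback.of_hasPullback (i ≫ fb) u'
  have hjr : Set.range jp = pullback.fst fb u' ⁻¹' Set.range j := by
    rw [← hjp.isoPullback_hom_snd, Scheme.Hom.comp_base, TopCat.coe_comp,
      Set.range_comp, Set.range_eq_univ.2 hjp.isoPullback.hom.surjective, Set.image_univ,
      Scheme.Pullback.range_snd]
  have hir : Set.range ip = pullback.fst fb u' ⁻¹' Set.range i := by
    rw [← hip.isoPullback_hom_snd, Scheme.Hom.comp_base, TopCat.coe_comp,
      Set.range_comp, Set.range_eq_univ.2 hip.isoPullback.hom.surjective, Set.image_univ,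
      Scheme.Pullback.range_snd]
  have hipsnd : ip ≫ fbp = pullback.snd (i ≫ fb) u' :=
    (pullback.lift_snd _ _ _).trans (Category.comp_id _)
  have := hfin
  have := het
  have : Surjective (i ≫ fb) := ⟨hsur⟩
  refine ⟨_, _, jp, fbp, ip, (pullback.lift_snd _ _ _).trans (Category.comp_id _),
    MorphismProperty.of_isPullback (P := @IsOpenImmersion) hjp hjo,
    MorphismProperty.of_isPullback (P := @IsClosedImmersion) hip hic, ?_, fun s' => ?_,
    MorphismProperty.of_isPullback (P := @Smooth) (IsPullback.of_hasPullback fb u') hsm, isStronglyProjective_baseChange u' hproj,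
    fun Ω _ _ σ => ?_, ?_, ?_, ?_⟩
  · rw [hjr, hir, hran, Set.preimage_compl]
  · rw [hjr]
    exact fibrewise_dense_baseChange fb u' hdense s'
  · let e := pullbackLeftPullbackSndIso fb u' σ
    obtain ⟨h1, h2⟩ := hgeo Ω (σ ≫ u')
    exact ⟨e.hom.homeomorph.irreducibleSpace_iff.mpr h1,
      (IsHomeomorph.topologicalKrullDim_eq _ e.hom.homeomorph.isHomeomorph).trans h2⟩
  · rw [hipsnd]; infer_instance
  · rw [hipsnd]; exact MorphismProperty.of_isPullback (P := @Etale) (IsPullback.of_hasPullback _ u') het
  · rw [hipsnd]
    exact (MorphismProperty.of_isPullback (P := @Surjective) (IsPullback.of_hasPullback (i ≫ fb) u') this).surj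

end Groth.Agent.HTop50
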