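import Groth.Agent.HTop50.Seminormal
import Groth.Prelude.Def_W4c1hilbchowincPtFun

/-! Pointwise functions on affine schemes in terms of numerators and denominators. -/

set_option autoImplicit false
set_option linter.style.haveILetI false

universe u

open CategoryTheory AlgebraicGeometry IsLocalRing W4c1hilbchowinc

namespace Groth.Agent.HTop50

variable {A : Type u} [CommRing A]

/-- The value of a ring element at a point of the spectrum. -/
noncomputable def ev (x : PrimeSpectrum A) :
    A →+* (Spec (CommRingCat.of A)).residueField x :=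
  ((Scheme.ΓSpecIso (CommRingCat.of A)).inv ≫ (Spec (CommRingCat.of A)).Γevaluation x).hom

theorem ev_eq (x : PrimeSpectrum A) :
    ev x = (Scheme.Spec.residueFieldIso (CommRingCat.of A) x).inv.hom.comp
      (algebraMap A x.asIdeal.ResidueField) :=
  (congrArg CommRingCat.Hom.hom
    (Scheme.Spec.algebraMap_residueFieldIso_inv (CommRingCat.of A) x)).symm

theorem ev_eq_zero_iff (x : PrimeSpectrum A) {a : A} : ev x a = 0 ↔ a ∈ x.asIdeal := by
  rw [ev_eq, RingHom.comp_apply, map_eq_zero_iff _
    (ConcreteCategory.bijective_of_isIso (Scheme.Spec.residueFieldIso (CommRingCat.of A) x).inv).1,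
    Ideal.algebraMap_residueField_eq_zero]

theorem exists_ev_frac (x : PrimeSpectrum A) (v : (Spec (CommRingCat.of A)).residueField x) :
    ∃ n d : A, d ∉ x.asIdeal ∧ v * ev x d = ev x n := by
  obtain ⟨w, rfl⟩ :=
    (ConcreteCategory.bijective_of_isIso (Scheme.Spec.residueFieldIso (CommRingCat.of A) x).inv).2 v
  obtain ⟨a, d, hd, e⟩ := IsFractionRing.div_surjective (A := A ⧸ x.asIdeal) w
  obtain ⟨a, rfl⟩ := Ideal.Quotient.mk_surjective a
  obtain ⟨d, rfl⟩ := Ideal.Quotient.mk_surjective d
  have hd' : d ∉ x.asIdeal := fun h =>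
    nonZeroDivisors.ne_zero hd (Ideal.Quotient.eq_zero_iff_mem.2 h)
  refine ⟨a, d, hd', ?_⟩
  rw [ev_eq, RingHom.comp_apply, RingHom.comp_apply, ← map_mul]
  congr 1
  rw [← e, ← Ideal.algebraMap_quotient_residueField_mk, ← Ideal.algebraMap_quotient_residueField_mk]
  refine div_mul_cancel₀ _ ?_
  rw [Ne, Ideal.algebraMap_quotient_residueField_mk, Ideal.algebraMap_residueField_eq_zero]
  exact hd'

theorem residueFieldMap_ev {R : Type u} [CommRing R] (φ : A →+* R) (z : PrimeSpectrum R) (a : A) :
    (Spec.map (CommRingCat.ofHom φ)).residueFieldMap z (ev (PrimeSpectrum.comap φ z) a) =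
      ev z (φ a) := by
  refine (Scheme.Γevaluation_naturality_apply (Spec.map (CommRingCat.ofHom φ)) z _).trans ?_
  show (Spec (CommRingCat.of R)).Γevaluation z
    (((Scheme.ΓSpecIso (CommRingCat.of A)).inv ≫ (Spec.map (CommRingCat.ofHom φ)).appTop).hom a) = _
  rw [← Scheme.ΓSpecIso_inv_naturality]
  rfl

theorem ofSection_eq_ev (a : A) (x : PrimeSpectrum A) :
    PtFun.ofSection (Spec (CommRingCat.of A)) ((Scheme.ΓSpecIso (CommRingCat.of A)).inv.hom a) x =
      ev x a := rfl

theorem exists_eq_inv (s : Γ(Spec (CommRingCat.of A), ⊤)) :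
    ∃ a : A, (Scheme.ΓSpecIso (CommRingCat.of A)).inv.hom a = s :=
  (ConcreteCategory.bijective_of_isIso (Scheme.ΓSpecIso (CommRingCat.of A)).inv).2 s

/-- Values which vary along complete discrete valuation rings come from exactly one section, provided
integral elements with values in the residue fields lie in the ring. -/
theorem existsUnique_of_variesAlongCompleteDVR [IsNoetherianRing A] [IsReduced A]
    (hA : HTop.IsSeminormalRing A ∨ IsIntegrallyClosed A)
    (f : PtFun (Spec (CommRingCat.of A))) (hf : f.VariesAlongCompleteDVR) :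
    ∃! a : Γ(Spec (CommRingCat.of A), ⊤), PtFun.ofSection (Spec (CommRingCat.of A)) a = f := by
  choose num den hden hnd using fun x : PrimeSpectrum A => exists_ev_frac x (f x)
  have hv : Varies num den := by
    intro R _ _ _ _ φ
    obtain ⟨s, hs⟩ := hf R (Spec.map (CommRingCat.ofHom φ))
    obtain ⟨r, rfl⟩ := exists_eq_inv s
    refine ⟨r, fun z => ?_⟩
    have h1 : ev z r = (Spec.map (CommRingCat.ofHom φ)).residueFieldMap z (f (PrimeSpectrum.comap φ z)) :=
      congrFun hs z
    have h2 := congrArg ((Spec.map (CommRingCat.ofHom φ)).residueFieldMap z).hom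
      (hnd (PrimeSpectrum.comap φ z))
    erw [map_mul, residueFieldMap_ev, residueFieldMap_ev, ← h1, ← map_mul] at h2
    rw [← ev_eq_zero_iff, map_sub, ← h2, sub_self]
  obtain ⟨b, hb, hval⟩ := exists_integral_of_varies hden hv
  let C := Algebra.adjoin A {b}
  let b' : C := ⟨b, Algebra.self_mem_adjoin_singleton A b⟩
  have : Module.Finite A C := Module.Finite.iff_fg.2 hb.fg_adjoin_singleton
  have hinj : Function.Injective (algebraMap A C) := fun x y h =>
    IsFractionRing.injective A (FractionRing A) (congrArg Subtype.val h)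
  obtain ⟨a, ha⟩ : ∃ a : A, algebraMap A C a = b' := by
    rcases hA with hA | hA
    · have : IsReduced C := by
        have : IsReduced (FractionRing A) := isReduced_localizationPreserves (nonZeroDivisors A) (FractionRing A) inferInstance
        exact isReduced_of_injective C.val.toRingHom Subtype.val_injective
      refine mem_range_of_seminormal hA hinj b' ?_ fun q =>
        ⟨den q, num q, hden q, fun Q hQ => hval q Q hQ⟩
      refine Subalgebra.map_injective (f := C.val) Subtype.val_injective ?_
      rw [AlgHom.map_adjoin, Set.image_singleton, Algebra.map_top, Subalgebra.range_val]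
      rfl
    · obtain ⟨a, ha⟩ := IsIntegrallyClosed.isIntegral_iff.1 hb
      exact ⟨a, Subtype.ext ha⟩
  have : Algebra.IsIntegral A C := Algebra.IsIntegral.of_finite A C
  have hover : ∀ q : PrimeSpectrum A,
      ∃ Q : PrimeSpectrum C, PrimeSpectrum.comap (algebraMap A C) Q = q := fun q => by
    obtain ⟨Q, -, hQ, hQ'⟩ := Ideal.exists_ideal_over_prime_of_isIntegral q.asIdeal (⊥ : Ideal C)
      (by rw [← RingHom.ker_eq_comap_bot, (RingHom.injective_iff_ker_eq_bot _).1 hinj]; exact bot_le)
    exact ⟨⟨Q, hQ⟩, PrimeSpectrum.ext hQ'⟩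
  refine ⟨(Scheme.ΓSpecIso (CommRingCat.of A)).inv.hom a, funext fun q => ?_, fun s hs => ?_⟩
  · obtain ⟨Q, hQ⟩ := hover q
    have h := hval q Q hQ
    rw [show (⟨b, Algebra.self_mem_adjoin_singleton A b⟩ : C) = algebraMap A C a from ha.symm,
      ← map_mul, ← map_sub] at h
    have h' : den q * a - num q ∈ q.asIdeal :=
      (congrArg (fun z : PrimeSpectrum A => den q * a - num q ∈ z.asIdeal) hQ).mp h
    rw [ofSection_eq_ev]
    refine mul_right_cancel₀ (fun h0 => hden q ((ev_eq_zero_iff q).1 h0)) ?_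
    rw [hnd q, ← map_mul, ← sub_eq_zero, ← map_sub, ev_eq_zero_iff, mul_comm]
    exact h'
  · obtain ⟨a', rfl⟩ := exists_eq_inv s
    congr 1
    rw [← sub_eq_zero]
    refine IsReduced.eq_zero _ (mem_nilradical.1 ?_)
    rw [nilradical_eq_sInf, Ideal.mem_sInf]
    intro P hP
    have hP' : P.IsPrime := hP
    let q : PrimeSpectrum A := ⟨P, hP'⟩
    obtain ⟨Q, hQ⟩ := hover q
    have h := hval q Q hQ
    rw [show (⟨b, Algebra.self_mem_adjoin_singleton A b⟩ : C) = algebraMap A C a from ha.symm,
      ← map_mul, ← map_sub] at h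
    have h' : den q * a - num q ∈ q.asIdeal :=
      (congrArg (fun z : PrimeSpectrum A => den q * a - num q ∈ z.asIdeal) hQ).mp h
    have h2 : ev q a' * ev q (den q) = ev q (num q) := by rw [← hnd q, ← ofSection_eq_ev, hs]
    rw [← map_mul, ← sub_eq_zero, ← map_sub, ev_eq_zero_iff] at h2
    have h3 := q.asIdeal.sub_mem h2 h'
    rw [show a' * den q - num q - (den q * a - num q) = den q * (a' - a) by ring] at h3
    exact (hP'.mem_or_mem h3).resolve_left (hden q)

/-- If such values determine sections, the ring is seminormal. -/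
theorem isSeminormalRing_of_forall [IsReduced A]
    (h : ∀ f : PtFun (Spec (CommRingCat.of A)), f.VariesAlongDVR →
      ∃! a : Γ(Spec (CommRingCat.of A), ⊤), PtFun.ofSection (Spec (CommRingCat.of A)) a = f) :
    HTop.IsSeminormalRing A := by
  intro x y hxy
  have key : ∀ {K : Type u} [Field K] (r X Y : K), r ^ 2 = X → r ^ 3 = Y → r = Y / X := by
    intro K _ r X Y h2 h3
    rw [← h2, ← h3]
    by_cases hr : r = 0
    · subst hr; simp
    · field_simp
  let f : PtFun (Spec (CommRingCat.of A)) := fun q => ev q y / ev q x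
  obtain ⟨s, hs, hu⟩ := h f fun R _ _ _ g => by
    obtain ⟨φ, rfl⟩ : ∃ φ : CommRingCat.of A ⟶ CommRingCat.of R, Spec.map φ = g :=
      ⟨Spec.preimage g, Spec.map_preimage g⟩
    obtain ⟨r, hr2, hr3⟩ : ∃ r : R, r ^ 2 = φ.hom x ∧ r ^ 3 = φ.hom y := by
      have he : φ.hom x ^ 3 = φ.hom y ^ 2 := by rw [← map_pow, ← map_pow, hxy]
      by_cases hx0 : φ.hom x = 0
      · refine ⟨0, by rw [hx0, zero_pow two_ne_zero], ?_⟩
        rw [hx0, zero_pow three_ne_zero, eq_comm, sq_eq_zero_iff] at he
        rw [he, zero_pow three_ne_zero]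
      · let K := FractionRing R
        let t : K := algebraMap R K (φ.hom y) / algebraMap R K (φ.hom x)
        have hx' : algebraMap R K (φ.hom x) ≠ 0 := fun h0 =>
          hx0 ((IsFractionRing.injective R K) (by rw [h0, map_zero]))
        have ht2 : t ^ 2 = algebraMap R K (φ.hom x) := by
          simp only [t, div_pow]
          rw [div_eq_iff (pow_ne_zero _ hx'), ← map_pow, ← he, map_pow, ← pow_succ']
        obtain ⟨r, hr⟩ := IsIntegrallyClosed.isIntegral_iff.1
          (IsIntegral.of_pow two_pos (ht2 ▸ isIntegral_algebraMap) : IsIntegral R t)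
        refine ⟨r, IsFractionRing.injective R K ?_, IsFractionRing.injective R K ?_⟩
        · rw [map_pow, hr, ht2]
        · rw [map_pow, hr, pow_succ, ht2]
          exact mul_div_cancel₀ _ hx'
    refine ⟨(Scheme.ΓSpecIso (CommRingCat.of R)).inv.hom r, funext fun z => ?_⟩
    show ev z r = (Spec.map φ).residueFieldMap z (ev (PrimeSpectrum.comap φ.hom z) y /
      ev (PrimeSpectrum.comap φ.hom z) x)
    erw [map_div₀, residueFieldMap_ev φ.hom z y, residueFieldMap_ev φ.hom z x]
    exact key _ _ _ (by rw [← map_pow, hr2]) (by rw [← map_pow, hr3])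
  obtain ⟨a, rfl⟩ := exists_eq_inv s
  have hzero : ∀ c : A, (∀ q : PrimeSpectrum A, ev q c = 0) → c = 0 := fun c hc => by
    refine IsReduced.eq_zero _ (mem_nilradical.1 ?_)
    rw [nilradical_eq_sInf, Ideal.mem_sInf]
    exact fun P hP => (ev_eq_zero_iff ⟨P, hP⟩).1 (hc ⟨P, hP⟩)
  have hfsq : ∀ q : PrimeSpectrum A, f q ^ 2 = ev q x ∧ f q ^ 3 = ev q y := fun q => by
    have he : ev q x ^ 3 = ev q y ^ 2 := by rw [← map_pow, ← map_pow, hxy]
    show (ev q y / ev q x) ^ 2 = ev q x ∧ (ev q y / ev q x) ^ 3 = ev q y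
    by_cases hX : ev q x = 0
    · rw [hX, zero_pow three_ne_zero, eq_comm, sq_eq_zero_iff] at he
      simp [hX, he]
    · constructor
      · field_simp
        rw [← he]

      · rw [pow_succ, div_pow, ← he, pow_succ, mul_div_assoc]
        field_simp
  have hev : ∀ q : PrimeSpectrum A, ev q a = f q := fun q => congrFun hs q
  refine ⟨a, ⟨?_, ?_⟩, fun a' ha' => ?_⟩
  · refine sub_eq_zero.1 (hzero _ fun q => ?_)
    rw [map_sub, map_pow, hev, (hfsq q).1, sub_self]
  · refine sub_eq_zero.1 (hzero _ fun q => ?_)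
    rw [map_sub, map_pow, hev, (hfsq q).2, sub_self]
  · refine (ConcreteCategory.bijective_of_isIso (Scheme.ΓSpecIso (CommRingCat.of A)).inv).1
      (hu _ (funext fun q => ?_))
    show ev q a' = ev q y / ev q x
    exact key _ _ _ (by rw [← map_pow, ← ha'.1]) (by rw [← map_pow, ← ha'.2])

end Groth.Agent.HTop50
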