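import Mathlib.RingTheory.TensorProduct.DirectLimitFG
import Mathlib.RingTheory.LocalRing.MaximalIdeal.Basic
import Mathlib.RingTheory.Ideal.MinimalPrime.Localization
import Mathlib.RingTheory.Spectrum.Prime.Basic
import Mathlib.RingTheory.Localization.BaseChange

/-! Failure of lifting a specialization along `V → V ⊗ R` descends to a finitely generated subring. -/

set_option autoImplicit false

universe u

open TensorProduct

namespace Groth.Agent.HTop50

variable {A V R : Type u} [CommRing A] [CommRing V] [Algebra A V] [CommRing R] [Algebra A R]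

/-- The map induced by the inclusion of a subalgebra in the left factor. -/
noncomputable abbrev subTensor (R : Type u) [CommRing R] [Algebra A R] (B : Subalgebra A V) :
    (B ⊗[A] R) →ₐ[A] V ⊗[A] R :=
  Algebra.TensorProduct.map B.val (AlgHom.id A R)

/-- The transition map between two subalgebras. -/
noncomputable abbrev subIncl (R : Type u) [CommRing R] [Algebra A R] {B B' : Subalgebra A V}
    (h : B ≤ B') : (B ⊗[A] R) →ₐ[A] B' ⊗[A] R :=
  Algebra.TensorProduct.map (Subalgebra.inclusion h) (AlgHom.id A R)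

theorem subTensor_subIncl {B B' : Subalgebra A V} (h : B ≤ B') (x : B ⊗[A] R) :
    subTensor R B' (subIncl R h x) = subTensor R B x := by
  rw [← AlgHom.comp_apply]
  congr 1
  ext <;> simp

theorem subIncl_subIncl {B B' B'' : Subalgebra A V} (h : B ≤ B') (h' : B' ≤ B'') (x : B ⊗[A] R) :
    subIncl R h' (subIncl R h x) = subIncl R (h.trans h') x := by
  rw [← AlgHom.comp_apply]
  congr 1
  ext <;> simp

theorem exists_eq_subTensor (x : V ⊗[A] R) :
    ∃ B : Subalgebra A V, B.FG ∧ ∃ y, subTensor R B y = x := by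
  obtain ⟨B, hB, y, hy⟩ := TensorProduct.Algebra.exists_of_fg x
  exact ⟨B, hB, y, hy⟩

theorem exists_subIncl_eq_zero {B : Subalgebra A V} (hB : B.FG) {y : B ⊗[A] R}
    (h : subTensor R B y = 0) :
    ∃ (B' : Subalgebra A V) (hle : B ≤ B'), B'.FG ∧ subIncl R hle y = 0 := by
  obtain ⟨B', hle, hB', he⟩ := TensorProduct.Algebra.eq_of_fg_of_subtype_eq hB (t := y) (t' := 0)
    (by rw [map_zero]; exact h)
  exact ⟨B', hle, hB', by rw [map_zero] at he; exact he⟩

/-- Elements of the extended ideal come from a finitely generated subalgebra. -/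
theorem exists_mem_map {I : Ideal V} {s : V ⊗[A] R}
    (hs : s ∈ I.map (Algebra.TensorProduct.includeLeftRingHom (R := A) (A := V) (B := R))) :
    ∃ (B : Subalgebra A V), B.FG ∧ ∃ sB ∈ (I.comap B.val).map
      (Algebra.TensorProduct.includeLeftRingHom (R := A) (A := B) (B := R)), subTensor R B sB = s := by
  have key : ∀ {B B' : Subalgebra A V} (h : B ≤ B'), ∀ sB ∈ (I.comap B.val).map
      (Algebra.TensorProduct.includeLeftRingHom (R := A) (A := B) (B := R)),
      subIncl R h sB ∈ (I.comap B'.val).map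
        (Algebra.TensorProduct.includeLeftRingHom (R := A) (A := B') (B := R)) := by
    intro B B' h sB hsB
    have hle : ((I.comap B.val).map
        (Algebra.TensorProduct.includeLeftRingHom (R := A) (A := B) (B := R))).map
          (subIncl R h).toRingHom ≤ (I.comap B'.val).map
            (Algebra.TensorProduct.includeLeftRingHom (R := A) (A := B') (B := R)) := by
      rw [Ideal.map_map, Ideal.map_le_iff_le_comap]
      intro b hb
      rw [Ideal.mem_comap]
      have : (subIncl R h).toRingHom.comp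
          (Algebra.TensorProduct.includeLeftRingHom (R := A) (A := B) (B := R)) b =
          Algebra.TensorProduct.includeLeftRingHom (R := A) (A := B') (B := R)
            (Subalgebra.inclusion h b) := by simp
      rw [this]
      exact Ideal.mem_map_of_mem _ hb
    exact hle (Ideal.mem_map_of_mem _ hsB)
  refine Submodule.span_induction ?_ ?_ ?_ ?_ hs
  · rintro _ ⟨v, hv, rfl⟩
    refine ⟨Algebra.adjoin A {v}, Subalgebra.fg_def.2 ⟨{v}, Set.finite_singleton v, rfl⟩,
      Algebra.TensorProduct.includeLeftRingHom (R := A) ⟨v, Algebra.subset_adjoin rfl⟩,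
      Ideal.mem_map_of_mem _ hv, by simp⟩
  · exact ⟨⊥, Subalgebra.fg_bot, 0, Submodule.zero_mem _, map_zero _⟩
  · rintro x y - - ⟨B, hB, a, ha, rfl⟩ ⟨B', hB', b, hb, rfl⟩
    have l₁ : B ≤ B ⊔ B' := le_sup_left
    have l₂ : B' ≤ B ⊔ B' := le_sup_right
    refine ⟨B ⊔ B', hB.sup hB', subIncl R l₁ a + subIncl R l₂ b,
      Submodule.add_mem _ (key _ a ha) (key _ b hb), ?_⟩
    rw [map_add, subTensor_subIncl, subTensor_subIncl]
  · rintro r x - ⟨B, hB, a, ha, rfl⟩
    obtain ⟨B', hB', r', rfl⟩ := exists_eq_subTensor r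
    have l₁ : B' ≤ B' ⊔ B := le_sup_left
    have l₂ : B ≤ B' ⊔ B := le_sup_right
    refine ⟨B' ⊔ B, hB'.sup hB, subIncl R l₁ r' * subIncl R l₂ a,
      Ideal.mul_mem_left _ _ (key _ a ha), ?_⟩
    rw [map_mul, subTensor_subIncl, subTensor_subIncl, smul_eq_mul]

variable [IsDomain V] [IsLocalRing V]

/-- If the generic fibre of `V → V ⊗ R` does not specialize into the closed fibre, some element of the
tensor product vanishes on the generic fibre and is `1` on the closed fibre. -/
theorem exists_witness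
    (h : ∀ q q' : Ideal (V ⊗[A] R), q.IsPrime → q'.IsPrime → q ≤ q' →
      q.comap (Algebra.TensorProduct.includeLeftRingHom (R := A) (A := V) (B := R)) = ⊥ →
      q'.comap (Algebra.TensorProduct.includeLeftRingHom (R := A) (A := V) (B := R)) ≠
        IsLocalRing.maximalIdeal V) :
    ∃ (c : V) (t : V ⊗[A] R), c ≠ 0 ∧
      Algebra.TensorProduct.includeLeftRingHom (R := A) (A := V) (B := R) c * t = 0 ∧
      1 - t ∈ (IsLocalRing.maximalIdeal V).map
        (Algebra.TensorProduct.includeLeftRingHom (R := A) (A := V) (B := R)) := by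
  set inc := Algebra.TensorProduct.includeLeftRingHom (R := A) (A := V) (B := R)
  let S : Submonoid (V ⊗[A] R) := (nonZeroDivisors V).map inc
  let L := Localization S
  let f : V ⊗[A] R →+* L := algebraMap _ L
  by_cases htop : RingHom.ker f ⊔ (IsLocalRing.maximalIdeal V).map inc = ⊤
  · obtain ⟨t, ht, s, hs, hts⟩ := Submodule.mem_sup.1 (htop ▸ Submodule.mem_top :
      (1 : V ⊗[A] R) ∈ RingHom.ker f ⊔ (IsLocalRing.maximalIdeal V).map inc)
    obtain ⟨⟨_, c, hc, rfl⟩, hct⟩ := (IsLocalization.map_eq_zero_iff S L t).1 ht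
    refine ⟨c, t, nonZeroDivisors.ne_zero hc, hct, ?_⟩
    rw [← hts, add_sub_cancel_left]
    exact hs
  obtain ⟨q', hq', hle⟩ := Ideal.exists_le_maximal _ htop
  obtain ⟨m, hm, hmle⟩ := Ideal.exists_minimalPrimes_le (le_sup_left.trans hle : RingHom.ker f ≤ q')
  obtain ⟨Q, hQ, -, hQm⟩ := Ideal.exists_comap_eq_of_mem_minimalPrimes f (I := ⊥) m
    (by rwa [← RingHom.ker_eq_comap_bot])
  have : m.IsPrime := hQm ▸ Q.comap_isPrime f
  refine absurd ?_ (h m q' this hq'.isPrime hmle ?_)
  · refine ((IsLocalRing.maximalIdeal.isMaximal V).eq_of_le ?_ fun v hv => ?_).symm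
    · exact Ideal.comap_ne_top inc hq'.ne_top
    · exact hle (le_sup_right (a := RingHom.ker f) (Ideal.mem_map_of_mem inc hv))
  · rw [eq_bot_iff]
    intro v hv
    by_contra hv0
    have hu : IsUnit (f (inc v)) := IsLocalization.map_units L
      (⟨inc v, v, mem_nonZeroDivisors_of_ne_zero hv0, rfl⟩ : S)
    rw [← hQm] at hv
    exact hQ.ne_top (Ideal.eq_top_of_isUnit_mem _ hv hu)

/-- The absence of a specialization from the generic to the closed fibre descends to every large
enough finitely generated subalgebra. -/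
theorem exists_fg_no_specializes
    (h : ∀ q q' : Ideal (V ⊗[A] R), q.IsPrime → q'.IsPrime → q ≤ q' →
      q.comap (Algebra.TensorProduct.includeLeftRingHom (R := A) (A := V) (B := R)) = ⊥ →
      q'.comap (Algebra.TensorProduct.includeLeftRingHom (R := A) (A := V) (B := R)) ≠
        IsLocalRing.maximalIdeal V) :
    ∃ B₀ : Subalgebra A V, B₀.FG ∧ ∀ B : Subalgebra A V, B₀ ≤ B →
      ∀ q q' : Ideal (B ⊗[A] R), q.IsPrime → q'.IsPrime → q ≤ q' →
        q.comap (Algebra.TensorProduct.includeLeftRingHom (R := A) (A := B) (B := R)) = ⊥ →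
        q'.comap (Algebra.TensorProduct.includeLeftRingHom (R := A) (A := B) (B := R)) ≠
          (IsLocalRing.maximalIdeal V).comap B.val := by
  obtain ⟨c, t, hc, hct, hts⟩ := exists_witness h
  obtain ⟨B₁, hB₁, s₁, hs₁, hs⟩ := exists_mem_map hts
  let Bc := Algebra.adjoin A {c}
  obtain ⟨B₂, hB₂, t₂, ht⟩ := exists_eq_subTensor t
  let B' := B₁ ⊔ B₂ ⊔ Bc
  have hB' : B'.FG :=
    (hB₁.sup hB₂).sup (Subalgebra.fg_def.2 ⟨{c}, Set.finite_singleton c, rfl⟩)
  have h1 : B₁ ≤ B' := le_sup_left.trans le_sup_left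
  have h2 : B₂ ≤ B' := le_sup_right.trans le_sup_left
  let c' : B' := ⟨c, (le_sup_right : Bc ≤ B') (Algebra.subset_adjoin rfl)⟩
  let t' := subIncl R h2 t₂
  let s' := subIncl R h1 s₁
  obtain ⟨B₃, h3, hB₃, e1⟩ := exists_subIncl_eq_zero hB'
    (y := Algebra.TensorProduct.includeLeftRingHom c' * t') (by
      rw [map_mul, subTensor_subIncl, ht]
      convert hct using 2
      simp [c'])
  obtain ⟨B₄, h4, hB₄, e2⟩ := exists_subIncl_eq_zero hB₃
    (y := subIncl R h3 (t' + s' - 1)) (by
      rw [subTensor_subIncl, map_sub, map_add, map_one, subTensor_subIncl, subTensor_subIncl, ht, hs,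
        add_sub_cancel, sub_self])
  refine ⟨B₄, hB₄, fun B hle q q' hq hq' hqq' hbot hmax => ?_⟩
  have hB'B : B' ≤ B := (h3.trans h4).trans hle
  have E1 : Algebra.TensorProduct.includeLeftRingHom (R := A) (B := R) (Subalgebra.inclusion hB'B c') *
      subIncl R hB'B t' = 0 := by
    have := congrArg (subIncl R (h4.trans hle)) e1
    rw [map_zero, subIncl_subIncl, map_mul] at this
    simpa using this
  have E2 : subIncl R hB'B t' + subIncl R hB'B s' = 1 := by
    have := congrArg (subIncl R hle) e2
    rw [map_zero, subIncl_subIncl, subIncl_subIncl, map_sub, map_add, map_one, sub_eq_zero] at this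
    exact this
  have hcq : Algebra.TensorProduct.includeLeftRingHom (R := A) (B := R)
      (Subalgebra.inclusion hB'B c') ∉ q := fun hmem => by
    have h0 : Subalgebra.inclusion hB'B c' ∈ (⊥ : Ideal B) := hbot ▸ hmem
    exact hc (congrArg Subtype.val (Ideal.mem_bot.1 h0))
  have htq : subIncl R hB'B t' ∈ q' :=
    hqq' ((hq.mem_or_mem (E1 ▸ q.zero_mem)).resolve_left hcq)
  have hsq : subIncl R hB'B s' ∈ q' := by
    have hle' : ((IsLocalRing.maximalIdeal V).comap B₁.val).map
        (Algebra.TensorProduct.includeLeftRingHom (R := A) (A := B₁) (B := R)) ≤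
        q'.comap (subIncl R (h1.trans hB'B)) := by
      rw [Ideal.map_le_iff_le_comap]
      intro b hb
      have hb' : Subalgebra.inclusion (h1.trans hB'B) b ∈
          (IsLocalRing.maximalIdeal V).comap B.val := hb
      rw [← hmax] at hb'
      simpa [Ideal.mem_comap] using hb'
    have := hle' hs₁
    rw [Ideal.mem_comap] at this
    rwa [subIncl_subIncl]
  exact hq'.ne_top ((Ideal.eq_top_iff_one _).2 (E2 ▸ q'.add_mem htq hsq))

end Groth.Agent.HTop50
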