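import Groth.Agent.HTop50.HRefine
import Groth.Agent.HTop50.ValLift
import Groth.Agent.VCov93.Submersive
import Groth.Agent.LimTop61.SteinFinite
import Groth.Agent.HTop50.PtFunAlg

/-! Finite type descends along universally submersive morphisms of Noetherian schemes. -/

set_option autoImplicit false
set_option linter.style.haveILetI false

universe u

open CategoryTheory CategoryTheory.Limits AlgebraicGeometry MvPolynomial

namespace Groth.Agent.HTop50

variable {R A : Type u} [CommRing R] [CommRing A]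

/-- An algebra which is finitely generated modulo a nilpotent finitely generated ideal is finitely
generated. -/
theorem finiteType_of_nilpotent [Algebra R A] [IsNoetherianRing A] (N : Ideal A) (hN : IsNilpotent N)
    [Algebra.FiniteType R (A ⧸ N)] : Algebra.FiniteType R A := by
  classical
  obtain ⟨s, hs⟩ := Algebra.FiniteType.out (R := R) (A := A ⧸ N)
  choose l hl using fun x : A ⧸ N => Ideal.Quotient.mk_surjective x
  obtain ⟨t, ht⟩ := (IsNoetherian.noetherian N : N.FG)
  let S := Algebra.adjoin R ((s.image l : Finset A) ∪ t : Set A)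
  have hSN : ∀ a : A, ∃ b ∈ S, a - b ∈ N := by
    intro a
    have ha : Ideal.Quotient.mk N a ∈ Algebra.adjoin R (s : Set (A ⧸ N)) := by rw [hs]; trivial
    have hle : Algebra.adjoin R (s : Set (A ⧸ N)) ≤ S.map (Ideal.Quotient.mkₐ R N) := by
      rw [AlgHom.map_adjoin]
      refine Algebra.adjoin_mono fun x hx => ⟨l x, Or.inl ?_, hl x⟩
      exact Finset.mem_coe.2 (Finset.mem_image_of_mem l hx)
    obtain ⟨b, hb, hba⟩ := hle ha
    refine ⟨b, hb, ?_⟩
    rw [← Ideal.Quotient.eq]
    exact hba.symm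
  have h1 : ∀ n ∈ N, ∃ d ∈ S, n - d ∈ N ^ 2 := by
    intro n hn
    rw [← ht] at hn
    induction hn using Submodule.span_induction with
    | mem x hx => exact ⟨x, Algebra.subset_adjoin (Or.inr hx), by simp⟩
    | zero => exact ⟨0, zero_mem _, by simp⟩
    | add x y _ _ hx hy =>
      obtain ⟨c, hc, h1⟩ := hx
      obtain ⟨c', hc', h2⟩ := hy
      exact ⟨c + c', add_mem hc hc', by rw [add_sub_add_comm]; exact add_mem h1 h2⟩
    | smul r x hxs hx =>
      obtain ⟨c, hc, h1⟩ := hx
      obtain ⟨b, hb, h2⟩ := hSN r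
      refine ⟨b * c, mul_mem hb hc, ?_⟩
      have hx' : x ∈ N := by rw [← ht]; exact hxs
      have hc' : c ∈ N := by
        simpa using N.sub_mem hx' (Ideal.pow_le_self two_ne_zero h1)
      rw [smul_eq_mul, show r * x - b * c = (r - b) * c + r * (x - c) by ring]
      exact add_mem (by rw [pow_two]; exact Ideal.mul_mem_mul h2 hc') (Ideal.mul_mem_left _ _ h1)
  have hstep : ∀ k, ∀ x ∈ N ^ k, ∃ c ∈ S, x - c ∈ N ^ (k + 1) := by
    intro k
    induction k with
    | zero =>
      intro x _
      obtain ⟨b, hb, h⟩ := hSN x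
      exact ⟨b, hb, by rwa [zero_add, pow_one]⟩
    | succ k ih =>
      intro x hx
      rw [pow_succ] at hx
      refine Submodule.mul_induction_on hx (fun y hy n hn => ?_) ?_
      · obtain ⟨c, hc, hyc⟩ := ih y hy
        obtain ⟨d, hd, hnd⟩ := h1 n hn
        refine ⟨c * d, mul_mem hc hd, ?_⟩
        have hck : c ∈ N ^ k := by
          simpa using (N ^ k).sub_mem hy (Ideal.pow_le_pow_right (Nat.le_succ k) hyc)
        rw [show y * n - c * d = (y - c) * n + c * (n - d) by ring]
        refine add_mem ?_ ?_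
        · rw [pow_succ]; exact Ideal.mul_mem_mul hyc hn
        · rw [show k + 1 + 1 = k + 2 from rfl, pow_add]; exact Ideal.mul_mem_mul hck hnd
      · rintro y z ⟨c, hc, h1⟩ ⟨c', hc', h2⟩
        exact ⟨c + c', add_mem hc hc', by rw [add_sub_add_comm]; exact add_mem h1 h2⟩
  have hpow : ∀ k, ∀ a : A, ∃ b ∈ S, a - b ∈ N ^ k := by
    intro k
    induction k with
    | zero => exact fun a => ⟨0, zero_mem _, by simp⟩
    | succ k ih =>
      intro a
      obtain ⟨b, hb, hab⟩ := ih a
      obtain ⟨c, hc, h⟩ := hstep k _ hab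
      exact ⟨b + c, add_mem hb hc, by rw [← sub_sub]; exact h⟩
  obtain ⟨k, hk⟩ := hN
  have htop : S = ⊤ := eq_top_iff.2 fun a _ => by
    obtain ⟨b, hb, hab⟩ := hpow k a
    rw [hk, Ideal.zero_eq_bot, Ideal.mem_bot, sub_eq_zero] at hab
    exact hab ▸ hb
  exact ⟨Subalgebra.fg_def.2 ⟨_, Set.Finite.union (Finset.finite_toSet _) (Finset.finite_toSet _), htop⟩⟩

variable {Y : Scheme.{u}}

/-- The kernel of the values at a point. -/
theorem ev_ker {D : Type u} [CommRing D] (p : Y ⟶ Spec (CommRingCat.of D)) (y : Y) (r : D) :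
    r ∈ (p y).asIdeal ↔
      Y.Γevaluation y (p.appTop.hom ((Scheme.ΓSpecIso (CommRingCat.of D)).inv.hom r)) = 0 := by
  rw [← Scheme.Γevaluation_naturality_apply, map_eq_zero]
  exact (ev_eq_zero_iff (p y)).symm

theorem evaluation_cst_ft {D : Type u} [CommRing D] (p : Y ⟶ Spec (CommRingCat.of D)) (W : Y.Opens)
    (y : Y) (hy : y ∈ W) (r : D) :
    Y.evaluation W y hy (cst p W r) =
      Y.Γevaluation y (p.appTop.hom ((Scheme.ΓSpecIso (CommRingCat.of D)).inv.hom r)) := by
  show (Y.residue y).hom ((Y.presheaf.germ W y hy).hom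
    ((p.appLE ⊤ W le_top).hom ((Scheme.ΓSpecIso (CommRingCat.of D)).inv.hom r))) = _
  rw [show p.appLE ⊤ W le_top = p.appTop ≫ Y.presheaf.map (homOfLE le_top).op from rfl,
    CommRingCat.comp_apply, Y.presheaf.germ_res_apply]
  rfl

set_option maxHeartbeats 1000000 in
-- bookkeeping
/-- Integrality over a finitely generated subalgebra from projective charts of finite type. -/
theorem exists_fg_integral [Algebra R A] [IsNoetherianRing A] {D : Type u} [CommRing D] [Algebra A D]
    [Module.Finite A D] (pD : Y ⟶ Spec (CommRingCat.of D)) (hch : HasProjCharts pD)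
    (hsurj : Surjective (pD ≫ Spec.map (CommRingCat.ofHom (algebraMap A D))))
    (hft : ∀ W : Y.Opens, IsAffineOpen W →
      (((cst pD W).comp (algebraMap A D)).comp (algebraMap R A)).FiniteType) :
    ∃ A' : Subalgebra R A, A'.FG ∧ Algebra.IsIntegral A' A := by
  classical
  obtain ⟨n, V, x, haff, hcov, hx1, hle, hcoc, hgen⟩ := hch
  obtain ⟨d, hd⟩ : ∃ d : Finset D, Submodule.span A (d : Set D) = ⊤ :=
    (Module.finite_def.1 (inferInstance : Module.Finite A D))
  choose q hqm hq using fun δ : D => (Algebra.IsIntegral.isIntegral (R := A) δ)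
  choose co hco using fun δ : D => Submodule.mem_span_finset.1
    (show δ ∈ Submodule.span A (d : Set D) by rw [hd]; trivial)
  have hG : ∀ j, ∃ G : Finset Γ(Y, V j), ∀ c : Γ(Y, V j), ∃ Q : MvPolynomial G R,
      eval₂Hom (((cst pD (V j)).comp (algebraMap A D)).comp (algebraMap R A))
        (fun g : {g // g ∈ G} => g.1) Q = c := by
    intro j
    have h := hft (V j) (haff j)
    let _ : Algebra R Γ(Y, V j) :=
      (((cst pD (V j)).comp (algebraMap A D)).comp (algebraMap R A)).toAlgebra
    obtain ⟨G, hG⟩ := (show Algebra.FiniteType R Γ(Y, V j) from h).out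
    refine ⟨G, fun c => ?_⟩
    have hc : c ∈ Algebra.adjoin R (G : Set Γ(Y, V j)) := by rw [hG]; trivial
    rw [show (G : Set Γ(Y, V j)) = Set.range (fun g : G => (g : Γ(Y, V j))) from
      Subtype.range_coe.symm, Algebra.adjoin_range_eq_range_aeval] at hc
    obtain ⟨Q, hQ⟩ := hc
    exact ⟨Q, hQ⟩
  choose G hG using hG
  choose P hP using hgen
  let Δ : Finset D := Finset.univ.biUnion fun j => (G j).biUnion fun g =>
    (P j g).support.image fun e => (P j g).coeff e
  let T : Finset A := (d.biUnion fun δ => (q δ).coeffs) ∪ Δ.biUnion fun δ => d.image (co δ)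
  let A' := Algebra.adjoin R (T : Set A)
  refine ⟨A', Subalgebra.fg_adjoin_finset T, ⟨fun a => ?_⟩⟩
  -- it is enough to work modulo each minimal prime
  suffices key : ∀ p : PrimeSpectrum A, IsIntegral A' (algebraMap A p.asIdeal.ResidueField a) by
    choose f hf hf0 using key
    have : Fintype (minimalPrimes A) := (minimalPrimes.finite_of_isNoetherianRing A).fintype
    let g : Polynomial A' := ∏ P : minimalPrimes A, f ⟨P.1, P.2.1.1⟩
    have hnil : IsNilpotent (Polynomial.eval₂ (algebraMap A' A) a g) := by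
      rw [← mem_nilradical]
      show _ ∈ (⊥ : Ideal A).radical
      rw [← Ideal.sInf_minimalPrimes, Ideal.mem_sInf]
      intro Q hQ
      have hQp : Q.IsPrime := hQ.1.1
      rw [← Ideal.algebraMap_residueField_eq_zero (I := Q), Polynomial.hom_eval₂,
        ← IsScalarTower.algebraMap_eq, Polynomial.eval₂_finsetProd]
      exact Finset.prod_eq_zero (Finset.mem_univ (⟨Q, hQ⟩ : minimalPrimes A)) (hf0 ⟨Q, hQp⟩)
    obtain ⟨N, hN⟩ := hnil
    refine ⟨g ^ N, (Polynomial.monic_prod_of_monic _ _ fun P _ => hf _).pow N, ?_⟩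
    rw [Polynomial.eval₂_pow, hN]
  intro p
  obtain ⟨y, hy⟩ := hsurj.surj p
  let K := Y.residueField y
  let θD : D →+* K :=
    ((Scheme.ΓSpecIso (CommRingCat.of D)).inv ≫ pD.appTop ≫ Y.Γevaluation y).hom
  let θ : A →+* K := θD.comp (algebraMap A D)
  have hev : ∀ (W : Y.Opens) (hW : y ∈ W) (r : D), Y.evaluation W y hW (cst pD W r) = θD r :=
    fun W hW r => evaluation_cst_ft pD W y hW r
  have hker : RingHom.ker θ = p.asIdeal := by
    rw [← hy]
    show RingHom.ker θ = Ideal.comap (algebraMap A D) (pD y).asIdeal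
    rw [← RingHom.comap_ker]
    congr 1
    ext r
    rw [RingHom.mem_ker]
    exact (ev_ker pD y r).symm
  -- transfer from `K`
  have hu₂ : p.asIdeal.primeCompl ≤ (IsUnit.submonoid K).comap θ := fun s hs =>
    IsUnit.mk0 _ fun h0 => hs (hker.le h0)
  let j₀ : p.asIdeal.ResidueField →+* K := Ideal.ResidueField.lift p.asIdeal θ hker.ge hu₂
  suffices h : ∀ W : ValuationSubring K, (∀ b : A', θ b ∈ W) → θ a ∈ W by
    have hmem : θ a ∈ (⨅ W : {W : ValuationSubring K // Set.range (θ.comp (algebraMap A' A)) ⊆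
        W.toSubring}, W.1.toSubring) :=
      Subring.mem_iInf.2 fun W => h W.1 fun b => W.2 ⟨b, rfl⟩
    rw [iInf_valuationSubring_superset] at hmem
    obtain ⟨f, hfm, hf⟩ := hmem
    have hr : Subring.closure (Set.range (θ.comp (algebraMap A' A))) = (θ.comp (algebraMap A' A)).range := by
      rw [← RingHom.coe_range, Subring.closure_eq]
    obtain ⟨F, hF, -, hFm⟩ := Polynomial.lifts_and_degree_eq_and_monic
      (f := θ.comp (algebraMap A' A)) (p := f.map (Subring.closure _).subtype) (by
        rw [Polynomial.lifts_iff_coeff_lifts]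
        intro k
        rw [Polynomial.coeff_map]
        exact (hr ▸ (f.coeff k).2 : ((f.coeff k : K)) ∈ (θ.comp (algebraMap A' A)).range)) (hfm.map _)
    refine ⟨F, hFm, j₀.injective ?_⟩
    rw [Polynomial.hom_eval₂, map_zero, Ideal.ResidueField.lift_algebraMap]
    rw [show j₀.comp (algebraMap A' p.asIdeal.ResidueField) = θ.comp (algebraMap A' A) from
      RingHom.ext fun b => Ideal.ResidueField.lift_algebraMap p.asIdeal θ hker.ge hu₂ _, ← Polynomial.eval_map, hF,
      Polynomial.eval_map]
    exact hf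
  intro W hW
  have hcoef : ∀ b ∈ T, θ b ∈ W := fun b hb => hW ⟨b, Algebra.subset_adjoin hb⟩
  have hdW : ∀ δ ∈ d, θD δ ∈ W := fun δ hδ => by
    let F := (q δ).map θ
    have hFl : F ∈ Polynomial.lifts (algebraMap W K) := by
      rw [Polynomial.lifts_iff_coeff_lifts]
      intro k
      rw [Polynomial.coeff_map]
      by_cases hk : (q δ).coeff k = 0
      · rw [hk, map_zero]; exact ⟨0, map_zero _⟩
      · exact ⟨⟨_, hcoef _ (Finset.mem_union_left _ (Finset.mem_biUnion.2
          ⟨δ, hδ, Polynomial.coeff_mem_coeffs hk⟩))⟩, rfl⟩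
    obtain ⟨F', hF', -, hF'm⟩ := Polynomial.lifts_and_degree_eq_and_monic hFl ((hqm δ).map _)
    obtain ⟨w, hw⟩ := IsIntegrallyClosed.isIntegral_iff.1 (show IsIntegral W (θD δ) from ⟨F', hF'm, by
      rw [← Polynomial.eval_map, hF', Polynomial.eval_map,
        show θ = θD.comp (algebraMap A D) from rfl, ← Polynomial.hom_eval₂, hq δ, map_zero]⟩)
    rw [← hw]; exact w.2
  have hΔ : ∀ δ ∈ Δ, θD δ ∈ W := fun δ hδ => by
    rw [← (hco δ).2, map_sum]
    refine sum_mem fun e he => ?_
    rw [Algebra.smul_def, map_mul]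
    exact mul_mem (hcoef _ (Finset.mem_union_right _ (Finset.mem_biUnion.2
      ⟨δ, hδ, Finset.mem_image_of_mem _ he⟩))) (hdW e he)
  obtain ⟨j, hj⟩ : ∃ j, y ∈ V j := by
    exact TopologicalSpace.Opens.mem_iSup.1 (by rw [hcov]; trivial : y ∈ ⨆ j, V j)
  let c : Fin (n + 1) → K := fun l => Y.evaluation (V j) y hj (x j l)
  obtain ⟨l, -, hl⟩ := Finset.exists_max_image Finset.univ (fun l => W.valuation (c l))
    Finset.univ_nonempty
  have hcl : c l ≠ 0 := fun h0 => by
    have := hl j (Finset.mem_univ _)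
    rw [h0, map_zero] at this
    simp only [c, hx1, map_one, le_zero_iff, one_ne_zero] at this
  have hyl : y ∈ V l := hle j l ((Scheme.evaluation_ne_zero_iff_mem_basicOpen Y y hj _).1 hcl)
  have hxW : ∀ m, Y.evaluation (V l) y hyl (x l m) ∈ W := fun m => by
    rw [← W.valuation_le_one_iff]
    have := hl m (Finset.mem_univ _)
    simp only [c] at this
    rw [hcoc y j l hj hyl m, map_mul] at this
    exact (mul_le_iff_le_one_right (zero_lt_iff.2 ((map_ne_zero _).2 hcl))).1 this
  obtain ⟨Q, hQ⟩ := hG l (cst pD (V l) (algebraMap A D a))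
  show θD (algebraMap A D a) ∈ W
  rw [← hev (V l) hyl, ← hQ, ← RingHom.comp_apply, comp_eval₂Hom, coe_eval₂Hom, eval₂_eq]
  refine sum_mem fun e _ => mul_mem ?_ (prod_mem fun g _ => pow_mem ?_ _)
  · show Y.evaluation (V l) y hyl (cst pD (V l) _) ∈ W
    rw [hev]
    exact hW ⟨algebraMap R A _, Subalgebra.algebraMap_mem _ _⟩
  · show Y.evaluation (V l) y hyl (g : Γ(Y, V l)) ∈ W
    rw [← hP l g, ← RingHom.comp_apply, comp_eval₂Hom, coe_eval₂Hom, eval₂_eq]
    refine sum_mem fun e he => mul_mem ?_ (prod_mem fun m _ => pow_mem (hxW m) _)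
    show Y.evaluation (V l) y hyl (cst pD (V l) _) ∈ W
    rw [hev]
    exact hΔ _ (Finset.mem_biUnion.2 ⟨l, Finset.mem_univ _, Finset.mem_biUnion.2
      ⟨g.1, g.2, Finset.mem_image_of_mem _ he⟩⟩)

set_option maxHeartbeats 1000000 in
-- bookkeeping
/-- The algebraic core. -/
theorem finiteType_of_projective [Algebra R A] [IsNoetherianRing R] [IsNoetherianRing A] {D : Type u}
    [CommRing D] [Algebra A D] [Module.Finite A D] (pD : Y ⟶ Spec (CommRingCat.of D))
    (hch : HasProjCharts pD) [IsProper (pD ≫ Spec.map (CommRingCat.ofHom (algebraMap A D)))]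
    [Surjective (pD ≫ Spec.map (CommRingCat.ofHom (algebraMap A D)))]
    [LocallyOfFiniteType ((pD ≫ Spec.map (CommRingCat.ofHom (algebraMap A D))) ≫
      Spec.map (CommRingCat.ofHom (algebraMap R A)))] :
    Algebra.FiniteType R A := by
  let p := pD ≫ Spec.map (CommRingCat.ofHom (algebraMap A D))
  let pR := p ≫ Spec.map (CommRingCat.ofHom (algebraMap R A))
  have hft : ∀ W : Y.Opens, IsAffineOpen W →
      (((cst pD W).comp (algebraMap A D)).comp (algebraMap R A)).FiniteType := fun W hW => by
    have h : (cst pR W).FiniteType := by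
      have h1 := HasRingHomProperty.appLE @LocallyOfFiniteType pR inferInstance
        ⟨_, isAffineOpen_top _⟩ ⟨W, hW⟩ le_top
      have h2 := h1.comp (RingHom.FiniteType.of_surjective
        (Scheme.ΓSpecIso (CommRingCat.of R)).inv.hom (ConcreteCategory.bijective_of_isIso _).2)
      exact h2
    rwa [cst_specMap, cst_specMap] at h
  obtain ⟨A', hA', hint⟩ := exists_fg_integral pD hch inferInstance hft
  have : Algebra.FiniteType R A' := (Subalgebra.fg_iff_finiteType A').1 hA'
  have : IsNoetherianRing A' := Algebra.FiniteType.isNoetherianRing R A'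
  let q := Spec.map (CommRingCat.ofHom (algebraMap A' A))
  have : IsIntegralHom q := IsIntegralHom.SpecMap_iff.2 (algebraMap_isIntegral_iff.2 hint)
  have : UniversallyClosed q := (IsIntegralHom.iff_universallyClosed_and_isAffineHom.1 this).1
  have : LocallyOfFiniteType ((p ≫ q) ≫ Spec.map (CommRingCat.ofHom (algebraMap R A'))) := by
    rw [Category.assoc, ← Spec.map_comp, ← CommRingCat.ofHom_comp, ← IsScalarTower.algebraMap_eq]
    infer_instance
  have : LocallyOfFiniteType (p ≫ q) :=
    locallyOfFiniteType_of_comp (p ≫ q) (Spec.map (CommRingCat.ofHom (algebraMap R A')))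
  have : IsProper (p ≫ q) := {}
  have hfin := LimTop61.finite_appTop_of_isProper (CommRingCat.of A') (p ≫ q)
  let φ : A →+* Γ(Y, ⊤) := ((Scheme.ΓSpecIso (CommRingCat.of A)).inv ≫ p.appTop).hom
  have hφ : (φ.comp (algebraMap A' A)).Finite := by
    have e : (Scheme.ΓSpecIso (CommRingCat.of A')).inv ≫ (p ≫ q).appTop =
        CommRingCat.ofHom (algebraMap A' A) ≫ (Scheme.ΓSpecIso (CommRingCat.of A)).inv ≫ p.appTop := by
      rw [Scheme.Hom.comp_appTop, Scheme.ΓSpecIso_inv_naturality_assoc]
    rw [e] at hfin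
    exact hfin
  let N : Ideal A := RingHom.ker φ
  have hN : IsNilpotent N := by
    have hle : N ≤ nilradical A := by
      intro a ha
      rw [nilradical_eq_sInf, Ideal.mem_sInf]
      intro P hP
      have hP' : P.IsPrime := hP
      obtain ⟨y, hy⟩ := ‹Surjective (pD ≫ Spec.map (CommRingCat.ofHom (algebraMap A D)))›.surj ⟨P, hP'⟩
      have h0 : Y.Γevaluation y (φ a) = 0 := by rw [RingHom.mem_ker.1 ha, map_zero]
      have := (ev_ker p y a).2 h0
      rwa [show p y = ⟨P, hP'⟩ from hy] at this
    obtain ⟨k, hk⟩ := IsNoetherianRing.isNilpotent_nilradical A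
    exact ⟨k, le_bot_iff.1 ((Ideal.pow_right_mono hle k).trans hk.le)⟩
  let _ : Algebra A' Γ(Y, ⊤) := (φ.comp (algebraMap A' A)).toAlgebra
  have : Module.Finite A' Γ(Y, ⊤) := hφ
  have : IsNoetherian A' Γ(Y, ⊤) := isNoetherian_of_isNoetherianRing_of_finite _ _
  let ψ : (A ⧸ N) →ₗ[A'] Γ(Y, ⊤) :=
    { toFun := RingHom.kerLift φ
      map_add' := map_add _
      map_smul' := fun b z => by
        obtain ⟨z, rfl⟩ := Ideal.Quotient.mk_surjective z
        rw [Algebra.smul_def, Algebra.smul_def, RingHom.id_apply, map_mul]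
        rfl }
  have : Module.Finite A' (A ⧸ N) := Module.Finite.of_injective ψ φ.kerLift_injective
  have : Algebra.FiniteType R (A ⧸ N) :=
    Algebra.FiniteType.trans (S := A') inferInstance inferInstance
  exact finiteType_of_nilpotent N hN

/-- The descent. -/
theorem locallyOfFiniteType_of_comp_univSubmersive {X' X Y : Scheme.{u}} [IsNoetherian X']
    [IsNoetherian X] [IsNoetherian Y] (f : X' ⟶ X) (hf : SGA1.UnivSubmersive f) (g : X ⟶ Y)
    [LocallyOfFiniteType (f ≫ g)] : LocallyOfFiniteType g := by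
  have : LocallyOfFiniteType f := locallyOfFiniteType_of_comp f g
  have hV : HTop.IsVCover (PreZeroHypercover.singleton.{0} f) :=
    VCov93.isVCover_of_hasValLift f (hasValLift_of_univSubmersive f hf)
  have hlfp : LocallyOfFinitePresentation f :=
    E4O.locallyOfFinitePresentation_of_isLocallyNoetherian f
  rw [HasRingHomProperty.iff_exists_appLE (P := @LocallyOfFiniteType)
    (RingHom.finiteType_stableUnderComposition.stableUnderCompositionWithLocalizationAway
      RingHom.finiteType_holdsForLocalizationAway).left]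
  intro x
  obtain ⟨W, hW, hxW, -⟩ := exists_isAffineOpen_mem_and_subset (U := (⊤ : Y.Opens)) (x := g x) trivial
  obtain ⟨U, hU, hxU, hUW⟩ := exists_isAffineOpen_mem_and_subset (U := g ⁻¹ᵁ W) (x := x) hxW
  refine ⟨⟨W, hW⟩, ⟨U, hU⟩, hxU, hUW, ?_⟩
  let R := Γ(Y, W)
  let A := Γ(X, U)
  let γ := g.appLE W U hUW
  have : IsNoetherianRing R := IsLocallyNoetherian.component_noetherian ⟨W, hW⟩
  have : IsNoetherianRing A := IsLocallyNoetherian.component_noetherian ⟨U, hU⟩
  let _ : Algebra R A := γ.hom.toAlgebra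
  let j : Spec A ⟶ X := hU.fromSpec
  obtain ⟨Z, r, n, V, ⟨D, _, _, _, pD, hch, hr⟩, hrp, hrs, -, -, hcov, hfac⟩ :=
    exists_projective_refining (X := Spec A) ((PreZeroHypercover.singleton.{0} f).pullback₁ j)
      (fun _ => inferInstanceAs (LocallyOfFinitePresentation (pullback.fst j f)))
      (VCov93.isVCover_pullback j hV)
  let e : A →+* Γ(Spec A, ⊤) := (Scheme.ΓSpecIso A).inv.hom
  let _ : Algebra A D := ((algebraMap Γ(Spec A, ⊤) D).comp e).toAlgebra
  have : Module.Finite A D :=
    (RingHom.Finite.comp (RingHom.finite_algebraMap.2 ‹Module.Finite Γ(Spec A, ⊤) D›)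
      (RingHom.Finite.of_surjective e (ConcreteCategory.bijective_of_isIso _).2) :)
  have hr' : r = pD ≫ Spec.map (CommRingCat.ofHom (algebraMap A D)) := by
    rw [hr, IsAffineOpen.fromSpec_top, Scheme.isoSpec_Spec_inv,
      show (CommRingCat.ofHom (algebraMap A D)) =
        (Scheme.ΓSpecIso A).inv ≫ CommRingCat.ofHom (algebraMap Γ(Spec A, ⊤) D) from rfl, Spec.map_comp]
    rfl
  subst hr'
  have hloc : LocallyOfFiniteType ((pD ≫ Spec.map (CommRingCat.ofHom (algebraMap A D))) ≫
      Spec.map (CommRingCat.ofHom (algebraMap R A))) := by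
    have hcomp : LocallyOfFiniteType (((pD ≫ Spec.map (CommRingCat.ofHom (algebraMap A D))) ≫
        Spec.map (CommRingCat.ofHom (algebraMap R A))) ≫ hW.fromSpec) := by
      rw [Category.assoc, show CommRingCat.ofHom (algebraMap R A) = γ from rfl,
        IsAffineOpen.SpecMap_appLE_fromSpec g hW hU hUW]
      refine (IsZariskiLocalAtSource.iff_of_iSup_eq_top (P := @LocallyOfFiniteType) V hcov).2 fun k => ?_
      obtain ⟨i, h, hh⟩ := hfac k
      let h₁ : (V k : Scheme.{u}) ⟶ pullback j f := h
      have hh₁ : h₁ ≫ pullback.fst j f =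
          (V k).ι ≫ pD ≫ Spec.map (CommRingCat.ofHom (algebraMap A D)) := hh
      have : LocallyOfFiniteType (h₁ ≫ pullback.fst j f) := by rw [hh₁]; infer_instance
      have : LocallyOfFiniteType h₁ := locallyOfFiniteType_of_comp h₁ (pullback.fst j f)
      rw [Category.assoc, ← Category.assoc, ← Category.assoc, Category.assoc (V k).ι, ← hh₁,
        Category.assoc, pullback.condition_assoc]
      infer_instance
    exact locallyOfFiniteType_of_comp _ hW.fromSpec
  have := hrp
  have := hrs
  exact finiteType_of_projective (R := R) (A := A) pD hch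

end Groth.Agent.HTop50
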