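import Groth.Agent.HTop50.AlmostCriterion
import Groth.Agent.HTop50.AffineHom
import Groth.Prelude.Def_W4stkflatFrob
import Mathlib.Algebra.Polynomial.Laurent
import Mathlib.Algebra.CharP.Lemmas

/-! The inverse limit of functions along Frobenius is an h sheaf. -/

set_option autoImplicit false
set_option linter.style.haveILetI false

universe w u

open CategoryTheory CategoryTheory.Limits AlgebraicGeometry Opposite

namespace Groth.Agent.HTop50

/-- Subtraction commutes with `p`-th power iterates when `p = 0`. -/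
theorem sub_pow_prime_pow {A : Type*} [CommRing A] {p : ℕ} (hp : p.Prime) (hA : (p : A) = 0) (a b : A)
    (m : ℕ) : (a - b) ^ p ^ m = a ^ p ^ m - b ^ p ^ m := by
  obtain ⟨r, hr⟩ := exists_add_pow_prime_pow_eq hp (a - b) b m
  rw [sub_add_cancel, hA, zero_mul, zero_mul, zero_mul, add_zero] at hr
  rw [hr, add_sub_cancel_right]

theorem iter_roots {R : Type*} [CommRing R] {p : ℕ} (z : ℕ → R) (hz : ∀ n, z (n + 1) ^ p = z n) (n k : ℕ) :
    z (n + k) ^ p ^ k = z n := by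
  induction k with
  | zero => simp
  | succ k ih => rw [pow_succ', pow_mul, ← add_assoc, hz, ih]

/-- Compatible systems of roots lift uniquely along a map with kernel killed by a power of Frobenius. -/
theorem existsUnique_roots {A B₁ B₂ : Type*} [CommRing A] [CommRing B₁] [CommRing B₂] {p m : ℕ}
    (hp : p.Prime) (hA : (p : A) = 0) (φ₁ : A →+* B₁) (φ₂ : A →+* B₂)
    (hker : ∀ d, φ₁ d = 0 → φ₂ d = 0 → d ^ p ^ m = 0) (z₁ : ℕ → B₁) (z₂ : ℕ → B₂)
    (hz₁ : ∀ n, z₁ (n + 1) ^ p = z₁ n) (hz₂ : ∀ n, z₂ (n + 1) ^ p = z₂ n)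
    (hlift : ∀ n, ∃ c, φ₁ c = z₁ n ∧ φ₂ c = z₂ n) :
    ∃! a : ℕ → A, (∀ n, a (n + 1) ^ p = a n) ∧ ∀ n, φ₁ (a n) = z₁ n ∧ φ₂ (a n) = z₂ n := by
  choose c hc₁ hc₂ using hlift
  have key : ∀ x y, φ₁ x = φ₁ y → φ₂ x = φ₂ y → x ^ p ^ m = y ^ p ^ m := fun x y h₁ h₂ => by
    rw [← sub_eq_zero, ← sub_pow_prime_pow hp hA]
    exact hker _ (by rw [map_sub, h₁, sub_self]) (by rw [map_sub, h₂, sub_self])
  refine ⟨fun n => c (n + m) ^ p ^ m, ⟨fun n => ?_, fun n => ⟨?_, ?_⟩⟩, fun b hb => funext fun n => ?_⟩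
  · show (c (n + 1 + m) ^ p ^ m) ^ p = c (n + m) ^ p ^ m
    rw [← pow_mul, mul_comm, pow_mul]
    refine key _ _ ?_ ?_
    · rw [map_pow, hc₁, hc₁, show n + 1 + m = n + m + 1 by ring, hz₁]
    · rw [map_pow, hc₂, hc₂, show n + 1 + m = n + m + 1 by ring, hz₂]
  · rw [map_pow, hc₁, iter_roots z₁ hz₁]
  · rw [map_pow, hc₂, iter_roots z₂ hz₂]
  · rw [← iter_roots b hb.1 n m]
    exact key _ _ (by rw [(hb.2 _).1, hc₁]) (by rw [(hb.2 _).2, hc₂])

variable {S : Scheme.{u}} (p : ℕ)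

theorem natCast_section_eq_zero (hS : (p : Γ(S, ⊤)) = 0) {U : Scheme.{u}} (x : U ⟶ S) :
    (p : Γ(U, ⊤)) = 0 := by
  rw [← map_natCast x.appTop.hom, hS, map_zero]

/-- The value of a family of compatible sequences. -/
theorem fam_comp {X : Scheme.{u}} (x : X ⟶ S) {R : Sieve X}
    {z : Presieve.FamilyOfElements (HTop.frobLimPresheaf p S) (overSieve x R : Presieve (Over.mk x))}
    (hz : z.Compatible) {W W' : Over S} (b : W' ⟶ W) (l : W ⟶ Over.mk x) (hl : overSieve x R l)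
    {l' : W' ⟶ Over.mk x} (e : b ≫ l = l') (hl' : overSieve x R l') (n : ℕ) :
    (z l' hl').1 n = b.left.appTop.hom ((z l hl).1 n) := by
  subst e
  rw [hz.to_sieveCompatible l b hl]
  rfl

/-- Sieves generated by two affine schemes with the lifting property are sheaf sieves. -/
theorem isSheafFor_pairSieve [hp : Fact p.Prime] (hS : (p : Γ(S, ⊤)) = 0) {U : Scheme.{u}} [IsAffine U]
    (x : U ⟶ S) (R : Sieve U) {B₁ B₂ T : Type u} [CommRing B₁] [CommRing B₂] [CommRing T]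
    (φ₁ : Γ(U, ⊤) →+* B₁) (φ₂ : Γ(U, ⊤) →+* B₂) (e₁ : B₁ →+* T) (e₂ : B₂ →+* T)
    (he : e₁.comp φ₁ = e₂.comp φ₂)
    (hR₁ : R (specTo φ₁)) (hR₂ : R (specTo φ₂))
    (hfac : ∀ ⦃W : Scheme.{u}⦄ (l : W ⟶ U), R l → (∃ γ : B₁ →+* Γ(W, ⊤), γ.comp φ₁ = l.appTop.hom) ∨
      ∃ γ : B₂ →+* Γ(W, ⊤), γ.comp φ₂ = l.appTop.hom)
    (hker : ∃ m, ∀ d, φ₁ d = 0 → φ₂ d = 0 → d ^ p ^ m = 0)
    (hlift : ∀ b₁ b₂, e₁ b₁ = e₂ b₂ → ∃ c, φ₁ c = b₁ ∧ φ₂ c = b₂) :
    Presieve.IsSheafFor (HTop.frobLimPresheaf p S) (overSieve x R : Presieve (Over.mk x)) := by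
  intro z hz
  obtain ⟨m, hm⟩ := hker
  let ι₁ := (Scheme.ΓSpecIso (CommRingCat.of B₁))
  let ι₂ := (Scheme.ΓSpecIso (CommRingCat.of B₂))
  let ιT := (Scheme.ΓSpecIso (CommRingCat.of T))
  let l₁ : Over.mk (specTo φ₁ ≫ x) ⟶ Over.mk x := Over.homMk (specTo (U := U) φ₁) rfl
  let l₂ : Over.mk (specTo φ₂ ≫ x) ⟶ Over.mk x := Over.homMk (specTo (U := U) φ₂) rfl
  have h₁ : overSieve x R l₁ := (Sieve.overEquiv_symm_iff _ _).2 hR₁
  have h₂ : overSieve x R l₂ := (Sieve.overEquiv_symm_iff _ _).2 hR₂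
  let r₁ : Spec (CommRingCat.of T) ⟶ Spec (CommRingCat.of B₁) := Spec.map (CommRingCat.ofHom e₁)
  let r₂ : Spec (CommRingCat.of T) ⟶ Spec (CommRingCat.of B₂) := Spec.map (CommRingCat.ofHom e₂)
  have nat₁ : ∀ b, ιT.hom.hom (r₁.appTop.hom b) = e₁ (ι₁.hom.hom b) :=
    RingHom.congr_fun (congrArg CommRingCat.Hom.hom (Scheme.ΓSpecIso_naturality (CommRingCat.ofHom e₁)))
  have nat₂ : ∀ b, ιT.hom.hom (r₂.appTop.hom b) = e₂ (ι₂.hom.hom b) :=
    RingHom.congr_fun (congrArg CommRingCat.Hom.hom (Scheme.ΓSpecIso_naturality (CommRingCat.ofHom e₂)))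
  have q₁ : ∀ a, ι₁.hom.hom ((specTo φ₁).appTop.hom a) = φ₁ a := fun a => by
    rw [specTo, appTop_toAff]; exact ι₁.inv_hom_id_apply _
  have q₂ : ∀ a, ι₂.hom.hom ((specTo φ₂).appTop.hom a) = φ₂ a := fun a => by
    rw [specTo, appTop_toAff]; exact ι₂.inv_hom_id_apply _
  have hr : r₁ ≫ specTo φ₁ = r₂ ≫ specTo φ₂ := by
    refine hom_ext_appTop (RingHom.ext fun a => ιT.commRingCatIsoToRingEquiv.injective ?_)
    show ιT.hom.hom ((r₁ ≫ specTo φ₁).appTop.hom a) = ιT.hom.hom ((r₂ ≫ specTo φ₂).appTop.hom a)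
    rw [comp_appTop_hom, comp_appTop_hom, RingHom.comp_apply, RingHom.comp_apply, nat₁, nat₂, q₁, q₂]
    exact RingHom.congr_fun he a
  let TT : Over S := Over.mk (r₁ ≫ specTo φ₁ ≫ x)
  let k₁ : TT ⟶ Over.mk (specTo φ₁ ≫ x) := Over.homMk r₁ rfl
  let k₂ : TT ⟶ Over.mk (specTo φ₂ ≫ x) := Over.homMk r₂ (by
    show r₂ ≫ specTo φ₂ ≫ x = r₁ ≫ specTo φ₁ ≫ x
    rw [reassoc_of% hr])
  let w₁ : ℕ → B₁ := fun n => ι₁.hom.hom ((z l₁ h₁).1 n)
  let w₂ : ℕ → B₂ := fun n => ι₂.hom.hom ((z l₂ h₂).1 n)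
  have hw₁ : ∀ n, w₁ (n + 1) ^ p = w₁ n := fun n => by
    simp only [w₁]
    rw [← map_pow, (z l₁ h₁).2]
  have hw₂ : ∀ n, w₂ (n + 1) ^ p = w₂ n := fun n => by
    simp only [w₂]
    rw [← map_pow, (z l₂ h₂).2]
  have hw : ∀ n, e₁ (w₁ n) = e₂ (w₂ n) := fun n => by
    simp only [w₁, w₂]
    rw [← nat₁, ← nat₂]
    have h := hz k₁ k₂ h₁ h₂ (Over.OverMorphism.ext hr)
    exact congrArg ιT.hom.hom (congrFun (congrArg Subtype.val h) n)
  obtain ⟨a, ⟨ha, hab⟩, hu⟩ := existsUnique_roots hp.out (natCast_section_eq_zero p hS x) φ₁ φ₂ hm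
    w₁ w₂ hw₁ hw₂ fun n => hlift _ _ (hw n)
  refine ⟨⟨a, ha⟩, fun W l hl => Subtype.ext (funext fun n => ?_), fun s hs => ?_⟩
  · show l.left.appTop.hom (a n) = (z l hl).1 n
    rcases hfac l.left ((Sieve.overEquiv_symm_iff _ _).1 hl) with ⟨γ, hγ⟩ | ⟨γ, hγ⟩
    · have hk' : toAff (γ.comp ι₁.hom.hom) ≫ specTo φ₁ = l.left := by
        refine hom_ext_appTop (RingHom.ext fun c => ?_)
        rw [comp_appTop_hom, RingHom.comp_apply, appTop_toAff, RingHom.comp_apply, q₁]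
        exact RingHom.congr_fun hγ c
      let k : W ⟶ Over.mk (specTo φ₁ ≫ x) := Over.homMk (toAff (U := Spec (CommRingCat.of B₁)) (γ.comp ι₁.hom.hom)) (by
        show toAff (γ.comp ι₁.hom.hom) ≫ specTo φ₁ ≫ x = W.hom
        rw [reassoc_of% hk']
        exact Over.w l)
      have e : k ≫ l₁ = l := Over.OverMorphism.ext hk'
      have h := fam_comp p x hz k l₁ h₁ e hl n
      refine Eq.trans ?_ h.symm
      rw [← hk']
      show (k.left ≫ specTo φ₁).appTop.hom (a n) = k.left.appTop.hom _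
      rw [comp_appTop_hom, RingHom.comp_apply]
      refine congrArg k.left.appTop.hom (ι₁.commRingCatIsoToRingEquiv.injective ?_)
      show ι₁.hom.hom _ = ι₁.hom.hom _
      rw [q₁]
      exact (hab n).1
    · have hk' : toAff (γ.comp ι₂.hom.hom) ≫ specTo φ₂ = l.left := by
        refine hom_ext_appTop (RingHom.ext fun c => ?_)
        rw [comp_appTop_hom, RingHom.comp_apply, appTop_toAff, RingHom.comp_apply, q₂]
        exact RingHom.congr_fun hγ c
      let k : W ⟶ Over.mk (specTo φ₂ ≫ x) := Over.homMk (toAff (U := Spec (CommRingCat.of B₂)) (γ.comp ι₂.hom.hom)) (by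
        show toAff (γ.comp ι₂.hom.hom) ≫ specTo φ₂ ≫ x = W.hom
        rw [reassoc_of% hk']
        exact Over.w l)
      have e : k ≫ l₂ = l := Over.OverMorphism.ext hk'
      have h := fam_comp p x hz k l₂ h₂ e hl n
      refine Eq.trans ?_ h.symm
      rw [← hk']
      show (k.left ≫ specTo φ₂).appTop.hom (a n) = k.left.appTop.hom _
      rw [comp_appTop_hom, RingHom.comp_apply]
      refine congrArg k.left.appTop.hom (ι₂.commRingCatIsoToRingEquiv.injective ?_)
      show ι₂.hom.hom _ = ι₂.hom.hom _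
      rw [q₂]
      exact (hab n).2
  · refine Subtype.ext (hu s.1 ⟨s.2, fun n => ⟨?_, ?_⟩⟩)
    · rw [← q₁]
      exact congrArg ι₁.hom.hom (congrFun (congrArg Subtype.val (hs l₁ h₁)) n)
    · rw [← q₂]
      exact congrArg ι₂.hom.hom (congrFun (congrArg Subtype.val (hs l₂ h₂)) n)

/-- fpqc coverings are sheaf sieves. -/
theorem fpqc_le_descTop : Scheme.fpqcTopology ≤ descTop (HTop.frobLimPresheaf p S) := by
  intro X R hR X' f x Z k
  rw [overSieve_pullback, ← Sieve.pullback_comp]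
  have hR' := Scheme.fpqcTopology.pullback_stable (k.left ≫ f) hR
  generalize R.pullback (k.left ≫ f) = R' at hR'
  revert hR'
  show R' ∈ Scheme.fpqcTopology Z.left →
    Presieve.IsSheafFor (HTop.frobLimPresheaf p S) (overSieve Z.hom R' : Presieve (Over.mk Z.hom))
  intro hR' z hz
  let o : ∀ {W : Scheme.{u}} (l : W ⟶ Z.left), Over.mk (l ≫ Z.hom) ⟶ Over.mk Z.hom :=
    fun l => Over.homMk l rfl
  let y : ℕ → ∀ ⦃W : Scheme.{u}⦄ (l : W ⟶ Z.left), R' l → Γ(W, ⊤) := fun n W l hl =>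
    (z (o l) ((Sieve.overEquiv_symm_iff _ _).2 hl)).1 n
  have hy : ∀ n, ∀ ⦃W W' : Scheme.{u}⦄ (b : W' ⟶ W) (l : W ⟶ Z.left) (hl : R' l),
      y n (b ≫ l) (R'.downward_closed hl b) = b.appTop.hom (y n l hl) := fun n W W' b l hl => by
    let bb : Over.mk ((b ≫ l) ≫ Z.hom) ⟶ Over.mk (l ≫ Z.hom) := Over.homMk b (Category.assoc _ _ _).symm
    have e : o (b ≫ l) = bb ≫ o l := Over.OverMorphism.ext rfl
    exact fam_comp p Z.hom hz bb (o l) _ e.symm _ n
  choose a ha hu using fun n => existsUnique_section hR' (y n) (hy n)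
  have hyz : ∀ n (W : Over S) (l : W ⟶ Over.mk Z.hom) (hl : overSieve Z.hom R' l),
      y n l.left ((Sieve.overEquiv_symm_iff _ _).1 hl) = (z l hl).1 n := by
    intro n W l hl
    let c : W ⟶ Over.mk (l.left ≫ Z.hom) := Over.homMk (𝟙 _) ((Category.id_comp _).trans (Over.w l))
    have e : c ≫ o l.left = l := Over.OverMorphism.ext (Category.id_comp _)
    have h := fam_comp p Z.hom hz c (o l.left) ((Sieve.overEquiv_symm_iff _ _).2
      ((Sieve.overEquiv_symm_iff _ _).1 hl)) e hl n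
    refine Eq.trans ?_ h.symm
    show y n l.left ((Sieve.overEquiv_symm_iff _ _).1 hl) = (𝟙 W.left : W.left ⟶ W.left).appTop.hom _
    rw [Scheme.Hom.id_appTop]
    rfl
  refine ⟨⟨a, fun n => ?_⟩, fun W l hl => Subtype.ext (funext fun n => ?_), fun s hs =>
    Subtype.ext (funext fun n => ?_)⟩
  · refine hu n _ fun W l hl => ?_
    rw [map_pow, ha _ l hl]
    exact (z (o l) _).2 n
  · show l.left.appTop.hom (a n) = _
    rw [ha n l.left ((Sieve.overEquiv_symm_iff _ _).1 hl), hyz n W l hl]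
  · refine hu n _ fun W l hl => ?_
    exact congrFun (congrArg Subtype.val (hs (o l) ((Sieve.overEquiv_symm_iff _ _).2 hl))) n

/-- Morphisms along which one of two functions divides the other. -/
def dvdSieve {X : Scheme.{u}} (a b : Γ(X, ⊤)) : Sieve X where
  arrows W := fun l => l.appTop.hom a ∣ l.appTop.hom b ∨ l.appTop.hom b ∣ l.appTop.hom a
  downward_closed {W W'} l hl g := by
    rw [comp_appTop_hom, RingHom.comp_apply, RingHom.comp_apply]
    exact hl.imp (map_dvd _) (map_dvd _)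

theorem dvdSieve_pullback {X U : Scheme.{u}} (f : U ⟶ X) (a b : Γ(X, ⊤)) :
    (dvdSieve a b).pullback f = dvdSieve (f.appTop.hom a) (f.appTop.hom b) := by
  ext W l
  show _ ∨ _ ↔ _ ∨ _
  rw [comp_appTop_hom]
  exact Iff.rfl

/-- Morphisms along which a function or an ideal vanishes. -/
def torsSieve {X : Scheme.{u}} (I : Ideal Γ(X, ⊤)) (a : Γ(X, ⊤)) : Sieve X where
  arrows W := fun l => I ≤ RingHom.ker l.appTop.hom ∨ l.appTop.hom a = 0
  downward_closed {W W'} l hl g := by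
    rw [comp_appTop_hom]
    refine hl.imp (fun h i hi => ?_) fun h => ?_
    · rw [RingHom.mem_ker, RingHom.comp_apply, RingHom.mem_ker.1 (h hi), map_zero]
    · rw [RingHom.comp_apply, h, map_zero]

theorem torsSieve_pullback {X U : Scheme.{u}} (f : U ⟶ X) (I : Ideal Γ(X, ⊤)) (a : Γ(X, ⊤)) :
    (torsSieve I a).pullback f = torsSieve (I.map f.appTop.hom) (f.appTop.hom a) := by
  ext W l
  show _ ∨ _ ↔ _ ∨ _
  rw [comp_appTop_hom, Ideal.map_le_iff_le_comap, RingHom.comap_ker]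
  exact Iff.rfl

theorem appTop_eval {U W : Scheme.{u}} [IsAffine U] {B : Type u} [CommRing B] (φ : Γ(U, ⊤) →+* B)
    (a : Γ(U, ⊤)) : (Scheme.ΓSpecIso (CommRingCat.of B)).hom.hom ((specTo φ).appTop.hom a) = φ a := by
  rw [specTo, appTop_toAff]
  exact (Scheme.ΓSpecIso (CommRingCat.of B)).inv_hom_id_apply _

section Laurent

open LaurentPolynomial
open scoped LaurentPolynomial

variable {A : Type u} [CommRing A]

/-- Polynomials in the inverse variable. -/
noncomputable def invPoly : Polynomial A →+* A[T;T⁻¹] :=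
  (LaurentPolynomial.invert (R := A)).toAlgHom.toRingHom.comp Polynomial.toLaurent

theorem invPoly_C (a : A) : invPoly (Polynomial.C a) = C a := by
  simp [invPoly]

theorem invPoly_X : invPoly (Polynomial.X : Polynomial A) = T (-1) := by
  simp [invPoly]

theorem coeff_toLaurent_natCast (f : Polynomial A) (n : ℕ) :
    (Polynomial.toLaurent f).coeff (n : ℤ) = f.coeff n := by
  rw [coeff_toLaurent]
  exact Finsupp.mapDomain_apply Nat.castEmbedding.injective _ _

theorem coeff_toLaurent_negSucc (f : Polynomial A) (n : ℕ) :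
    (Polynomial.toLaurent f).coeff (-((n + 1 : ℕ) : ℤ)) = 0 := by
  rw [coeff_toLaurent]
  refine Finsupp.mapDomain_notin_range _ _ ?_
  rintro ⟨k, hk⟩
  have : (k : ℤ) = -((n + 1 : ℕ) : ℤ) := hk
  omega

/-- An element which is a polynomial in the variable and in its inverse is constant. -/
theorem eq_C_of_toLaurent_eq_invPoly {a b : Polynomial A} (h : Polynomial.toLaurent a = invPoly b) :
    a = Polynomial.C (a.coeff 0) ∧ b = Polynomial.C (a.coeff 0) := by
  have hc : ∀ k : ℤ, (Polynomial.toLaurent a).coeff k = (Polynomial.toLaurent b).coeff (-k) := fun k => by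
    rw [h]
    simp [invPoly]
  constructor
  · ext n
    rcases n with _ | n
    · simp
    · rw [Polynomial.coeff_C_succ, ← coeff_toLaurent_natCast, hc, coeff_toLaurent_negSucc]
  · ext n
    rcases n with _ | n
    · rw [Polynomial.coeff_C_zero, ← coeff_toLaurent_natCast, ← coeff_toLaurent_natCast, hc]
      simp
    · have h := hc (-((n + 1 : ℕ) : ℤ))
      rw [coeff_toLaurent_negSucc, neg_neg, coeff_toLaurent_natCast] at h
      rw [Polynomial.coeff_C_succ]
      exact h.symm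

theorem exists_split (H : A[T;T⁻¹]) : ∃ P Q : Polynomial A,
    Polynomial.toLaurent P + invPoly (Polynomial.X * Q) = H := by
  induction H using LaurentPolynomial.induction_on' with
  | add H H' h h' =>
    obtain ⟨P, Q, rfl⟩ := h
    obtain ⟨P', Q', rfl⟩ := h'
    exact ⟨P + P', Q + Q', by rw [map_add, mul_add, map_add]; ring⟩
  | C_mul_T n a =>
    rcases n with k | k
    · exact ⟨Polynomial.C a * Polynomial.X ^ k, 0, by simp⟩
    · refine ⟨0, Polynomial.C a * Polynomial.X ^ k, ?_⟩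
      rw [map_zero, zero_add, map_mul, map_mul, map_pow, invPoly_C, invPoly_X, T_pow,
        mul_left_comm, ← T_add, Int.negSucc_eq]
      congr 2
      ring

/-- Descent along the two charts of the blow up in two elements. -/
theorem exists_glue_charts (a b : A) (P Q : Polynomial A)
    (h : Polynomial.toLaurent P - invPoly Q ∈
      Ideal.span ({C b - T 1 * C a} : Set A[T;T⁻¹])) :
    ∃ c : A, P - Polynomial.C c ∈ Ideal.span {Polynomial.C b - Polynomial.X * Polynomial.C a} ∧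
      Q - Polynomial.C c ∈ Ideal.span {Polynomial.C a - Polynomial.X * Polynomial.C b} := by
  obtain ⟨H, hH⟩ := Ideal.mem_span_singleton'.1 h
  obtain ⟨H₁, H₂, rfl⟩ := exists_split H
  let P' := P - (Polynomial.C b - Polynomial.X * Polynomial.C a) * H₁
  let Q' := Q - (Polynomial.C a - Polynomial.X * Polynomial.C b) * H₂
  have he : Polynomial.toLaurent P' = invPoly Q' := by
    have hT : (T 1 : A[T;T⁻¹]) * T (-1) = 1 := by rw [← T_add, add_neg_cancel, T_zero]
    simp only [P', Q', map_sub, map_mul, Polynomial.toLaurent_C, Polynomial.toLaurent_X, invPoly_C,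
      invPoly_X] at hH ⊢
    linear_combination -hH - C a * invPoly H₂ * hT
  obtain ⟨h₁, h₂⟩ := eq_C_of_toLaurent_eq_invPoly he
  refine ⟨P'.coeff 0, ?_, ?_⟩
  · rw [← h₁]
    exact Ideal.mem_span_singleton'.2 ⟨H₁, by simp only [P']; ring⟩
  · rw [← h₂]
    exact Ideal.mem_span_singleton'.2 ⟨H₂, by simp only [Q']; ring⟩

/-- Constants vanishing on both charts square to zero. -/
theorem sq_eq_zero_of_charts (a b d : A)
    (h₁ : Polynomial.C d ∈ Ideal.span {Polynomial.C b - Polynomial.X * Polynomial.C a})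
    (h₂ : Polynomial.C d ∈ Ideal.span {Polynomial.C a - Polynomial.X * Polynomial.C b}) :
    d * d = 0 := by
  obtain ⟨H, hH⟩ := Ideal.mem_span_singleton'.1 h₁
  obtain ⟨K, hK⟩ := Ideal.mem_span_singleton'.1 h₂
  have hT : (T 1 : A[T;T⁻¹]) * T (-1) = 1 := by rw [← T_add, add_neg_cancel, T_zero]
  have e₁ := congrArg (Polynomial.toLaurent (R := A)) hH
  have e₂ := congrArg (invPoly (A := A)) hK
  have he : Polynomial.toLaurent (Polynomial.C d * H) = invPoly (Polynomial.C d * (-Polynomial.X * K)) := by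
    simp only [map_mul, map_sub, map_neg, Polynomial.toLaurent_C, Polynomial.toLaurent_X, invPoly_C,
      invPoly_X] at e₁ e₂ ⊢
    linear_combination -(T (-1) * invPoly K) * e₁ - Polynomial.toLaurent H * e₂
      - (Polynomial.toLaurent H * invPoly K * C a) * hT
  obtain ⟨g₁, g₂⟩ := eq_C_of_toLaurent_eq_invPoly he
  have h0 : (Polynomial.C d * H).coeff 0 = 0 := by
    have := congrArg (fun q => Polynomial.coeff q 0) g₂
    simp only [mul_assoc, Polynomial.coeff_C_mul, neg_mul, Polynomial.coeff_neg,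
      Polynomial.coeff_X_mul_zero, neg_zero, mul_zero, Polynomial.coeff_C_zero] at this
    rw [Polynomial.coeff_C_mul]
    exact this.symm
  rw [h0, map_zero] at g₁
  have h2 : Polynomial.C (d * d) = 0 := by
    rw [map_mul]
    nth_rewrite 2 [← hH]
    rw [← mul_assoc, g₁, zero_mul]
  exact Polynomial.C_eq_zero.1 h2

/-- A ring map out of a chart. -/
theorem exists_blowChart_hom {R : Type u} [CommRing R] (φ : A →+* R) (a b : A) (h : φ a ∣ φ b) :
    ∃ γ : (Polynomial A ⧸ Ideal.span {Polynomial.C b - Polynomial.X * Polynomial.C a}) →+* R,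
      γ.comp ((Ideal.Quotient.mk _).comp Polynomial.C) = φ := by
  obtain ⟨v, hv⟩ := h
  refine ⟨Ideal.Quotient.lift _ (Polynomial.eval₂RingHom φ v) ?_, RingHom.ext fun z => ?_⟩
  · intro q hq
    obtain ⟨r, rfl⟩ := Ideal.mem_span_singleton'.1 hq
    simp only [map_mul, map_sub, Polynomial.coe_eval₂RingHom, Polynomial.eval₂_C, Polynomial.eval₂_X]
    rw [hv]; ring
  · exact Polynomial.eval₂_C _ _

end Laurent

section Pair

/-- Sieves generated by two affine schemes with the lifting property are sheaf sieves for `F`. -/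
def PairHyp (p : ℕ) {S : Scheme.{u}} (F : (Over S)ᵒᵖ ⥤ Type w) : Prop :=
  ∀ {U : Scheme.{u}} [IsAffine U] (x : U ⟶ S) (R : Sieve U) {B₁ B₂ T : Type u} [CommRing B₁]
    [CommRing B₂] [CommRing T] (φ₁ : Γ(U, ⊤) →+* B₁) (φ₂ : Γ(U, ⊤) →+* B₂) (e₁ : B₁ →+* T) (e₂ : B₂ →+* T),
    e₁.comp φ₁ = e₂.comp φ₂ → R (specTo φ₁) → R (specTo φ₂) →
    (∀ ⦃W : Scheme.{u}⦄ (l : W ⟶ U), R l → (∃ γ : B₁ →+* Γ(W, ⊤), γ.comp φ₁ = l.appTop.hom) ∨
      ∃ γ : B₂ →+* Γ(W, ⊤), γ.comp φ₂ = l.appTop.hom) →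
    (∃ m, ∀ d, φ₁ d = 0 → φ₂ d = 0 → d ^ p ^ m = 0) →
    (∀ b₁ b₂, e₁ b₁ = e₂ b₂ → ∃ c, φ₁ c = b₁ ∧ φ₂ c = b₂) →
      Presieve.IsSheafFor F (overSieve x R : Presieve (Over.mk x))

variable {p} [hp : Fact p.Prime] {F : (Over S)ᵒᵖ ⥤ Type w} (hpair : PairHyp p F)
include hpair

open scoped LaurentPolynomial in
theorem isSheafFor_dvdSieve {U : Scheme.{u}} [IsAffine U] (x : U ⟶ S) (a b : Γ(U, ⊤)) :
    Presieve.IsSheafFor F (overSieve x (dvdSieve a b) : Presieve (Over.mk x)) := by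
  let J₁ := Ideal.span {Polynomial.C b - Polynomial.X * Polynomial.C a}
  let J₂ := Ideal.span {Polynomial.C a - Polynomial.X * Polynomial.C b}
  let JL := Ideal.span ({LaurentPolynomial.C b - LaurentPolynomial.T 1 * LaurentPolynomial.C a} :
    Set Γ(U, ⊤)[T;T⁻¹])
  let φ₁ : Γ(U, ⊤) →+* Polynomial Γ(U, ⊤) ⧸ J₁ := (Ideal.Quotient.mk J₁).comp Polynomial.C
  let φ₂ : Γ(U, ⊤) →+* Polynomial Γ(U, ⊤) ⧸ J₂ := (Ideal.Quotient.mk J₂).comp Polynomial.C
  have hX₁ : φ₁ a ∣ φ₁ b := ⟨Ideal.Quotient.mk J₁ Polynomial.X, by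
    simp only [φ₁, RingHom.comp_apply]
    rw [← map_mul, mul_comm, Ideal.Quotient.mk_eq_mk_iff_sub_mem]
    exact Ideal.subset_span rfl⟩
  have hX₂ : φ₂ b ∣ φ₂ a := ⟨Ideal.Quotient.mk J₂ Polynomial.X, by
    simp only [φ₂, RingHom.comp_apply]
    rw [← map_mul, mul_comm, Ideal.Quotient.mk_eq_mk_iff_sub_mem]
    exact Ideal.subset_span rfl⟩
  let e₁ : Polynomial Γ(U, ⊤) ⧸ J₁ →+* Γ(U, ⊤)[T;T⁻¹] ⧸ JL :=
    Ideal.Quotient.lift J₁ ((Ideal.Quotient.mk JL).comp Polynomial.toLaurent) fun q hq => by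
      obtain ⟨r, rfl⟩ := Ideal.mem_span_singleton'.1 hq
      rw [RingHom.comp_apply, Ideal.Quotient.eq_zero_iff_mem, map_mul]
      refine Ideal.mul_mem_left _ _ ?_
      simp only [map_sub, map_mul, Polynomial.toLaurent_C, Polynomial.toLaurent_X]
      exact Ideal.subset_span rfl
  let e₂ : Polynomial Γ(U, ⊤) ⧸ J₂ →+* Γ(U, ⊤)[T;T⁻¹] ⧸ JL :=
    Ideal.Quotient.lift J₂ ((Ideal.Quotient.mk JL).comp invPoly) fun q hq => by
      obtain ⟨r, rfl⟩ := Ideal.mem_span_singleton'.1 hq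
      rw [RingHom.comp_apply, Ideal.Quotient.eq_zero_iff_mem, map_mul]
      refine Ideal.mul_mem_left _ _ (Ideal.mem_span_singleton'.2 ⟨-LaurentPolynomial.T (-1), ?_⟩)
      have hT : (LaurentPolynomial.T 1 : Γ(U, ⊤)[T;T⁻¹]) * LaurentPolynomial.T (-1) = 1 := by
        rw [← LaurentPolynomial.T_add, add_neg_cancel, LaurentPolynomial.T_zero]
      simp only [map_sub, map_mul, invPoly_C, invPoly_X]
      linear_combination LaurentPolynomial.C a * hT
  refine hpair x _ φ₁ φ₂ e₁ e₂ ?_ ?_ ?_ ?_ ⟨1, fun d h₁ h₂ => ?_⟩ ?_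
  · refine RingHom.ext fun c => ?_
    show Ideal.Quotient.mk JL (Polynomial.toLaurent (Polynomial.C c)) =
      Ideal.Quotient.mk JL (invPoly (Polynomial.C c))
    rw [Polynomial.toLaurent_C, invPoly_C]
  · left
    have h := map_dvd (Scheme.ΓSpecIso (CommRingCat.of (Polynomial Γ(U, ⊤) ⧸ J₁))).inv.hom hX₁
    rw [specTo, appTop_toAff]
    exact h
  · right
    have h := map_dvd (Scheme.ΓSpecIso (CommRingCat.of (Polynomial Γ(U, ⊤) ⧸ J₂))).inv.hom hX₂
    rw [specTo, appTop_toAff]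
    exact h
  · exact fun W l hl => hl.imp (exists_blowChart_hom l.appTop.hom a b) (exists_blowChart_hom l.appTop.hom b a)
  · have := sq_eq_zero_of_charts a b d (Ideal.Quotient.eq_zero_iff_mem.1 h₁)
      (Ideal.Quotient.eq_zero_iff_mem.1 h₂)
    rw [pow_one]
    exact pow_eq_zero_of_le hp.out.two_le (by rw [pow_two]; exact this)
  · intro b₁ b₂ hb
    obtain ⟨P, rfl⟩ := Ideal.Quotient.mk_surjective b₁
    obtain ⟨Q, rfl⟩ := Ideal.Quotient.mk_surjective b₂
    obtain ⟨c, hc₁, hc₂⟩ := exists_glue_charts a b P Q (Ideal.Quotient.eq.1 hb)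
    exact ⟨c, (Ideal.Quotient.eq.2 hc₁).symm, (Ideal.Quotient.eq.2 hc₂).symm⟩

theorem isSheafFor_torsSieve {U : Scheme.{u}} [IsAffine U] (x : U ⟶ S) (I : Ideal Γ(U, ⊤))
    (a : Γ(U, ⊤)) {N : ℕ} (hN : ∀ i ∈ I, a ^ N * i = 0) :
    Presieve.IsSheafFor F (overSieve x (torsSieve I a) : Presieve (Over.mk x)) := by
  let e₁ : Γ(U, ⊤) ⧸ I →+* Γ(U, ⊤) ⧸ (I ⊔ Ideal.span {a}) := Ideal.Quotient.factor le_sup_left
  let e₂ : Γ(U, ⊤) ⧸ Ideal.span {a} →+* Γ(U, ⊤) ⧸ (I ⊔ Ideal.span {a}) :=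
    Ideal.Quotient.factor le_sup_right
  refine hpair x _ (Ideal.Quotient.mk I) (Ideal.Quotient.mk (Ideal.span {a}))
    e₁ e₂ rfl ?_ ?_ ?_ ⟨N + 1, fun d h₁ h₂ => ?_⟩ ?_
  · left
    intro i hi
    rw [RingHom.mem_ker, specTo, appTop_toAff, RingHom.comp_apply, Ideal.Quotient.eq_zero_iff_mem.2 hi]
    exact map_zero _
  · right
    rw [specTo, appTop_toAff, RingHom.comp_apply,
      Ideal.Quotient.eq_zero_iff_mem.2 (Ideal.mem_span_singleton_self a)]
    exact map_zero _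
  · rintro W l (h | h)
    · exact Or.inl ⟨Ideal.Quotient.lift I l.appTop.hom h, rfl⟩
    · refine Or.inr ⟨Ideal.Quotient.lift _ l.appTop.hom fun i hi => ?_, rfl⟩
      obtain ⟨c, rfl⟩ := Ideal.mem_span_singleton'.1 hi
      rw [map_mul, h, mul_zero]
  · have hd := hN d (Ideal.Quotient.eq_zero_iff_mem.1 h₁)
    obtain ⟨c, hc⟩ := Ideal.mem_span_singleton'.1 (Ideal.Quotient.eq_zero_iff_mem.1 h₂)
    refine pow_eq_zero_of_le (Nat.lt_pow_self hp.out.one_lt).le ?_
    calc d ^ (N + 1) = c ^ N * (a ^ N * d) := by rw [pow_succ, ← mul_assoc, ← mul_pow, hc]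
      _ = 0 := by rw [hd, mul_zero]
  · intro b₁ b₂ hb
    obtain ⟨c₁, rfl⟩ := Ideal.Quotient.mk_surjective b₁
    obtain ⟨c₂, rfl⟩ := Ideal.Quotient.mk_surjective b₂
    obtain ⟨i, hi, r, hr, hir⟩ := Submodule.mem_sup.1 (Ideal.Quotient.eq.1 hb)
    refine ⟨c₁ - i, Ideal.Quotient.eq.2 ?_, Ideal.Quotient.eq.2 ?_⟩
    · rw [show c₁ - i - c₁ = -i by ring]
      exact neg_mem hi
    · rw [show c₁ - i - c₂ = r by linear_combination -hir]
      exact hr

variable (hz : Presieve.IsSheaf (Scheme.zariskiTopology.over S) F)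
include hz

/-- The axiom about two elements. -/
theorem dvd_mem_descTop (A : CommRingCat.{u}) (f g : A) (R : Sieve (Spec A))
    (hR : ∀ (B : CommRingCat.{u}) (φ : A ⟶ B), (φ.hom f ∣ φ.hom g ∨ φ.hom g ∣ φ.hom f) → R (Spec.map φ)) :
    R ∈ descTop F (Spec A) := by
  let ι := (Scheme.ΓSpecIso A).inv.hom
  have hd : dvdSieve (ι f) (ι g) ∈ descTop (F) (Spec A) := by
    refine mem_descTop_of_affine (S := S) ?_ fun U l x hU => ?_
    · exact hz
    · rw [dvdSieve_pullback]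
      exact isSheafFor_dvdSieve hpair x _ _
  refine (descTop _).superset_covering (fun W l hl => ?_) hd
  have hl' : l = W.toSpecΓ ≫ Spec.map ((Scheme.ΓSpecIso A).inv ≫ l.appTop) := by
    refine hom_ext_appTop (congrArg CommRingCat.Hom.hom ?_)
    rw [Scheme.Hom.comp_appTop, Scheme.toSpecΓ_appTop, Scheme.ΓSpecIso_naturality, Iso.hom_inv_id_assoc]
  rw [hl']
  exact R.downward_closed (hR _ ((Scheme.ΓSpecIso A).inv ≫ l.appTop) hl) _

/-- The axiom about torsion. -/
theorem torsion_mem_descTop (A : CommRingCat.{u}) [IsNoetherianRing A] (f : A) (I : Ideal A)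
    (hI : ∀ k ∈ I, ∃ n : ℕ, f ^ n * k = 0) (R : Sieve (Spec A))
    (h1 : R.pullback (Spec.map (CommRingCat.ofHom (Ideal.Quotient.mk I))) ∈ descTop F _)
    (h2 : R.pullback (Spec.map (CommRingCat.ofHom (Ideal.Quotient.mk (Ideal.span {f})))) ∈ descTop F _) :
    R ∈ descTop F (Spec A) := by
  let ι := (Scheme.ΓSpecIso A).inv.hom
  obtain ⟨N, hN⟩ : ∃ N, ∀ i ∈ I, f ^ N * i = 0 := by
    classical
    obtain ⟨G, hG⟩ := IsNoetherian.noetherian I
    choose n hn using fun i : G => hI i.1 (hG ▸ Ideal.subset_span i.2)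
    refine ⟨Finset.univ.sup n, fun i hi => ?_⟩
    rw [← hG] at hi
    induction hi using Submodule.span_induction with
    | mem i hi =>
      obtain ⟨k, hk⟩ := Nat.exists_eq_add_of_le (Finset.le_sup (f := n) (Finset.mem_univ (⟨i, hi⟩ : G)))
      rw [hk, add_comm, pow_add, mul_assoc]
      exact mul_eq_zero_of_right _ (hn ⟨i, hi⟩)
    | zero => rw [mul_zero]
    | add i j _ _ hi hj => rw [mul_add, hi, hj, add_zero]
    | smul c i _ hi => rw [smul_eq_mul, mul_left_comm, hi, mul_zero]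
  have hd : torsSieve (I.map ι) (ι f) ∈ descTop (F) (Spec A) := by
    refine mem_descTop_of_affine (S := S) ?_ fun U l x hU => ?_
    · exact hz
    · rw [torsSieve_pullback, Ideal.map_map]
      refine isSheafFor_torsSieve hpair x _ _ (N := N) fun i hi => ?_
      induction hi using Submodule.span_induction with
      | mem i hi =>
        obtain ⟨j, hj, rfl⟩ := hi
        rw [← map_pow, RingHom.comp_apply, ← map_mul, ← map_pow, ← map_mul, hN j hj, map_zero, map_zero]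
      | zero => rw [mul_zero]
      | add i j _ _ hi hj => rw [mul_add, hi, hj, add_zero]
      | smul c i _ hi => rw [smul_eq_mul, mul_left_comm, hi, mul_zero]
  refine (descTop _).transitive hd R fun W l hl => ?_
  have hl' : l = W.toSpecΓ ≫ Spec.map ((Scheme.ΓSpecIso A).inv ≫ l.appTop) := by
    refine hom_ext_appTop (congrArg CommRingCat.Hom.hom ?_)
    rw [Scheme.Hom.comp_appTop, Scheme.toSpecΓ_appTop, Scheme.ΓSpecIso_naturality, Iso.hom_inv_id_assoc]
  rw [hl', Sieve.pullback_comp]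
  refine (descTop _).pullback_stable _ ?_
  rcases hl with h | h
  · refine pullback_mem_of_fac R _ _ (CommRingCat.ofHom (Ideal.Quotient.lift I
      (l.appTop.hom.comp ι) fun i hi => h (Ideal.mem_map_of_mem ι hi))) rfl h1
  · refine pullback_mem_of_fac R _ _ (CommRingCat.ofHom (Ideal.Quotient.lift (Ideal.span {f})
      (l.appTop.hom.comp ι) fun i hi => ?_)) rfl h2
    obtain ⟨c, rfl⟩ := Ideal.mem_span_singleton'.1 hi
    rw [map_mul, RingHom.comp_apply _ _ f, h, mul_zero]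


end Pair

section Lim

variable {p} [hp : Fact p.Prime] (hS : (p : Γ(S, ⊤)) = 0)
include hS

theorem pairHyp_frobLim : PairHyp p (HTop.frobLimPresheaf p S) :=
  @fun U hU x R B₁ B₂ T i₁ i₂ i₃ φ₁ φ₂ e₁ e₂ => isSheafFor_pairSieve p hS x R φ₁ φ₂ e₁ e₂

omit hp hS in
theorem isSheaf_zariski_frobLim :
    Presieve.IsSheaf (Scheme.zariskiTopology.over S) (HTop.frobLimPresheaf p S) := by
  intro Y Q hQ
  have h := fpqc_le_descTop (S := S) p _ (Scheme.zariskiTopology_le_fpqcTopology _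
    ((GrothendieckTopology.mem_over_iff _ Q).1 hQ))
  have := isSheafFor_of_mem_descTop h Y.hom
  rwa [show overSieve Y.hom (Sieve.overEquiv Y Q) = Q from
    (Sieve.overEquiv Y).symm_apply_apply Q] at this

/-- The axioms. -/
theorem devissageAxioms_frobLim : DevissageAxioms (descTop (HTop.frobLimPresheaf p S)) where
  zariski := Scheme.zariskiTopology_le_fpqcTopology.trans (fpqc_le_descTop p)
  free A B φ hfin hflat _ hinj := by
    have : IsFinite (Spec.map φ) := (IsFinite.SpecMap_iff φ).2 hfin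
    have : Flat (Spec.map φ) := HasRingHomProperty.Spec_iff.2 hflat
    have : Surjective (Spec.map φ) := ⟨(hfin.to_isIntegral).comap_surjective hinj⟩
    exact fpqc_le_descTop p _
      (Precoverage.generate_mem_toGrothendieck (Spec.map φ).singleton_mem_fpqcPrecoverage)
  dvd := dvd_mem_descTop (pairHyp_frobLim hS) isSheaf_zariski_frobLim
  torsion := torsion_mem_descTop (pairHyp_frobLim hS) isSheaf_zariski_frobLim

theorem isSheaf_jh_frobLim : Presieve.IsSheaf (HTop.Jh S) (HTop.frobLimPresheaf p S) :=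
  isSheaf_jh_of_axioms (devissageAxioms_frobLim hS)

end Lim

end Groth.Agent.HTop50
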