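import Groth.Agent.HTop50.FrobColimBasic
import Groth.Agent.HTop50.FrobLim

/-! The colimit of functions along Frobenius, sheafified, is an h sheaf. -/

set_option autoImplicit false
set_option linter.style.haveILetI false
set_option maxHeartbeats 800000

universe u

open CategoryTheory CategoryTheory.Limits AlgebraicGeometry Opposite

namespace Groth.Agent.HTop50

open HTop

variable {p : ℕ} [hp : Fact p.Prime] {S : Scheme.{u}} (hS : (p : Γ(S, ⊤)) = 0)
include hS

omit hp hS in
/-- The unit on a representative and a restriction. -/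
theorem frobColimUnit_map {X Y : Over S} (f : Y ⟶ X) (n : ℕ) (a : Γ(X.left, ⊤)) :
    (frobColimSh p S).map f.op ((frobColimUnit p S).app (op X)
        (ULift.up.{u + 1} (FrobColimSections.mk p n a) : ULift.{u + 1} _)) =
      (frobColimUnit p S).app (op Y)
        (ULift.up.{u + 1} (FrobColimSections.mk p n (f.left.appTop.hom a)) : ULift.{u + 1} _) :=
  (NatTrans.naturality_apply (frobColimUnit p S) f.op _).symm

omit hp hS in
theorem frobColimUnit_inj_mk {X : Over S} [CompactSpace X.left] {n n' : ℕ} {a a' : Γ(X.left, ⊤)}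
    (h : (frobColimUnit p S).app (op X) (ULift.up.{u + 1} (FrobColimSections.mk p n a) : ULift.{u + 1} _) =
      (frobColimUnit p S).app (op X) (ULift.up.{u + 1} (FrobColimSections.mk p n' a') : ULift.{u + 1} _)) :
    FrobColimSections.mk p n a = FrobColimSections.mk p n' a' :=
  congrArg ULift.down (frobColimUnit_injective X h)

omit hp hS in
theorem frobColimUnit_exists_rep {X : Over S} [CompactSpace X.left] [QuasiSeparatedSpace X.left]
    (s : (frobColimSh p S).obj (op X)) :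
    ∃ n a, (frobColimUnit p S).app (op X)
      (ULift.up.{u + 1} (FrobColimSections.mk p n a) : ULift.{u + 1} _) = s := by
  obtain ⟨⟨v⟩, rfl⟩ := (frobColimUnit_bijective X).2 s
  obtain ⟨n, a, rfl⟩ := frobColim_exists_rep p v
  exact ⟨n, a, rfl⟩

theorem pairHyp_frobColim : PairHyp p (frobColimSh p S) := by
  intro U _ x R B₁ B₂ T _ _ _ φ₁ φ₂ e₁ e₂ he hR₁ hR₂ hfac hker hlift z hz
  obtain ⟨m, hm⟩ := hker
  let ι₁ := (Scheme.ΓSpecIso (CommRingCat.of B₁))
  let ι₂ := (Scheme.ΓSpecIso (CommRingCat.of B₂))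
  let ιT := (Scheme.ΓSpecIso (CommRingCat.of T))
  let W₁ : Over S := Over.mk (specTo (U := U) φ₁ ≫ x)
  let W₂ : Over S := Over.mk (specTo (U := U) φ₂ ≫ x)
  have : IsAffine W₁.left := inferInstanceAs (IsAffine (Spec _))
  have : IsAffine W₂.left := inferInstanceAs (IsAffine (Spec _))
  let l₁ : W₁ ⟶ Over.mk x := Over.homMk (specTo (U := U) φ₁) rfl
  let l₂ : W₂ ⟶ Over.mk x := Over.homMk (specTo (U := U) φ₂) rfl
  have h₁ : overSieve x R l₁ := (Sieve.overEquiv_symm_iff _ _).2 hR₁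
  have h₂ : overSieve x R l₂ := (Sieve.overEquiv_symm_iff _ _).2 hR₂
  let r₁ : Spec (CommRingCat.of T) ⟶ Spec (CommRingCat.of B₁) := Spec.map (CommRingCat.ofHom e₁)
  let r₂ : Spec (CommRingCat.of T) ⟶ Spec (CommRingCat.of B₂) := Spec.map (CommRingCat.ofHom e₂)
  have nat₁ : ∀ b, ιT.hom.hom (r₁.appTop.hom b) = e₁ (ι₁.hom.hom b) :=
    RingHom.congr_fun (congrArg CommRingCat.Hom.hom (Scheme.ΓSpecIso_naturality (CommRingCat.ofHom e₁)))
  have nat₂ : ∀ b, ιT.hom.hom (r₂.appTop.hom b) = e₂ (ι₂.hom.hom b) :=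
    RingHom.congr_fun (congrArg CommRingCat.Hom.hom (Scheme.ΓSpecIso_naturality (CommRingCat.ofHom e₂)))
  have q₁ : ∀ a, ι₁.hom.hom ((specTo φ₁).appTop.hom a) = φ₁ a := appTop_eval (W := U) φ₁
  have q₂ : ∀ a, ι₂.hom.hom ((specTo φ₂).appTop.hom a) = φ₂ a := appTop_eval (W := U) φ₂
  have hr : r₁ ≫ specTo φ₁ = r₂ ≫ specTo φ₂ := by
    refine hom_ext_appTop (RingHom.ext fun a => ιT.commRingCatIsoToRingEquiv.injective ?_)
    show ιT.hom.hom ((r₁ ≫ specTo φ₁).appTop.hom a) = ιT.hom.hom ((r₂ ≫ specTo φ₂).appTop.hom a)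
    rw [comp_appTop_hom, comp_appTop_hom, RingHom.comp_apply, RingHom.comp_apply, nat₁, nat₂, q₁, q₂]
    exact RingHom.congr_fun he a
  let TT : Over S := Over.mk (r₁ ≫ specTo φ₁ ≫ x)
  have : IsAffine TT.left := inferInstanceAs (IsAffine (Spec _))
  let k₁ : TT ⟶ W₁ := Over.homMk r₁ rfl
  let k₂ : TT ⟶ W₂ := Over.homMk r₂ (by
    show r₂ ≫ specTo φ₂ ≫ x = r₁ ≫ specTo φ₁ ≫ x
    rw [reassoc_of% hr])
  obtain ⟨n₁, a₁, ha₁⟩ := frobColimUnit_exists_rep (z l₁ h₁)
  obtain ⟨n₂, a₂, ha₂⟩ := frobColimUnit_exists_rep (z l₂ h₂)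
  obtain ⟨N, b₁, b₂, hb₁, hb₂⟩ : ∃ (N : ℕ) (b₁ : Γ(W₁.left, ⊤)) (b₂ : Γ(W₂.left, ⊤)),
      FrobColimSections.mk p N b₁ = FrobColimSections.mk p n₁ a₁ ∧
      FrobColimSections.mk p N b₂ = FrobColimSections.mk p n₂ a₂ :=
    ⟨n₁ + n₂, _, a₂ ^ p ^ n₁, (frobColim_mk_raise p n₁ a₁ n₂).symm, by
      rw [add_comm n₁ n₂]; exact (frobColim_mk_raise p n₂ a₂ n₁).symm⟩
  rw [← hb₁] at ha₁
  rw [← hb₂] at ha₂
  have hT : FrobColimSections.mk p N (k₁.left.appTop.hom b₁) = FrobColimSections.mk p N (k₂.left.appTop.hom b₂) := by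
    refine frobColimUnit_inj_mk ?_
    rw [← frobColimUnit_map k₁, ← frobColimUnit_map k₂, ha₁, ha₂]
    exact hz k₁ k₂ h₁ h₂ (Over.OverMorphism.ext hr)
  obtain ⟨k, hk⟩ := frobColim_eq_same_degree p hT
  obtain ⟨c, hc₁, hc₂⟩ := hlift (ι₁.hom.hom b₁ ^ p ^ k) (ι₂.hom.hom b₂ ^ p ^ k) (by
    rw [map_pow, map_pow, ← nat₁, ← nat₂, ← map_pow ιT.hom.hom, ← map_pow ιT.hom.hom]
    exact congrArg ιT.hom.hom hk)
  let s := (frobColimUnit p S).app (op (Over.mk x))
    (ULift.up.{u + 1} (FrobColimSections.mk p (N + k) c) : ULift.{u + 1} _)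
  have hs₁ : (frobColimSh p S).map l₁.op s = z l₁ h₁ := by
    rw [frobColimUnit_map, ← ha₁, frobColim_mk_raise p N b₁ k,
      show l₁.left.appTop.hom c = b₁ ^ p ^ k from ι₁.commRingCatIsoToRingEquiv.injective
        (((q₁ c).trans hc₁).trans (map_pow ι₁.hom.hom b₁ (p ^ k)).symm)]
  have hs₂ : (frobColimSh p S).map l₂.op s = z l₂ h₂ := by
    rw [frobColimUnit_map, ← ha₂, frobColim_mk_raise p N b₂ k,
      show l₂.left.appTop.hom c = b₂ ^ p ^ k from ι₂.commRingCatIsoToRingEquiv.injective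
        (((q₂ c).trans hc₂).trans (map_pow ι₂.hom.hom b₂ (p ^ k)).symm)]
  refine ⟨s, fun W l hl => ?_, fun y hy => ?_⟩
  · rcases hfac l.left ((Sieve.overEquiv_symm_iff _ _).1 hl) with ⟨γ, hγ⟩ | ⟨γ, hγ⟩
    · have hk' : toAff (γ.comp ι₁.hom.hom) ≫ specTo φ₁ = l.left := by
        refine hom_ext_appTop (RingHom.ext fun c => ?_)
        rw [comp_appTop_hom, RingHom.comp_apply, appTop_toAff, RingHom.comp_apply, q₁]
        exact RingHom.congr_fun hγ c
      let b : W ⟶ W₁ := Over.homMk (toAff (U := Spec (CommRingCat.of B₁)) (γ.comp ι₁.hom.hom)) (by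
        show toAff (γ.comp ι₁.hom.hom) ≫ specTo φ₁ ≫ x = W.hom
        rw [reassoc_of% hk']
        exact Over.w l)
      have e : b ≫ l₁ = l := Over.OverMorphism.ext hk'
      have hgen : ∀ (l' : W ⟶ Over.mk x) (hl' : overSieve x R l'), b ≫ l₁ = l' →
          (frobColimSh p S).map l'.op s = z l' hl' := by
        rintro _ hl' rfl
        rw [hz.to_sieveCompatible l₁ b h₁, op_comp, Functor.map_comp_apply]
        exact congrArg _ hs₁
      exact hgen l hl e
    · have hk' : toAff (γ.comp ι₂.hom.hom) ≫ specTo φ₂ = l.left := by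
        refine hom_ext_appTop (RingHom.ext fun c => ?_)
        rw [comp_appTop_hom, RingHom.comp_apply, appTop_toAff, RingHom.comp_apply, q₂]
        exact RingHom.congr_fun hγ c
      let b : W ⟶ W₂ := Over.homMk (toAff (U := Spec (CommRingCat.of B₂)) (γ.comp ι₂.hom.hom)) (by
        show toAff (γ.comp ι₂.hom.hom) ≫ specTo φ₂ ≫ x = W.hom
        rw [reassoc_of% hk']
        exact Over.w l)
      have e : b ≫ l₂ = l := Over.OverMorphism.ext hk'
      have hgen : ∀ (l' : W ⟶ Over.mk x) (hl' : overSieve x R l'), b ≫ l₂ = l' →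
          (frobColimSh p S).map l'.op s = z l' hl' := by
        rintro _ hl' rfl
        rw [hz.to_sieveCompatible l₂ b h₂, op_comp, Functor.map_comp_apply]
        exact congrArg _ hs₂
      exact hgen l hl e
  · have : IsAffine (Over.mk x).left := inferInstanceAs (IsAffine U)
    obtain ⟨n, a, rfl⟩ := frobColimUnit_exists_rep y
    have e₁ : FrobColimSections.mk p n (l₁.left.appTop.hom a) =
        FrobColimSections.mk p (N + k) (l₁.left.appTop.hom c) := by
      refine frobColimUnit_inj_mk ?_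
      rw [← frobColimUnit_map, ← frobColimUnit_map]
      exact (hy l₁ h₁).trans hs₁.symm
    have e₂ : FrobColimSections.mk p n (l₂.left.appTop.hom a) =
        FrobColimSections.mk p (N + k) (l₂.left.appTop.hom c) := by
      refine frobColimUnit_inj_mk ?_
      rw [← frobColimUnit_map, ← frobColimUnit_map]
      exact (hy l₂ h₂).trans hs₂.symm
    rw [frobColim_mk_raise p n _ (N + k), frobColim_mk_raise p (N + k) _ n, add_comm n (N + k),
      ← map_pow, ← map_pow] at e₁ e₂
    obtain ⟨j₁, hj₁⟩ := frobColim_eq_same_degree p e₁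
    obtain ⟨j₂, hj₂⟩ := frobColim_eq_same_degree p e₂
    let A : Γ(U, ⊤) := a ^ p ^ (N + k)
    let C : Γ(U, ⊤) := c ^ p ^ n
    have hjj₁ := frobColim_pow_of_le p (Nat.le_add_right j₁ j₂) hj₁
    have hjj₂ := frobColim_pow_of_le p (Nat.le_add_left j₂ j₁) hj₂
    have h₁' : φ₁ (A ^ p ^ (j₁ + j₂) - C ^ p ^ (j₁ + j₂)) = 0 := by
      rw [map_sub, ← q₁, ← q₁, sub_eq_zero]
      exact congrArg ι₁.hom.hom (((map_pow _ _ _).trans hjj₁).trans (map_pow _ _ _).symm)
    have h₂' : φ₂ (A ^ p ^ (j₁ + j₂) - C ^ p ^ (j₁ + j₂)) = 0 := by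
      rw [map_sub, ← q₂, ← q₂, sub_eq_zero]
      exact congrArg ι₂.hom.hom (((map_pow _ _ _).trans hjj₂).trans (map_pow _ _ _).symm)
    have h0 := hm _ h₁' h₂'
    rw [sub_pow_prime_pow hp.out (natCast_section_eq_zero p hS x), sub_eq_zero] at h0
    refine congrArg ((frobColimUnit p S).app (op (Over.mk x))) (congrArg (ULift.up.{u + 1}) ?_)
    rw [frobColim_mk_raise p n a (N + k), frobColim_mk_raise p (N + k) c n, add_comm n (N + k),
      frobColim_mk_raise p (N + k + n) _ (j₁ + j₂ + m), frobColim_mk_raise p (N + k + n) (c ^ p ^ n) (j₁ + j₂ + m),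
      pow_add p (j₁ + j₂) m, pow_mul, pow_mul]
    exact congrArg (FrobColimSections.mk p _) h0

omit hp hS in
/-- Functions descend along affine faithfully flat morphisms. -/
theorem exists_descend {U V : Scheme.{u}} (q : V ⟶ U) [Flat q] [Surjective q] [QuasiCompact q]
    (b : Γ(V, ⊤)) (hb : (pullback.fst q q).appTop.hom b = (pullback.snd q q).appTop.hom b) :
    ∃! a : Γ(U, ⊤), q.appTop.hom a = b := by
  have hR : Sieve.generate (Presieve.singleton q) ∈ Scheme.fpqcTopology U :=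
    Precoverage.generate_mem_toGrothendieck q.singleton_mem_fpqcPrecoverage
  have indep : ∀ {W : Scheme.{u}} (a a' : W ⟶ V), a ≫ q = a' ≫ q → a.appTop.hom b = a'.appTop.hom b := by
    intro W a a' h
    conv_lhs => rw [← pullback.lift_fst a a' h]
    conv_rhs => rw [← pullback.lift_snd a a' h]
    rw [comp_appTop_hom, comp_appTop_hom, RingHom.comp_apply, RingHom.comp_apply, hb]
  have ex : ∀ ⦃W : Scheme.{u}⦄ (k : W ⟶ U), Sieve.generate (Presieve.singleton q) k →
      ∃ a : W ⟶ V, a ≫ q = k := by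
    rintro W k ⟨_, a, _, ⟨⟩, rfl⟩
    exact ⟨a, rfl⟩
  let y : ∀ ⦃W : Scheme.{u}⦄ (k : W ⟶ U), Sieve.generate (Presieve.singleton q) k → Γ(W, ⊤) :=
    fun W k hk => (ex k hk).choose.appTop.hom b
  obtain ⟨a, ha, hu⟩ := existsUnique_section hR y fun W W' c k hk => by
    show _ = c.appTop.hom ((ex k hk).choose.appTop.hom b)
    rw [← RingHom.comp_apply, ← comp_appTop_hom]
    refine indep _ _ ?_
    rw [(ex (c ≫ k) ((Sieve.generate _).downward_closed hk c)).choose_spec, Category.assoc,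
      (ex k hk).choose_spec]
  refine ⟨a, ?_, fun a' ha' => hu a' fun W k hk => ?_⟩
  · have hq : Sieve.generate (Presieve.singleton q) q :=
      ⟨_, 𝟙 _, q, Presieve.singleton_self _, Category.id_comp _⟩
    refine (ha q hq).trans ((indep (ex q hq).choose (𝟙 V) ?_).trans ?_)
    · rw [(ex q hq).choose_spec, Category.id_comp]
    · rw [Scheme.Hom.id_appTop]; rfl
  · show k.appTop.hom a' = (ex k hk).choose.appTop.hom b
    conv_lhs => rw [← (ex k hk).choose_spec]
    rw [comp_appTop_hom, RingHom.comp_apply, ha']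

theorem devissageAxioms_frobColim : DevissageAxioms (descTop (frobColimSh p S)) where
  zariski := zariski_le_descTop (isSheaf_frobColimSh p S)
  dvd := dvd_mem_descTop (pairHyp_frobColim hS) (isSheaf_frobColimSh p S)
  torsion := torsion_mem_descTop (pairHyp_frobColim hS) (isSheaf_frobColimSh p S)
  free A B φ hfin hflat _ hinj := by
    have : IsFinite (Spec.map φ) := (IsFinite.SpecMap_iff φ).2 hfin
    have : Flat (Spec.map φ) := HasRingHomProperty.Spec_iff.2 hflat
    have : Surjective (Spec.map φ) := ⟨(hfin.to_isIntegral).comap_surjective hinj⟩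
    refine mem_descTop_of_affine (isSheaf_frobColimSh p S) fun U f x hU => ?_
    rw [generate_singleton_pullback]
    let q := pullback.fst f (Spec.map φ)
    let V := pullback f (Spec.map φ)
    have : IsAffine V := isAffine_of_isAffineHom q
    have : IsAffine (pullback q q) := isAffine_of_isAffineHom (pullback.fst q q ≫ q)
    have hdiag : ∀ b b' : Γ(V, ⊤), (pullback.fst q q).appTop.hom b = (pullback.snd q q).appTop.hom b' →
        b = b' := fun b b' h => by
      have h2 := congrArg (pullback.diagonal q).appTop.hom h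
      rwa [← RingHom.comp_apply, ← RingHom.comp_apply, ← comp_appTop_hom, ← comp_appTop_hom,
        pullback.diagonal_fst, pullback.diagonal_snd, Scheme.Hom.id_appTop] at h2
    refine pairHyp_frobColim hS x _ q.appTop.hom q.appTop.hom (pullback.fst q q).appTop.hom
      (pullback.snd q q).appTop.hom ?_ ?_ ?_ ?_ ⟨0, fun d h _ => ?_⟩ fun b b' h => ?_
    · rw [← comp_appTop_hom, ← comp_appTop_hom, pullback.condition]
    · exact ⟨_, toAff (U := V) (Scheme.ΓSpecIso _).inv.hom, q, Presieve.singleton_self _,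
        hom_ext_appTop (by rw [comp_appTop_hom, appTop_toAff, specTo, appTop_toAff]; rfl)⟩
    · exact ⟨_, toAff (U := V) (Scheme.ΓSpecIso _).inv.hom, q, Presieve.singleton_self _,
        hom_ext_appTop (by rw [comp_appTop_hom, appTop_toAff, specTo, appTop_toAff]; rfl)⟩
    · rintro W l ⟨_, a, _, ⟨⟩, rfl⟩
      exact Or.inl ⟨a.appTop.hom, (comp_appTop_hom a q).symm⟩
    · obtain ⟨_, -, hu⟩ := exists_descend q (0 : Γ(V, ⊤)) (by rw [map_zero, map_zero])
      rw [pow_zero, pow_one, hu d h, hu 0 (map_zero _)]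
    · obtain rfl := hdiag b b' h
      obtain ⟨c, hc, -⟩ := exists_descend q b h
      exact ⟨c, hc, hc⟩

theorem isSheaf_jh_frobColim : Presheaf.IsSheaf (HTop.Jh S) (frobColimSh p S) :=
  (isSheaf_iff_isSheaf_of_type _ _).2 (isSheaf_jh_of_axioms (devissageAxioms_frobColim hS))

end Groth.Agent.HTop50
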