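import Groth.Agent.HTop50.AffineHom
import Groth.Prelude.Def_W4stkflatp2Frob
import Groth.Prelude.Def_QuotSh
import Mathlib.AlgebraicGeometry.Morphisms.QuasiSeparated

/-! The colimit of functions along Frobenius: equality, gluing and the Zariski sheafification. -/

set_option autoImplicit false
set_option linter.style.haveILetI false

universe u

open CategoryTheory CategoryTheory.Limits AlgebraicGeometry Opposite

namespace Groth.Agent.HTop50

open HTop

variable (p : ℕ)

theorem frobColim_mk_raise {X : Scheme.{u}} (n : ℕ) (a : Γ(X, ⊤)) (k : ℕ) :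
    FrobColimSections.mk p n a = FrobColimSections.mk p (n + k) (a ^ p ^ k) := by
  induction k with
  | zero => simp
  | succ k ih => rw [ih, FrobColimSections.sound, ← pow_mul, ← pow_succ, add_assoc]

theorem frobColim_exists_rep {X : Scheme.{u}} (x : FrobColimSections p X) :
    ∃ n a, FrobColimSections.mk p n a = x := by
  induction x using Quot.ind with
  | mk x => exact ⟨x.1, x.2, rfl⟩

theorem frobColim_mk_eq_mk {X : Scheme.{u}} {n n' : ℕ} {a a' : Γ(X, ⊤)}
    (h : FrobColimSections.mk p n a = FrobColimSections.mk p n' a') :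
    ∃ k k', n + k = n' + k' ∧ a ^ p ^ k = a' ^ p ^ k' := by
  let r : ℕ × Γ(X, ⊤) → ℕ × Γ(X, ⊤) → Prop := fun x y =>
    ∃ k k', x.1 + k = y.1 + k' ∧ x.2 ^ p ^ k = y.2 ^ p ^ k'
  have h' : Relation.EqvGen (FrobColimRel p X) (n, a) (n', a') := Quot.eqvGen_exact h
  suffices ∀ x y, Relation.EqvGen (FrobColimRel p X) x y → r x y from this _ _ h'
  intro x y hxy
  induction hxy with
  | rel x y h => subst h; exact ⟨1, 0, by simp, by simp⟩
  | refl x => exact ⟨0, 0, rfl, rfl⟩
  | symm x y _ ih => obtain ⟨k, k', h1, h2⟩ := ih; exact ⟨k', k, h1.symm, h2.symm⟩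
  | trans x y z _ _ ih ih' =>
    obtain ⟨k, k', h1, h2⟩ := ih
    obtain ⟨l, l', h3, h4⟩ := ih'
    refine ⟨k + l, l' + k', by omega, ?_⟩
    rw [pow_add, pow_mul, h2, pow_add p l' k', pow_mul _ (p ^ l'), ← h4, ← pow_mul, ← pow_mul,
      mul_comm (p ^ k')]

theorem frobColim_eq_same_degree {X : Scheme.{u}} {n : ℕ} {a a' : Γ(X, ⊤)}
    (h : FrobColimSections.mk p n a = FrobColimSections.mk p n a') : ∃ k, a ^ p ^ k = a' ^ p ^ k := by
  obtain ⟨k, k', h1, h2⟩ := frobColim_mk_eq_mk p h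
  obtain rfl : k = k' := by omega
  exact ⟨k, h2⟩

theorem frobColim_pow_of_le {X : Scheme.{u}} {a a' : Γ(X, ⊤)} {k N : ℕ} (hk : k ≤ N)
    (h : a ^ p ^ k = a' ^ p ^ k) : a ^ p ^ N = a' ^ p ^ N := by
  obtain ⟨l, rfl⟩ := Nat.exists_eq_add_of_le hk
  rw [pow_add, pow_mul, pow_mul, h]

theorem frobColim_exists_common {ι : Type*} [Finite ι] {X : ι → Scheme.{u}}
    (x : ∀ i, FrobColimSections p (X i)) :
    ∃ (N : ℕ) (a : ∀ i, Γ(X i, ⊤)), ∀ i, FrobColimSections.mk p N (a i) = x i := by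
  have := Fintype.ofFinite ι
  choose n a ha using fun i => frobColim_exists_rep p (x i)
  refine ⟨Finset.univ.sup n, fun i => a i ^ p ^ (Finset.univ.sup n - n i), fun i => ?_⟩
  rw [← ha i, frobColim_mk_raise p (n i) (a i) (Finset.univ.sup n - n i),
    Nat.add_sub_cancel' (Finset.le_sup (Finset.mem_univ i))]

theorem toLine_comp {X Y : Scheme.{u}} (f : Y ⟶ X) (a : Γ(X, ⊤)) :
    f ≫ toLine X a = toLine Y (f.appTop.hom a) := by
  refine ofLine_injective ?_
  rw [ofLine_comp, ofLine_toLine, ofLine_toLine]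

theorem frobColim_ext_of_cover {X : Scheme.{u}} (𝒰 : X.OpenCover) [Finite 𝒰.I₀]
    {x y : FrobColimSections p X}
    (h : ∀ i, FrobColimSections.map p (𝒰.f i) x = FrobColimSections.map p (𝒰.f i) y) : x = y := by
  have := Fintype.ofFinite 𝒰.I₀
  obtain ⟨N, a, ha⟩ := frobColim_exists_common p (X := fun _ : Bool => X) (fun b => cond b x y)
  have hb : ∀ i, ∃ k, (𝒰.f i).appTop.hom (a true) ^ p ^ k = (𝒰.f i).appTop.hom (a false) ^ p ^ k := fun i => by
    refine frobColim_eq_same_degree p (n := N) ?_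
    rw [← FrobColimSections.map_mk, ← FrobColimSections.map_mk, ha, ha]
    exact h i
  choose k hk using hb
  have hK : a true ^ p ^ (Finset.univ.sup k) = a false ^ p ^ (Finset.univ.sup k) := by
    rw [← ofLine_toLine X (a true ^ _), ← ofLine_toLine X (a false ^ _)]
    refine congrArg ofLine (𝒰.hom_ext _ _ fun i => ?_)
    rw [toLine_comp, toLine_comp, map_pow, map_pow,
      frobColim_pow_of_le p (Finset.le_sup (Finset.mem_univ i)) (hk i)]
  have e : ∀ b, cond b x y = FrobColimSections.mk p (N + Finset.univ.sup k) (a b ^ p ^ Finset.univ.sup k) :=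
    fun b => by rw [← ha b, frobColim_mk_raise]
  have e₁ : x = _ := e true
  have e₂ : y = _ := e false
  rw [e₁, e₂, hK]

theorem frobColim_exists_glue {X : Scheme.{u}} (𝒰 : X.OpenCover) [Finite 𝒰.I₀]
    (x : ∀ i, FrobColimSections p (𝒰.X i))
    (h : ∀ i j, FrobColimSections.map p (pullback.fst (𝒰.f i) (𝒰.f j)) (x i) =
      FrobColimSections.map p (pullback.snd (𝒰.f i) (𝒰.f j)) (x j)) :
    ∃ s, ∀ i, FrobColimSections.map p (𝒰.f i) s = x i := by
  have := Fintype.ofFinite 𝒰.I₀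
  obtain ⟨N, a, ha⟩ := frobColim_exists_common p x
  have hb : ∀ ij : 𝒰.I₀ × 𝒰.I₀, ∃ k, (pullback.fst (𝒰.f ij.1) (𝒰.f ij.2)).appTop.hom (a ij.1) ^ p ^ k =
      (pullback.snd (𝒰.f ij.1) (𝒰.f ij.2)).appTop.hom (a ij.2) ^ p ^ k := fun ij => by
    refine frobColim_eq_same_degree p (n := N) ?_
    rw [← FrobColimSections.map_mk, ← FrobColimSections.map_mk, ha, ha]
    exact h ij.1 ij.2
  choose k hk using hb
  let K := Finset.univ.sup k
  let m := 𝒰.glueMorphisms (fun i => toLine (𝒰.X i) (a i ^ p ^ K)) fun i j => by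
    rw [toLine_comp, toLine_comp, map_pow, map_pow,
      frobColim_pow_of_le p (Finset.le_sup (Finset.mem_univ (i, j))) (hk (i, j))]
  refine ⟨FrobColimSections.mk p (N + K) (ofLine m), fun i => ?_⟩
  rw [FrobColimSections.map_mk, ← ofLine_comp, Scheme.Cover.ι_glueMorphisms, ofLine_toLine,
    ← frobColim_mk_raise, ha]

/-- Finitely many affine pieces inside a Zariski covering sieve of a quasi-compact scheme. -/
theorem exists_finite_affine_cover (X : Scheme.{u}) [CompactSpace X] (R : Sieve X)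
    (hR : R ∈ Scheme.zariskiTopology X) :
    ∃ (𝒱 : Scheme.OpenCover.{u} X) (_ : Finite 𝒱.I₀), ∀ i, IsAffine (𝒱.X i) ∧ R (𝒱.f i) := by
  obtain ⟨𝒰, hle⟩ := Scheme.mem_grothendieckTopology_iff.1 hR
  let 𝒲 := (Scheme.OpenCover.affineRefinement 𝒰).openCover
  let 𝒱 := 𝒲.finiteSubcover
  refine ⟨𝒱, Finite.of_fintype _, fun i => ⟨?_, ?_⟩⟩
  · show IsAffine (Spec _)
    infer_instance
  · have h1 : ∀ j, R (𝒲.f j) := by
      rintro ⟨i, l⟩
      exact R.downward_closed (hle _ _ ⟨i⟩) ((𝒰.X i).affineCover.f l)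
    exact h1 _

variable (S : Scheme.{u})

/-- The presheaf, one universe up. -/
abbrev frobColimUp : (Over S)ᵒᵖ ⥤ Type (u + 1) := frobColimPresheaf p S ⋙ uliftFunctor.{u + 1, u}

/-- Its Zariski sheafification. -/
noncomputable abbrev frobColimSh : (Over S)ᵒᵖ ⥤ Type (u + 1) :=
  (QuotSh.J Scheme.zariskiPrecoverage S).sheafify (frobColimUp p S)

/-- The unit. -/
noncomputable abbrev frobColimUnit : frobColimUp p S ⟶ frobColimSh p S :=
  (QuotSh.J Scheme.zariskiPrecoverage S).toSheafify (frobColimUp p S)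

theorem isSheaf_frobColimSh :
    Presieve.IsSheaf (Scheme.zariskiTopology.over S) (frobColimSh p S) :=
  (isSheaf_iff_isSheaf_of_type _ _).1
    ((QuotSh.J Scheme.zariskiPrecoverage S).sheafify_isSheaf (frobColimUp p S))

variable {S} {p}

theorem frobColimUnit_injective (X : Over S) [CompactSpace X.left] :
    Function.Injective ((frobColimUnit p S).app (op X)) := by
  intro a b h
  have hmem : Presheaf.equalizerSieve (F := frobColimUp p S) (X := op X) a b ∈
      (QuotSh.J Scheme.zariskiPrecoverage S) X :=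
    Presheaf.equalizerSieve_mem (QuotSh.J Scheme.zariskiPrecoverage S) (frobColimUnit p S) (X := op X) a b h
  obtain ⟨𝒱, _, h𝒱⟩ := exists_finite_affine_cover X.left _
    ((GrothendieckTopology.mem_over_iff _ _).1 hmem)
  refine ULift.ext _ _ (frobColim_ext_of_cover p 𝒱 fun i => ?_)
  exact congrArg ULift.down (((Sieve.overEquiv_iff _ _).1 (h𝒱 i).2))

theorem frobColimUnit_eq_of_lifts {X A B W : Over S} [CompactSpace W.left] (oA : A ⟶ X) (oB : B ⟶ X)
    (q₁ : W ⟶ A) (q₂ : W ⟶ B) (hq : q₁ ≫ oA = q₂ ≫ oB) (s : (frobColimSh p S).obj (op X))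
    (tA : (frobColimUp p S).obj (op A)) (tB : (frobColimUp p S).obj (op B))
    (hA : (frobColimUnit p S).app (op A) tA = (frobColimSh p S).map oA.op s)
    (hB : (frobColimUnit p S).app (op B) tB = (frobColimSh p S).map oB.op s) :
    (frobColimUp p S).map q₁.op tA = (frobColimUp p S).map q₂.op tB := by
  apply frobColimUnit_injective W
  rw [NatTrans.naturality_apply (frobColimUnit p S) q₁.op tA,
    NatTrans.naturality_apply (frobColimUnit p S) q₂.op tB, hA, hB,
    ← Functor.map_comp_apply, ← Functor.map_comp_apply, ← op_comp, ← op_comp, hq]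

theorem frobColimUnit_bijective (X : Over S) [CompactSpace X.left] [QuasiSeparatedSpace X.left] :
    Function.Bijective ((frobColimUnit p S).app (op X)) := by
  refine ⟨frobColimUnit_injective X, fun s => ?_⟩
  have hmem : Presheaf.imageSieve (frobColimUnit p S) s ∈ (QuotSh.J Scheme.zariskiPrecoverage S) X :=
    Presheaf.imageSieve_mem _ (frobColimUnit p S) (U := op X) s
  obtain ⟨𝒱, _, h𝒱⟩ := exists_finite_affine_cover X.left _
    ((GrothendieckTopology.mem_over_iff _ _).1 hmem)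
  choose t ht using fun i => (Sieve.overEquiv_iff _ _).1 (h𝒱 i).2
  let o : ∀ i, Over.mk (𝒱.f i ≫ X.hom) ⟶ X := fun i => Over.homMk (𝒱.f i) rfl
  have haff : ∀ i, IsAffine (𝒱.X i) := fun i => (h𝒱 i).1
  have hcompat : ∀ i j, FrobColimSections.map p (pullback.fst (𝒱.f i) (𝒱.f j)) (t i).down =
      FrobColimSections.map p (pullback.snd (𝒱.f i) (𝒱.f j)) (t j).down := by
    intro i j
    have := haff i
    have := haff j
    let W : Over S := Over.mk (pullback.fst (𝒱.f i) (𝒱.f j) ≫ 𝒱.f i ≫ X.hom)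
    let q₁ : W ⟶ Over.mk (𝒱.f i ≫ X.hom) := Over.homMk (pullback.fst _ _) rfl
    let q₂ : W ⟶ Over.mk (𝒱.f j ≫ X.hom) := Over.homMk (pullback.snd _ _) (by
      show pullback.snd (𝒱.f i) (𝒱.f j) ≫ 𝒱.f j ≫ X.hom = pullback.fst (𝒱.f i) (𝒱.f j) ≫ 𝒱.f i ≫ X.hom
      rw [← pullback.condition_assoc])
    have : QuasiCompact (𝒱.f i) := inferInstance
    have : CompactSpace W.left := inferInstanceAs (CompactSpace ↑(pullback (𝒱.f i) (𝒱.f j)))
    have e : (frobColimUp p S).map q₁.op (t i) = (frobColimUp p S).map q₂.op (t j) :=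
      frobColimUnit_eq_of_lifts (o i) (o j) q₁ q₂ (Over.OverMorphism.ext pullback.condition) s (t i) (t j)
        (ht i) (ht j)
    exact congrArg ULift.down e
  obtain ⟨v, hv⟩ := frobColim_exists_glue p 𝒱 (fun i => (t i).down) hcompat
  let w : (frobColimUp p S).obj (op X) := (ULift.up.{u + 1} v : ULift.{u + 1} _)
  refine ⟨w, ?_⟩
  have hcov : Sieve.generate (Presieve.ofArrows _ o) ∈ (QuotSh.J Scheme.zariskiPrecoverage S) X := by
    rw [GrothendieckTopology.mem_over_iff, Sieve.overEquiv_ofArrows]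
    exact 𝒱.mem_grothendieckTopology
  refine ((isSheaf_frobColimSh p S).isSeparated _ hcov).ext ?_
  rintro Z k ⟨_, a, _, ⟨i⟩, rfl⟩
  rw [op_comp, Functor.map_comp_apply, Functor.map_comp_apply]
  refine congrArg _ ?_
  rw [← NatTrans.naturality_apply (frobColimUnit p S) (o i).op w]
  refine Eq.trans (congrArg _ ?_) (ht i)
  exact ULift.ext _ _ (hv i)

end Groth.Agent.HTop50
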