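import Groth.Agent.Mod48.GermSites
import Groth.Agent.HTop50.Family
import Groth.Agent.S8976

/-!
Topologies on schemes finer than the étale one along whose coverings geometric points lift and openness
descends; the ph and h topologies are of this kind.
-/

set_option autoImplicit false

universe u

open CategoryTheory CategoryTheory.Limits AlgebraicGeometry

namespace Groth.Agent.HTop50

/-- The two properties of a covering sieve used by the germ calculus. -/
structure GeomSieve {X : Scheme.{u}} (S : Sieve X) : Prop where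
  lift : ∀ {k : Type u} [Field k] [IsAlgClosed k] (v : Spec (CommRingCat.of k) ⟶ X),
    ∃ (W : Scheme.{u}) (g : W ⟶ X) (w : Spec (CommRingCat.of k) ⟶ W), S.arrows g ∧ w ≫ g = v
  quot : ∀ T : Set X, (∀ (W : Scheme.{u}) (g : W ⟶ X), S.arrows g → IsOpen (g ⁻¹' T)) → IsOpen T

/-- A topology on schemes finer than the étale one with geometric covering sieves. -/
class GeomTop (τ : GrothendieckTopology Scheme.{u}) : Prop where
  mem_of_etale : ∀ {X : Scheme.{u}} {ι : Type u} (Y : ι → Scheme.{u}) (f : ∀ i, Y i ⟶ X),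
    (∀ i, Etale (f i)) → (∀ x, ∃ i y, f i y = x) → Sieve.ofArrows Y f ∈ τ X
  geomSieve : ∀ {X : Scheme.{u}} {S : Sieve X}, S ∈ τ X → GeomSieve S

theorem GeomSieve.top (X : Scheme.{u}) : GeomSieve (⊤ : Sieve X) where
  lift v := ⟨X, 𝟙 X, v, trivial, Category.comp_id v⟩
  quot _ h := by simpa using h X (𝟙 X) trivial

theorem GeomSieve.trans {X : Scheme.{u}} {S R : Sieve X} (hS : GeomSieve S)
    (hR : ∀ ⦃Y : Scheme.{u}⦄ ⦃f : Y ⟶ X⦄, S f → GeomSieve (R.pullback f)) : GeomSieve R where
  lift v := by
    obtain ⟨W, g, w, hg, rfl⟩ := hS.lift v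
    obtain ⟨W', g', w', hg', rfl⟩ := (hR hg).lift w
    exact ⟨W', g' ≫ g, w', hg', (Category.assoc _ _ _).symm⟩
  quot T h := hS.quot T fun W g hg => (hR hg).quot _ fun W' g' hg' => h W' (g' ≫ g) hg'

theorem geomSieve_of_saturate {K : Precoverage Scheme.{u}}
    (hK : ∀ {X Y : Scheme.{u}} (f : Y ⟶ X) {R : Presieve X}, R ∈ K X →
      GeomSieve ((Sieve.generate R).pullback f))
    {X : Scheme.{u}} {S : Sieve X} (hS : S ∈ K.toGrothendieck X) : GeomSieve S := by
  suffices h : ∀ {Y : Scheme.{u}} (f : Y ⟶ X), GeomSieve (S.pullback f) by simpa using h (𝟙 X)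
  change K.Saturate X S at hS
  induction hS with
  | of X R hR => exact fun f => hK f hR
  | top X => intro Y f; simpa using GeomSieve.top Y
  | pullback X S _ Y g ih => intro Z f; rw [← Sieve.pullback_comp]; exact ih _
  | transitive X S R _ _ ih₁ ih₂ =>
    intro Y f
    refine (ih₁ f).trans fun Z g hg => ?_
    rw [← Sieve.pullback_comp]
    simpa using ih₂ hg (𝟙 Z)

/-- A V covering by morphisms locally of finite type, after base change, gives a geometric sieve. -/
theorem geomSieve_of_isVCover {X Y : Scheme.{u}} (f : Y ⟶ X) {ι : Type*} (Z : ι → Scheme.{u})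
    (p : ∀ i, Z i ⟶ X) (hp : ∀ i, LocallyOfFiniteType (p i))
    (hV : HTop.IsVCover (PreZeroHypercover.mk ι Z p)) :
    GeomSieve ((Sieve.generate (Presieve.ofArrows Z p)).pullback f) := by
  have hV' := VCov93.isVCover_pullback f hV
  have hmem : ∀ i, ((Sieve.generate (Presieve.ofArrows Z p)).pullback f).arrows
      (pullback.fst f (p i)) :=
    fun i => ⟨Z i, pullback.snd f (p i), p i, ⟨i⟩, pullback.condition.symm⟩
  refine ⟨fun {k} _ _ v => ?_, fun T hT => ?_⟩
  · obtain ⟨x⟩ : Nonempty (Spec (CommRingCat.of k)) := inferInstance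
    obtain ⟨i₀, y, hy⟩ := VCov93.surjective_of_isVCover hV' (v x)
    let i : ι := i₀
    let q : pullback f (p i) ⟶ Y := pullback.fst f (p i)
    have := hp i
    have : LocallyOfFiniteType q := inferInstanceAs (LocallyOfFiniteType (pullback.fst f (p i)))
    obtain ⟨z, -, -⟩ := Scheme.Pullback.exists_preimage_pullback (f := v) (g := q) x y hy.symm
    have : Nonempty ↑(pullback v q) := ⟨z⟩
    have : JacobsonSpace ↑(pullback v q) := LocallyOfFiniteType.jacobsonSpace (pullback.fst v q)
    obtain ⟨c, -, hc⟩ := nonempty_inter_closedPoints (Z := (Set.univ : Set ↑(pullback v q)))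
      Set.univ_nonempty isOpen_univ.isLocallyClosed
    exact ⟨_, q, pointOfClosedPoint (pullback.fst v q) c hc ≫ pullback.snd v q, hmem i, by
      rw [Category.assoc, ← pullback.condition]
      exact (reassoc_of% (pointOfClosedPoint_comp (pullback.fst v q) c hc)) v⟩
  · rw [← isClosed_compl_iff]
    refine VCov93.isClosed_of_isVCover hV' _ fun i => ?_
    rw [Set.preimage_compl, isClosed_compl_iff]
    exact hT _ _ (hmem i)

/-- Jointly surjective étale families are V coverings. -/
theorem isVCover_of_etale {X : Scheme.{u}} {ι : Type u} (Y : ι → Scheme.{u}) (f : ∀ i, Y i ⟶ X)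
    (hf : ∀ i, Etale (f i)) (hs : ∀ x, ∃ i y, f i y = x) :
    HTop.IsVCover (PreZeroHypercover.mk ι Y f) := by
  have hmem : (PreZeroHypercover.mk ι Y f).presieve₀ ∈ Scheme.fppfPrecoverage X := by
    refine (Scheme.ofArrows_mem_precoverage_iff _).2 ⟨hs, fun i => ?_⟩
    have := hf i
    exact ⟨inferInstance, inferInstance⟩
  exact VCov93.isVCover_of_fpqc ⟨_, Scheme.fppfPrecoverage_le_fpqcPrecoverage _ hmem⟩

instance geomTop_ph : GeomTop HTop.phTopology.{u} where
  mem_of_etale Y f hf hs := by
    refine Precoverage.generate_mem_toGrothendieck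
      ((HTop.presieve₀_mem_phPrecoverage_iff (PreZeroHypercover.mk _ Y f)).2 ?_)
    refine (S8976.result _ fun i => ?_).2 (isVCover_of_etale Y f hf hs)
    have := hf i
    exact (by infer_instance : LocallyOfFinitePresentation (f i))
  geomSieve hS := geomSieve_of_saturate (fun {X Y} f {R} hR => by
    obtain ⟨ι, Z, p, rfl⟩ := R.exists_eq_ofArrows
    have hR' := (HTop.presieve₀_mem_phPrecoverage_iff (PreZeroHypercover.mk ι Z p)).1 hR
    exact geomSieve_of_isVCover f Z p hR'.1 (isVCover_of_isPhCover hR')) hS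

instance geomTop_h : GeomTop HTop.hTopology.{u} where
  mem_of_etale Y f hf hs := by
    refine Precoverage.generate_mem_toGrothendieck
      ((HTop.presieve₀_mem_hPrecoverage_iff (PreZeroHypercover.mk _ Y f)).2
        ⟨fun i => ?_, isVCover_of_etale Y f hf hs⟩)
    have := hf i
    exact (by infer_instance : LocallyOfFinitePresentation (f i))
  geomSieve hS := geomSieve_of_saturate (fun {X Y} f {R} hR => by
    obtain ⟨ι, Z, p, rfl⟩ := R.exists_eq_ofArrows
    have hR' := (HTop.presieve₀_mem_hPrecoverage_iff (PreZeroHypercover.mk ι Z p)).1 hR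
    refine geomSieve_of_isVCover f Z p (fun i => ?_) hR'.2
    have : LocallyOfFinitePresentation (p i) := hR'.1 i
    infer_instance) hS

end Groth.Agent.HTop50
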