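import Groth.Agent.HTop50.SeminormalDescent
import Groth.Agent.FlatMor67.GenericFibre
import Mathlib.AlgebraicGeometry.Morphisms.UniversallyInjective

/-! Proper injective maps with trivial residue field extensions to seminormal schemes. -/

set_option autoImplicit false
set_option linter.style.haveILetI false

universe u

open CategoryTheory CategoryTheory.Limits AlgebraicGeometry IsLocalRing

namespace Groth.Agent.HTop50

theorem residueFieldMap_surjective {X Y : Scheme.{u}} (f : X ⟶ Y) [SurjectiveOnStalks f] (x : X) :
    Function.Surjective (f.residueFieldMap x).hom := by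
  intro v
  obtain ⟨v, rfl⟩ := X.residue_surjective x v
  obtain ⟨w, rfl⟩ := f.stalkMap_surjective x v
  exact ⟨(Y.residue (f x)).hom w, congrArg (fun h => h.hom w) (Scheme.residue_residueFieldMap f x)⟩

/-- A finite extension of seminormal rings which is bijective with trivial residue field extensions
is an isomorphism. -/
theorem surjective_algebraMap_of_seminormal {A C : Type u} [CommRing A] [CommRing C] [IsNoetherianRing A]
    [Algebra A C] [Module.Finite A C] [IsReduced C] (hA : HTop.IsSeminormalRing A)
    (hinj : Function.Injective (algebraMap A C))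
    (h : ∀ (c : C) (q : PrimeSpectrum A), ∃ d a : A, d ∉ q.asIdeal ∧ ∀ Q : PrimeSpectrum C,
      PrimeSpectrum.comap (algebraMap A C) Q = q → algebraMap A C d * c - algebraMap A C a ∈ Q.asIdeal) :
    Function.Surjective (algebraMap A C) := by
  intro c
  let C' := Algebra.adjoin A {c}
  let c' : C' := ⟨c, Algebra.self_mem_adjoin_singleton A c⟩
  have : IsReduced C' := isReduced_of_injective C'.val.toRingHom Subtype.val_injective
  have : IsNoetherian A C := isNoetherian_of_isNoetherianRing_of_finite A C
  have : Module.Finite A C' := Module.Finite.of_injective C'.val.toLinearMap Subtype.val_injective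
  have : Algebra.IsIntegral A C := Algebra.IsIntegral.of_finite A C
  let : Algebra C' C := C'.val.toRingHom.toAlgebra
  have : IsScalarTower A C' C := IsScalarTower.of_algebraMap_eq fun a => rfl
  have : Algebra.IsIntegral C' C := Algebra.IsIntegral.tower_top A
  have hb : Algebra.adjoin A {c'} = ⊤ := by
    refine Subalgebra.map_injective (f := C'.val) Subtype.val_injective ?_
    rw [AlgHom.map_adjoin, Set.image_singleton, Algebra.map_top, Subalgebra.range_val]
    rfl
  obtain ⟨a, ha⟩ := mem_range_of_seminormal hA
    (fun x y e => hinj (congrArg Subtype.val e)) c' hb fun q => by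
      obtain ⟨d, a, hd, hq⟩ := h c q
      refine ⟨d, a, hd, fun Q hQ => ?_⟩
      obtain ⟨Q', -, hQ', hQQ⟩ := Ideal.exists_ideal_over_prime_of_isIntegral Q.asIdeal (⊥ : Ideal C)
        (fun x hx => by
          rw [Ideal.mem_comap, Ideal.mem_bot] at hx
          rw [show x = 0 from Subtype.val_injective hx]
          exact zero_mem _)
      have h1 := hq ⟨Q', hQ'⟩ (hQ ▸ PrimeSpectrum.ext (by
        show Q'.comap (algebraMap A C) = Q.asIdeal.comap (algebraMap A C')
        rw [← hQQ, IsScalarTower.algebraMap_eq A C' C]
        exact (Ideal.comap_comap (algebraMap A C') (algebraMap C' C)).symm))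
      rw [← hQQ, Ideal.mem_comap]
      exact h1
  exact ⟨a, congrArg Subtype.val ha⟩

theorem evaluation_fromSpec {X : Scheme.{u}} {U : X.Opens} (hU : IsAffineOpen U)
    (q : Spec Γ(X, U)) (hq : hU.fromSpec q ∈ U) (a : Γ(X, U)) :
    (hU.fromSpec.residueFieldMap q).hom (X.evaluation U (hU.fromSpec q) hq a) =
      ev (A := Γ(X, U)) q a := by
  rw [Scheme.evaluation_naturality_apply hU.fromSpec q hq a, hU.fromSpec_app_self,
    CommRingCat.comp_apply, eqToHom_op]
  exact evaluation_map (U := ⊤) le_top _ q _

/-- The residue field at a point of an affine open consists of fractions of sections. -/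
theorem exists_evaluation_frac {X : Scheme.{u}} {U : X.Opens} (hU : IsAffineOpen U)
    (q : PrimeSpectrum Γ(X, U)) (x : X) (hx : x ∈ U) (he : hU.fromSpec q = x)
    (v : X.residueField x) :
    ∃ n d : Γ(X, U), d ∉ q.asIdeal ∧ v * X.evaluation U x hx d = X.evaluation U x hx n := by
  subst he
  obtain ⟨n, d, hd, hnd⟩ := exists_ev_frac q ((hU.fromSpec.residueFieldMap q).hom v)
  refine ⟨n, d, hd, (hU.fromSpec.residueFieldMap q).hom.injective ?_⟩
  rw [map_mul, evaluation_fromSpec hU q hx d, evaluation_fromSpec hU q hx n]
  exact hnd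

/-- A proper bijective morphism with surjective residue field maps from a reduced scheme to a
seminormal locally Noetherian scheme is an isomorphism. -/
theorem isIso_of_seminormal {W T : Scheme.{u}} (p : W ⟶ T) [IsProper p] [Surjective p]
    [IsReduced W] [IsLocallyNoetherian T] (hT : HTop.IsSeminormal T) (hinj : Function.Injective p)
    (hres : ∀ w, Function.Surjective (p.residueFieldMap w).hom) : IsIso p := by
  have := isReduced_of_isSeminormal hT
  have hemb : Topology.IsClosedEmbedding p :=
    Topology.IsClosedEmbedding.of_continuous_injective_isClosedMap p.continuous hinj p.isClosedMap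
  have : IsAffineHom p := isAffineHom_of_isInducing p hemb.isInducing hemb.isClosed_range
  have : IsFinite p := IsFinite.iff_isProper_and_isAffineHom.2 ⟨inferInstance, inferInstance⟩
  choose U hxU hU using hT
  have key : ∀ x₀ : T, IsIso (p ∣_ (U x₀).1) := by
    intro x₀
    rw [isIso_morphismRestrict_iff_isIso_app p (U x₀).2]
    have : IsNoetherianRing Γ(T, (U x₀).1) := IsLocallyNoetherian.component_noetherian (U x₀)
    let φ := p.app (U x₀).1
    let _ : Algebra Γ(T, (U x₀).1) Γ(W, p ⁻¹ᵁ (U x₀).1) := φ.hom.toAlgebra
    have : Module.Finite Γ(T, (U x₀).1) Γ(W, p ⁻¹ᵁ (U x₀).1) := p.finite_app _ (U x₀).2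
    have hV : IsAffineOpen (p ⁻¹ᵁ (U x₀).1) := (U x₀).2.preimage p
    have hmem : ∀ q : Spec Γ(T, (U x₀).1), (U x₀).2.fromSpec q ∈ (U x₀).1 := fun q => by
      rw [← SetLike.mem_coe, ← (U x₀).2.range_fromSpec]; exact ⟨q, rfl⟩
    have hinjφ : Function.Injective φ.hom := by
      intro a b hab
      refine section_ext_of_isReduced a b fun t ht => ?_
      obtain ⟨w, rfl⟩ := p.surjective t
      apply (p.residueFieldMap w).hom.injective
      rw [Scheme.evaluation_naturality_apply p w ht a, Scheme.evaluation_naturality_apply p w ht b]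
      exact congrArg _ hab
    have hsurj : Function.Surjective φ.hom := by
      refine surjective_algebraMap_of_seminormal (hU x₀) hinjφ fun c q => ?_
      let t := (U x₀).2.fromSpec q
      obtain ⟨w, hw⟩ := p.surjective t
      have hwV : p w ∈ (U x₀).1 := by rw [hw]; exact hmem q
      obtain ⟨τ, hτ⟩ := hres w (W.evaluation _ w hwV c)
      obtain ⟨n, d, hd, hτd⟩ := exists_evaluation_frac (U x₀).2 q (p w) hwV hw.symm τ
      refine ⟨d, n, hd, fun Q hQ => ?_⟩
      let y := hV.fromSpec Q
      have hy : y ∈ p ⁻¹ᵁ (U x₀).1 := by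
        rw [← SetLike.mem_coe, ← hV.range_fromSpec]; exact ⟨Q, rfl⟩
      have hpy : p y = t := by
        show p (hV.fromSpec Q) = (U x₀).2.fromSpec q
        rw [← Scheme.Hom.comp_apply, ← IsAffineOpen.SpecMap_appLE_fromSpec p (U x₀).2 hV le_rfl,
          Scheme.Hom.comp_apply, ← hQ]
        congr 1
        rw [← Scheme.Hom.app_eq_appLE]
        rfl
      obtain rfl : y = w := hinj (hpy.trans hw.symm)
      have hzero : W.evaluation _ y hy (φ.hom d * c - φ.hom n) = 0 := by
        rw [map_sub, map_mul, ← hτ,
          show W.evaluation _ y hy (φ.hom d) = (p.residueFieldMap y).hom (T.evaluation _ (p y) hy d) from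
            (Scheme.evaluation_naturality_apply p y hy d).symm,
          show W.evaluation _ y hy (φ.hom n) = (p.residueFieldMap y).hom (T.evaluation _ (p y) hy n) from
            (Scheme.evaluation_naturality_apply p y hy n).symm, ← map_mul, ← map_sub]
        refine (congrArg _ ?_).trans (map_zero (p.residueFieldMap y).hom)
        rw [sub_eq_zero, mul_comm]
        exact hτd
      by_contra hQmem
      refine (Scheme.evaluation_ne_zero_iff_mem_basicOpen W y hy _).2 ?_ hzero
      have : Q ∈ (hV.fromSpec ⁻¹ᵁ W.basicOpen (φ.hom d * c - φ.hom n) : (Spec _).Opens) := by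
        rw [hV.fromSpec_preimage_basicOpen]
        exact hQmem
      exact this
    exact (ConcreteCategory.isIso_iff_bijective φ).2 ⟨hinjφ, hsurj⟩
  exact (IsZariskiLocalAtTarget.iff_of_iSup_eq_top (P := MorphismProperty.isomorphisms Scheme)
    (fun x => (U x).1) (top_unique fun x _ => TopologicalSpace.Opens.mem_iSup.2 ⟨x, hxU x⟩)).2 key

theorem exists_lift_seminormal {T X Y : Scheme.{u}} [IsLocallyNoetherian T] (hT : HTop.IsSeminormal T)
    (f : X ⟶ Y) [IsProper f] [UniversallyInjective f] (g : T ⟶ Y)
    (hlift : ∀ t : T, ∃ l : Spec (T.residueField t) ⟶ X, l ≫ f = T.fromSpecResidueField t ≫ g) :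
    ∃ h : T ⟶ X, h ≫ f = g := by
  let p := pullback.fst g f
  have : UniversallyInjective p := MorphismProperty.pullback_fst g f ‹_›
  have hp : Function.Injective p := p.injective
  have hsec : ∀ t : T, ∃ σ : Spec (T.residueField t) ⟶ pullback g f,
      σ ≫ p = T.fromSpecResidueField t := fun t => by
    obtain ⟨l, hl⟩ := hlift t
    exact ⟨pullback.lift _ l hl.symm, pullback.lift_fst _ _ _⟩
  have hpsurj : Surjective p := ⟨fun t => by
    obtain ⟨σ, hσ⟩ := hsec t
    refine ⟨σ (closedPoint _), ?_⟩
    rw [← Scheme.Hom.comp_apply, hσ, Scheme.fromSpecResidueField_apply]⟩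
  have gen : ∀ {S : Scheme.{u}} (σ : S ⟶ pullback g f) (z : S), SurjectiveOnStalks (σ ≫ p) →
      ∀ u, σ z = u → Function.Surjective (p.residueFieldMap u).hom := by
    intro S σ z _ u hu v
    subst hu
    obtain ⟨w, hw⟩ := residueFieldMap_surjective (σ ≫ p) z ((σ.residueFieldMap z).hom v)
    refine ⟨w, (σ.residueFieldMap z).hom.injective ?_⟩
    rw [Scheme.residueFieldMap_comp] at hw
    exact hw
  have hresP : ∀ u, Function.Surjective (p.residueFieldMap u).hom := fun u => by
    obtain ⟨σ, hσ⟩ := hsec (p u)
    refine gen σ (closedPoint (T.residueField (p u))) (by rw [hσ]; infer_instance) u (hp ?_)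
    rw [← Scheme.Hom.comp_apply, hσ, Scheme.fromSpecResidueField_apply]
  let P := pullback g f
  let j := P.nilradical.subschemeι
  have := FlatMor67.isReduced_subscheme_nilradical P
  have hj : Surjective j := ⟨Set.range_eq_univ.1 (by
    rw [Scheme.IdealSheafData.range_subschemeι, Scheme.support_nilradical]; rfl)⟩
  have := isIso_of_seminormal (j ≫ p) hT
    (by rw [Scheme.Hom.comp_base, TopCat.coe_comp]; exact hp.comp j.isClosedEmbedding.injective)
    fun w v => by
      obtain ⟨v', rfl⟩ := residueFieldMap_surjective j w v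
      obtain ⟨u', rfl⟩ := hresP (j w) v'
      exact ⟨u', congrArg (fun k => k.hom u') (Scheme.residueFieldMap_comp j p w)⟩
  refine ⟨inv (j ≫ p) ≫ j ≫ pullback.snd g f, ?_⟩
  rw [Category.assoc, Category.assoc, ← pullback.condition, IsIso.inv_comp_eq, Category.assoc]

end Groth.Agent.HTop50
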