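import Groth.Agent.VCov93.Basic
import Mathlib.AlgebraicGeometry.AffineTransitionLimit
import Mathlib.Order.Filter.Ultrafilter.Basic

/-! The valuative lifting property passes to cofiltered limits of affine schemes. -/

set_option autoImplicit false
set_option linter.style.haveILetI false

universe w u

open CategoryTheory CategoryTheory.Limits AlgebraicGeometry Filter

namespace Groth.Agent.HTop50

/-- An ultraproduct of valuation rings is a valuation ring. -/
theorem exists_ultraproduct {P : Type u} (U : Ultrafilter P) (W : P → CommRingCat.{u})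
    [∀ p, IsDomain (W p)] [∀ p, ValuationRing (W p)] :
    ∃ (W' : CommRingCat.{u}) (_ : IsDomain W') (_ : ValuationRing W') (π : (∀ p, W p) →+* W'),
      Function.Surjective π ∧ ∀ x y, π x = π y ↔ ∀ᶠ p in U, x p = y p := by
  classical
  let I : Ideal (∀ p, W p) :=
    { carrier := {x | ∀ᶠ p in U, x p = 0}
      zero_mem' := Eventually.of_forall fun _ => rfl
      add_mem' := fun ha hb => by
        filter_upwards [ha, hb] with p h1 h2
        rw [Pi.add_apply, h1, h2, add_zero]
      smul_mem' := fun c x hx => by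
        filter_upwards [hx] with p h1
        rw [smul_eq_mul, Pi.mul_apply, h1, mul_zero] }
  have : I.IsPrime := ⟨fun h => by
      obtain ⟨p, hp⟩ := (show ∀ᶠ p in U, (1 : ∀ p, W p) p = 0 from (Ideal.eq_top_iff_one _).1 h).exists
      exact one_ne_zero hp,
    fun {x y} hxy => Ultrafilter.eventually_or.1 (hxy.mono fun p hp => mul_eq_zero.1 hp)⟩
  let π := Ideal.Quotient.mk I
  have hπe : ∀ x y, π x = π y ↔ ∀ᶠ p in U, x p = y p := fun x y => by
    rw [← sub_eq_zero, ← map_sub, Ideal.Quotient.eq_zero_iff_mem]
    exact eventually_congr (Eventually.of_forall fun p => sub_eq_zero)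
  have : IsDomain ((∀ p, W p) ⧸ I) := Ideal.Quotient.isDomain I
  have : ValuationRing ((∀ p, W p) ⧸ I) := by
    refine ValuationRing.iff_dvd_total.2 ⟨fun a b => ?_⟩
    obtain ⟨x, rfl⟩ := Ideal.Quotient.mk_surjective a
    obtain ⟨y, rfl⟩ := Ideal.Quotient.mk_surjective b
    have key : ∀ x y : ∀ p, W p, (∀ᶠ p in U, x p ∣ y p) → π x ∣ π y := fun x y h => by
      refine ⟨π fun p => if hd : x p ∣ y p then hd.choose else 0, ?_⟩
      rw [← map_mul, hπe]
      filter_upwards [h] with p hd
      show y p = x p * _
      beta_reduce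
      rw [dif_pos hd]
      exact hd.choose_spec
    rcases Ultrafilter.eventually_or.1
      (Eventually.of_forall fun p => ValuationRing.dvd_total (x p) (y p)) with h | h
    · exact Or.inl (key x y h)
    · exact Or.inr (key y x h)
  exact ⟨CommRingCat.of ((∀ p, W p) ⧸ I), inferInstanceAs (IsDomain ((∀ p, W p) ⧸ I)),
    inferInstanceAs (ValuationRing ((∀ p, W p) ⧸ I)), π, Ideal.Quotient.mk_surjective, hπe⟩

variable {Y : Scheme.{u}} [IsAffine Y] {I : Type u} [SmallCategory I] [IsCofiltered I]
  {D : I ⥤ Over Y} [∀ i, IsAffine (D.obj i).left] {c : Cone D}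

set_option maxHeartbeats 800000 in
-- bookkeeping with schemes and rings
/-- The valuative lifting property passes to the limit. -/
theorem hasValLift_of_isLimit (hc : IsLimit ((Over.forget Y).mapCone c))
    (h : ∀ i, HTop.HasValLift (PreZeroHypercover.singleton.{w} (D.obj i).hom)) :
    HTop.HasValLift (PreZeroHypercover.singleton.{w} c.pt.hom) := by
  classical
  intro V _ _ g
  choose W iW1 iW2 φ hφ jW g' hg' using fun i => h i V g
  let P := Finset (Σ a b : I, a ⟶ b)
  let O : P → Finset I := fun p => p.image (fun m => m.1) ∪ p.image fun m => m.2.1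
  let H : ∀ p : P, Finset (Σ' (X Y : I) (_ : X ∈ O p) (_ : Y ∈ O p), X ⟶ Y) := fun p =>
    p.attach.image fun m => ⟨m.1.1, m.1.2.1, Finset.mem_union_left _ (Finset.mem_image_of_mem _ m.2),
      Finset.mem_union_right _ (Finset.mem_image_of_mem (fun m => m.2.1) m.2), m.1.2.2⟩
  choose k T hT using fun p => IsCofiltered.inf_exists (O p) (H p)
  let U : Ultrafilter P := Ultrafilter.of atTop
  have hU : ∀ m : Σ a b : I, a ⟶ b, ∀ᶠ p : P in (U : Filter P), m ∈ p := fun m =>
    (eventually_ge_atTop {m}).filter_mono (Ultrafilter.of_le atTop) |>.mono fun p hp =>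
      Finset.singleton_subset_iff.1 hp
  have hUi : ∀ i : I, ∀ᶠ p : P in (U : Filter P), i ∈ O p := fun i => (hU ⟨i, i, 𝟙 i⟩).mono fun p hp =>
    Finset.mem_union_left _ (Finset.mem_image_of_mem _ hp)
  obtain ⟨W', _, _, π, hπs, hπe⟩ := exists_ultraproduct U fun p => W (k p)
  -- the lift at each finite level
  let a : ∀ p i, i ∈ O p → (Γ((D.obj i).left, ⊤) ⟶ W (k p)) := fun p i hi =>
    Spec.preimage (g' (k p) ≫ (D.map (T p hi)).left ≫ (D.obj i).left.isoSpec.hom)
  let val : ∀ i, Γ((D.obj i).left, ⊤) → ∀ p, W (k p) := fun i x p =>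
    if hi : i ∈ O p then (a p i hi).hom x else 0
  have hval : ∀ i p (hi : i ∈ O p) x, val i x p = (a p i hi).hom x := fun i p hi x => dif_pos hi
  let ψ : ∀ i, Γ((D.obj i).left, ⊤) ⟶ W' := fun i => CommRingCat.ofHom
    { toFun := fun x => π (val i x)
      map_one' := by
        rw [← map_one π, hπe]
        filter_upwards [hUi i] with p hp
        rw [hval i p hp, map_one, Pi.one_apply]
      map_mul' := fun x y => by
        rw [← map_mul, hπe]
        filter_upwards [hUi i] with p hp
        rw [Pi.mul_apply, hval i p hp, hval i p hp, hval i p hp, map_mul]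
      map_zero' := by
        rw [← map_zero π, hπe]
        filter_upwards [hUi i] with p hp
        rw [hval i p hp, map_zero, Pi.zero_apply]
      map_add' := fun x y => by
        rw [← map_add, hπe]
        filter_upwards [hUi i] with p hp
        rw [Pi.add_apply, hval i p hp, hval i p hp, hval i p hp, map_add] }
  let Φ : V ⟶ W' := CommRingCat.ofHom (π.comp (RingHom.pi fun p => (φ (k p)).hom))
  have hΦ : HTop.IsExtVal V W' Φ := by
    refine ⟨(injective_iff_map_eq_zero _).2 fun x hx => ?_, ⟨fun x hx => ?_⟩⟩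
    · obtain ⟨p, hp⟩ := ((hπe _ 0).1 (hx.trans (map_zero π).symm)).exists
      exact (hφ (k p)).1 (hp.trans (map_zero (φ (k p)).hom).symm)
    · obtain ⟨b, hb⟩ := hx.exists_right_inv
      obtain ⟨b, rfl⟩ := hπs b
      change π _ * π b = 1 at hb
      rw [← map_mul, ← map_one π, hπe] at hb
      obtain ⟨p, hp⟩ := hb.exists
      have := (hφ (k p)).2
      refine (isUnit_map_iff (φ (k p)).hom x).1 ?_
      exact IsUnit.of_mul_eq_one _ hp
  let sc : Cone (D ⋙ Over.forget Y) :=
    { pt := Spec W'
      π :=
        { app := fun i => Spec.map (ψ i) ≫ (D.obj i).left.isoSpec.inv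
          naturality := fun i j m => by
            show 𝟙 _ ≫ _ = (Spec.map (ψ i) ≫ (D.obj i).left.isoSpec.inv) ≫ (D.map m).left
            rw [Category.id_comp, Category.assoc, ← Scheme.isoSpec_inv_naturality,
              ← Spec.map_comp_assoc]
            congr 2
            refine CommRingCat.hom_ext (RingHom.ext fun x => (hπe _ _).2 ?_)
            filter_upwards [hU ⟨i, j, m⟩] with p hp
            have hi : i ∈ O p := Finset.mem_union_left _ (Finset.mem_image_of_mem _ hp)
            have hj : j ∈ O p :=
              Finset.mem_union_right _ (Finset.mem_image_of_mem (fun m => m.2.1) hp)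
            have hm : T p hi ≫ m = T p hj := hT p hi hj
              (Finset.mem_image_of_mem (s := p.attach) _ (Finset.mem_attach p ⟨⟨i, j, m⟩, hp⟩))
            show val j x p = val i ((D.map m).left.appTop.hom x) p
            rw [hval j p hj, hval i p hi, ← RingHom.comp_apply, ← CommRingCat.hom_comp]
            congr 2
            apply Spec.map_injective
            simp only [a, Spec.map_comp, Spec.map_preimage]
            rw [Category.assoc, Category.assoc, Scheme.isoSpec_hom_naturality, ← hm,
              D.map_comp, Over.comp_left]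
            exact congrArg (g' (k p) ≫ ·) (Category.assoc _ _ _) } }
  refine ⟨W', inferInstance, inferInstance, Φ, hΦ, PUnit.unit, hc.lift sc, ?_⟩
  obtain ⟨i⟩ := IsCofiltered.nonempty (C := I)
  show hc.lift sc ≫ c.pt.hom = Spec.map Φ ≫ g
  rw [show c.pt.hom = (c.π.app i).left ≫ (D.obj i).hom from (Over.w (c.π.app i)).symm]
  refine (Category.assoc _ _ _).symm.trans ((congrArg (· ≫ (D.obj i).hom) (hc.fac sc i)).trans ?_)
  show (Spec.map (ψ i) ≫ (D.obj i).left.isoSpec.inv) ≫ (D.obj i).hom = _
  rw [Category.assoc]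
  rw [← cancel_mono Y.isoSpec.hom, Category.assoc, Category.assoc, Category.assoc,
    ← Scheme.isoSpec_hom_naturality, Iso.inv_hom_id_assoc, ← Spec.map_preimage (g ≫ Y.isoSpec.hom),
    ← Spec.map_comp, ← Spec.map_comp]
  congr 1
  refine CommRingCat.hom_ext (RingHom.ext fun x => (hπe _ _).2 ?_)
  filter_upwards [hUi i] with p hp
  show val i ((D.obj i).hom.appTop.hom x) p = (φ (k p)).hom ((Spec.preimage (g ≫ Y.isoSpec.hom)).hom x)
  rw [hval i p hp, ← RingHom.comp_apply, ← CommRingCat.hom_comp, ← RingHom.comp_apply,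
    ← CommRingCat.hom_comp]
  congr 2
  apply Spec.map_injective
  simp only [a, Spec.map_comp, Spec.map_preimage]
  rw [Category.assoc, Category.assoc, Scheme.isoSpec_hom_naturality]
  refine (congrArg (g' (k p) ≫ ·) ((Category.assoc _ _ _).symm.trans
    (congrArg (· ≫ Y.isoSpec.hom) (Over.w (D.map (T p hp)))))).trans ?_
  exact (Category.assoc _ _ _).symm.trans ((congrArg (· ≫ Y.isoSpec.hom) (hg' (k p))).trans
    (Category.assoc _ _ _))

end Groth.Agent.HTop50
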