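import Groth.Agent.HTop50.OverTop
import Groth.Agent.HTop50.VSheaf
import Groth.Agent.HTop50.ValLimit
import Groth.Agent.LimTop61.RelApprox

/-! Limit preserving h sheaves are V sheaves. -/

set_option autoImplicit false
set_option linter.style.haveILetI false

universe w w' u

open CategoryTheory CategoryTheory.Limits AlgebraicGeometry Opposite

namespace Groth.Agent.HTop50

variable {S : Scheme.{u}} {F : (Over S)ᵒᵖ ⥤ Type w}

/-- An h covering family gives a covering sieve over the base. -/
theorem isSheafFor_overSieve_of_isHSheafOver (h1 : HTop.IsHSheafOver S F) (Y : Over S)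
    (E : PreZeroHypercover.{w'} Y.left) (hE : HTop.IsHCover E) :
    Presieve.IsSheafFor F ((Sieve.overEquiv Y).symm (Sieve.generate E.presieve₀) : Presieve Y) := by
  rw [Sieve.overEquiv_symm_generate, ← Presieve.isSheafFor_iff_generate]
  refine h1 _ ?_
  rw [Presieve.map_functorPullback_overForget]
  exact (HTop.presieve₀_mem_hPrecoverage_iff _).2 hE

/-- An h sheaf over the base is a Zariski sheaf. -/
theorem isSheaf_zariski_of_isHSheafOver (h1 : HTop.IsHSheafOver S F) :
    Presieve.IsSheaf (Scheme.zariskiTopology.over S) F := by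
  have hle : Scheme.zariskiTopology ≤ descTop F := by
    refine (Precoverage.toGrothendieck_le_iff_le_toPrecoverage).2 ?_
    intro X R hR
    obtain ⟨E, rfl⟩ := R.exists_eq_preZeroHypercover
    intro X' f x Z k
    rw [overSieve_pullback, ← Sieve.pullback_comp, generate_presieve₀_pullback]
    refine isSheafFor_overSieve_of_isHSheafOver h1 Z _ ⟨fun i => ?_, VCov93.isVCover_pullback _
      (VCov93.isVCover_of_fpqc ⟨E, Scheme.zariskiPrecoverage_le_fpqcPrecoverage _ hR⟩)⟩
    have : IsOpenImmersion (E.f i) := ((Scheme.presieve₀_mem_precoverage_iff E).1 hR).2 i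
    exact inferInstanceAs (LocallyOfFinitePresentation (pullback.fst (k.left ≫ f) (E.f i)))
  intro Y R hR
  have := isSheafFor_of_mem_descTop (hle _ ((GrothendieckTopology.mem_over_iff _ R).1 hR)) Y.hom
  rwa [show overSieve Y.hom (Sieve.overEquiv Y R) = R from
    (Sieve.overEquiv Y).symm_apply_apply R] at this

variable (h2 : ∀ (I : Type u) [SmallCategory I] [IsCofiltered I] (D : I ⥤ Over S),
  (∀ i, IsAffine (D.obj i).left) → ∀ (c : Cone D), IsLimit ((Over.forget S).mapCone c) →
    Nonempty (IsColimit (F.mapCocone c.op)))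

include h2

/-- Sections over the limit come from a stage. -/
theorem exists_section_stage {I : Type u} [SmallCategory I] [IsCofiltered I] {D : I ⥤ Over S}
    (hD : ∀ i, IsAffine (D.obj i).left) {c : Cone D} (hc : IsLimit ((Over.forget S).mapCone c))
    (x : F.obj (op c.pt)) : ∃ (i : I) (y : F.obj (op (D.obj i))), F.map (c.π.app i).op y = x := by
  obtain ⟨h⟩ := h2 I D hD c hc
  obtain ⟨i, y, hy⟩ := Types.jointly_surjective_of_isColimit h x
  exact ⟨i.unop, y, hy⟩

/-- Sections agreeing on the limit agree at a stage. -/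
theorem exists_stage_eq {I : Type u} [SmallCategory I] [IsCofiltered I] {D : I ⥤ Over S}
    (hD : ∀ i, IsAffine (D.obj i).left) {c : Cone D} (hc : IsLimit ((Over.forget S).mapCone c))
    {i : I} (y y' : F.obj (op (D.obj i))) (h : F.map (c.π.app i).op y = F.map (c.π.app i).op y') :
    ∃ (j : I) (f : j ⟶ i), F.map (D.map f).op y = F.map (D.map f).op y' := by
  obtain ⟨hl⟩ := h2 I D hD c hc
  obtain ⟨j, f, hf⟩ := (Types.FilteredColimit.isColimit_eq_iff' hl (i := op i) y y').1 h
  exact ⟨j.unop, f.unop, hf⟩

set_option maxHeartbeats 800000 in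
-- bookkeeping in over categories
/-- A single standard V covering of an affine scheme over the base. -/
theorem isSheafFor_singleton_standardV (h1 : HTop.IsHSheafOver S F) {U V : Over S} (k : V ⟶ U)
    [IsAffine U.left] [IsAffine V.left]
    (hk : HTop.HasValLift (PreZeroHypercover.singleton.{0} k.left)) :
    Presieve.IsSheafFor F (Presieve.singleton k) := by
  obtain ⟨J, _, _, D, c₀, hc₀, hD, ⟨e⟩⟩ :=
    (LimTop61.isAffineHom_iff_isLimit_affine_fp k.left).1 inferInstance
  have : IsConnected Jᵒᵖ := IsCofiltered.isConnected _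
  let c : Cone D := { pt := Over.mk k.left, π := (Functor.const _).map e.inv ≫ c₀.π }
  have hc₁ : IsLimit c := IsLimit.extendIso e.inv hc₀
  have hc : IsLimit ((Over.forget U.left).mapCone c) := isLimitOfPreserves _ hc₁
  have haff : ∀ i, IsAffine (D.obj i).left := fun i =>
    have := (hD i).1
    isAffine_of_isAffineHom (D.obj i).hom
  let D' : Jᵒᵖ ⥤ Over S := D ⋙ Over.map U.hom
  let kk : ∀ i, D'.obj i ⟶ U := fun i => Over.homMk (D.obj i).hom rfl
  let ρ : ∀ i, V ⟶ D'.obj i := fun i => Over.homMk (c.π.app i).left (by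
    show (c.π.app i).left ≫ (D.obj i).hom ≫ U.hom = V.hom
    rw [reassoc_of% (Over.w (c.π.app i))]
    exact Over.w k)
  have hρk : ∀ i, ρ i ≫ kk i = k := fun i => Over.OverMorphism.ext (Over.w (c.π.app i))
  have hρ : ∀ {i j} (f : i ⟶ j), ρ i ≫ D'.map f = ρ j := fun {i j} f => by
    have := congrArg (fun m => Over.Hom.left m) (c.w f)
    exact Over.OverMorphism.ext this
  let cV : Cone D' :=
    { pt := V
      π := { app := ρ, naturality := fun i j f => by
              show 𝟙 V ≫ ρ j = ρ i ≫ D'.map f
              rw [Category.id_comp, hρ] } }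
  have hcV : IsLimit ((Over.forget S).mapCone cV) := hc
  have hkk : ∀ {i j} (f : i ⟶ j), D'.map f ≫ kk j = kk i := fun {i j} f =>
    Over.OverMorphism.ext (Over.w (D.map f))
  have hcov : ∀ i, Presieve.IsSheafFor F (Presieve.singleton (kk i)) := fun i => by
    refine h1 _ ?_
    rw [Presieve.map_singleton, ← singleton_presieve₀.{0} ((Over.forget S).map (kk i))]
    refine (HTop.presieve₀_mem_hPrecoverage_iff _).2 ⟨fun _ => (hD i).2, isVCover_of_isStandardV'
      ⟨inferInstance, inferInstanceAs (Finite PUnit), fun _ => haff i,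
        VCov93.hasValLift_of_refines (fun _ => ⟨PUnit.unit, (ρ i).left, ?_⟩) hk⟩⟩
    exact congrArg Over.Hom.left (hρk i)
  rw [Presieve.isSheafFor_singleton]
  intro x hx
  -- the system of fibre products
  let P : Jᵒᵖ ⥤ Over S :=
    { obj := fun i => Over.mk (pullback.fst (D.obj i).hom (D.obj i).hom ≫ (D'.obj i).hom)
      map := fun {i j} f => Over.homMk (pullback.map _ _ _ _ (D.map f).left (D.map f).left (𝟙 _)
          (by rw [Category.comp_id, Over.w]) (by rw [Category.comp_id, Over.w]))
        (by
          show pullback.map _ _ _ _ _ _ _ _ _ ≫ pullback.fst _ _ ≫ (D'.obj j).hom =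
            pullback.fst _ _ ≫ (D'.obj i).hom
          rw [pullback.lift_fst_assoc, Category.assoc]
          exact congrArg (pullback.fst _ _ ≫ ·) (Over.w (D'.map f)))
      map_id := fun i => Over.OverMorphism.ext (pullback.hom_ext
        ((pullback.lift_fst _ _ _).trans (by simp))
        ((pullback.lift_snd _ _ _).trans (by simp)))
      map_comp := fun f g => Over.OverMorphism.ext (pullback.hom_ext
        ((pullback.lift_fst _ _ _).trans (((Category.assoc _ _ _).trans
          ((congrArg (_ ≫ ·) (pullback.lift_fst _ _ _)).trans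
            ((Category.assoc _ _ _).symm.trans ((congrArg (· ≫ _) (pullback.lift_fst _ _ _)).trans
              (by simp))))).symm))
        ((pullback.lift_snd _ _ _).trans (((Category.assoc _ _ _).trans
          ((congrArg (_ ≫ ·) (pullback.lift_snd _ _ _)).trans
            ((Category.assoc _ _ _).symm.trans ((congrArg (· ≫ _) (pullback.lift_snd _ _ _)).trans
              (by simp))))).symm))) }
  let Z : Over S := Over.mk (pullback.fst k.left k.left ≫ V.hom)
  let p₁ : Z ⟶ V := Over.homMk (pullback.fst _ _) rfl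
  let p₂ : Z ⟶ V := Over.homMk (pullback.snd k.left k.left) (by
    show pullback.snd _ _ ≫ V.hom = pullback.fst _ _ ≫ V.hom
    rw [← Over.w k, ← pullback.condition_assoc])
  let q : ∀ i, Z ⟶ P.obj i := fun i => Over.homMk (pullback.map k.left k.left (D.obj i).hom (D.obj i).hom
      (ρ i).left (ρ i).left (𝟙 _) (by rw [Category.comp_id]; exact (Over.w (c.π.app i)).symm)
      (by rw [Category.comp_id]; exact (Over.w (c.π.app i)).symm))
    (by
      show pullback.map _ _ _ _ _ _ _ _ _ ≫ pullback.fst _ _ ≫ (D'.obj i).hom =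
        pullback.fst k.left k.left ≫ V.hom
      rw [pullback.lift_fst_assoc, Category.assoc]
      exact congrArg (pullback.fst _ _ ≫ ·) (Over.w (ρ i)))
  let f₁ : ∀ i, P.obj i ⟶ D'.obj i := fun i => Over.homMk (pullback.fst _ _) rfl
  let f₂ : ∀ i, P.obj i ⟶ D'.obj i := fun i => Over.homMk (pullback.snd _ _) (by
    show pullback.snd (D.obj i).hom (D.obj i).hom ≫ (D.obj i).hom ≫ U.hom =
      pullback.fst _ _ ≫ (D.obj i).hom ≫ U.hom
    rw [← pullback.condition_assoc])
  have hP₁ : ∀ {i j} (f : i ⟶ j), P.map f ≫ f₁ j = f₁ i ≫ D'.map f := fun {i j} f =>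
    Over.OverMorphism.ext (pullback.lift_fst _ _ _)
  have hP₂ : ∀ {i j} (f : i ⟶ j), P.map f ≫ f₂ j = f₂ i ≫ D'.map f := fun {i j} f =>
    Over.OverMorphism.ext (pullback.lift_snd _ _ _)
  have hq₁ : ∀ i, q i ≫ f₁ i = p₁ ≫ ρ i := fun i => Over.OverMorphism.ext (pullback.lift_fst _ _ _)
  have hq₂ : ∀ i, q i ≫ f₂ i = p₂ ≫ ρ i := fun i => Over.OverMorphism.ext (pullback.lift_snd _ _ _)
  have hq : ∀ {i j} (f : i ⟶ j), q i ≫ P.map f = q j := fun {i j} f => by
    refine Over.OverMorphism.ext (pullback.hom_ext ?_ ?_)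
    · exact congrArg Over.Hom.left (show (q i ≫ P.map f) ≫ f₁ j = q j ≫ f₁ j by
        rw [Category.assoc, hP₁, reassoc_of% (hq₁ i), hρ, hq₁])
    · exact congrArg Over.Hom.left (show (q i ≫ P.map f) ≫ f₂ j = q j ≫ f₂ j by
        rw [Category.assoc, hP₂, reassoc_of% (hq₂ i), hρ, hq₂])
  let cZ : Cone P :=
    { pt := Z
      π := { app := q, naturality := fun i j f => by
              show 𝟙 Z ≫ q j = q i ≫ P.map f
              rw [Category.id_comp, hq] } }
  have haP : ∀ i, IsAffine (P.obj i).left := fun i =>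
    have := haff i
    inferInstanceAs (IsAffine (pullback (D.obj i).hom (D.obj i).hom))
  have hcZ : IsLimit ((Over.forget S).mapCone cZ) := by
    let n₁ : P ⋙ Over.forget S ⟶ D ⋙ Over.forget U.left :=
      { app := fun i => pullback.fst (D.obj i).hom (D.obj i).hom
        naturality := fun i j f => pullback.lift_fst _ _ _ }
    let n₂ : P ⋙ Over.forget S ⟶ D ⋙ Over.forget U.left :=
      { app := fun i => pullback.snd (D.obj i).hom (D.obj i).hom
        naturality := fun i j f => pullback.lift_snd _ _ _ }
    let a₁ : Cone (P ⋙ Over.forget S) → Cone (D ⋙ Over.forget U.left) := (Cone.postcompose n₁).obj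
    let a₂ : Cone (P ⋙ Over.forget S) → Cone (D ⋙ Over.forget U.left) := (Cone.postcompose n₂).obj
    have hcond : ∀ s, hc.lift (a₁ s) ≫ k.left = hc.lift (a₂ s) ≫ k.left := fun s => by
      obtain ⟨i⟩ := IsCofiltered.nonempty (C := Jᵒᵖ)
      rw [show k.left = (c.π.app i).left ≫ (D.obj i).hom from (Over.w (c.π.app i)).symm]
      refine (Category.assoc _ _ _).symm.trans (((congrArg (· ≫ (D.obj i).hom) (hc.fac (a₁ s) i)).trans ?_).trans
        ((congrArg (· ≫ (D.obj i).hom) (hc.fac (a₂ s) i)).symm.trans (Category.assoc _ _ _)))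
      show (s.π.app i ≫ pullback.fst (D.obj i).hom (D.obj i).hom) ≫ (D.obj i).hom =
        (s.π.app i ≫ pullback.snd (D.obj i).hom (D.obj i).hom) ≫ (D.obj i).hom
      exact (Category.assoc _ _ _).trans ((congrArg (s.π.app i ≫ ·) pullback.condition).trans (Category.assoc _ _ _).symm)
    refine { lift := fun s => pullback.lift (hc.lift (a₁ s)) (hc.lift (a₂ s)) (hcond s), fac := fun s i => ?_, uniq := fun s m hm => ?_ }
    · show pullback.lift (hc.lift (a₁ s)) (hc.lift (a₂ s)) (hcond s) ≫ (q i).left = s.π.app i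
      refine pullback.hom_ext ?_ ?_
      · rw [Category.assoc]
        erw [pullback.lift_fst, pullback.lift_fst_assoc]
        exact hc.fac (a₁ s) i
      · rw [Category.assoc]
        erw [pullback.lift_snd, pullback.lift_snd_assoc]
        exact hc.fac (a₂ s) i
    · refine pullback.hom_ext ?_ ?_
      · erw [pullback.lift_fst]
        refine hc.hom_ext fun i => ((Category.assoc _ _ _).trans ?_).trans (hc.fac (a₁ s) i).symm
        show m ≫ pullback.fst k.left k.left ≫ (ρ i).left = s.π.app i ≫ pullback.fst _ _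
        rw [← hm i]
        exact (congrArg (m ≫ ·) (congrArg (fun t => Over.Hom.left t) (hq₁ i).symm :)).trans
          (Category.assoc _ _ _).symm
      · erw [pullback.lift_snd]
        refine hc.hom_ext fun i => ((Category.assoc _ _ _).trans ?_).trans (hc.fac (a₂ s) i).symm
        show m ≫ pullback.snd k.left k.left ≫ (ρ i).left = s.π.app i ≫ pullback.snd _ _
        rw [← hm i]
        exact (congrArg (m ≫ ·) (congrArg (fun t => Over.Hom.left t) (hq₂ i).symm :)).trans
          (Category.assoc _ _ _).symm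
  -- descend
  obtain ⟨i, y, hy⟩ := exists_section_stage h2 (fun i => haff i) hcV x
  have hzz : F.map (q i).op (F.map (f₁ i).op y) = F.map (q i).op (F.map (f₂ i).op y) := by
    rw [← Functor.map_comp_apply, ← Functor.map_comp_apply, ← op_comp, ← op_comp, hq₁, hq₂,
      op_comp, op_comp, Functor.map_comp_apply, Functor.map_comp_apply]
    change F.map p₁.op (F.map (cV.π.app i).op y) = F.map p₂.op (F.map (cV.π.app i).op y)
    rw [hy]
    exact hx p₁ p₂ (Over.OverMorphism.ext pullback.condition)
  obtain ⟨j, f, hf⟩ := exists_stage_eq h2 haP hcZ _ _ hzz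
  rw [← Functor.map_comp_apply, ← Functor.map_comp_apply, ← op_comp, ← op_comp, hP₁, hP₂,
    op_comp, op_comp, Functor.map_comp_apply, Functor.map_comp_apply] at hf
  obtain ⟨s, hs, -⟩ := (Presieve.isSheafFor_singleton.1 (hcov j)) (F.map (D'.map f).op y)
    fun {T} t₁ t₂ ht => by
      let t : T ⟶ P.obj j := Over.homMk (pullback.lift t₁.left t₂.left (congrArg Over.Hom.left ht))
        (by
          show pullback.lift _ _ _ ≫ pullback.fst _ _ ≫ (D'.obj j).hom = T.hom
          rw [pullback.lift_fst_assoc]
          exact Over.w t₁)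
      rw [show t₁ = t ≫ f₁ j from Over.OverMorphism.ext (pullback.lift_fst _ _ _).symm,
        show t₂ = t ≫ f₂ j from Over.OverMorphism.ext (pullback.lift_snd _ _ _).symm,
        op_comp, op_comp, Functor.map_comp_apply, Functor.map_comp_apply]
      exact congrArg (F.map t.op) hf
  refine ⟨s, ?_, fun s' hs' => ?_⟩
  · show F.map k.op s = x
    rw [← hρk j, op_comp, Functor.map_comp_apply, hs, ← Functor.map_comp_apply, ← op_comp, hρ]
    exact hy
  · have hx' : F.map k.op s = x := by
      rw [← hρk j, op_comp, Functor.map_comp_apply, hs, ← Functor.map_comp_apply, ← op_comp, hρ]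
      exact hy
    have heq : F.map (cV.π.app j).op (F.map (kk j).op s') = F.map (cV.π.app j).op (F.map (kk j).op s) := by
      rw [← Functor.map_comp_apply, ← Functor.map_comp_apply, ← op_comp,
        show cV.π.app j ≫ kk j = k from hρk j]
      exact hs'.trans hx'.symm
    obtain ⟨l, g, hg⟩ := exists_stage_eq h2 (fun i => haff i) hcV _ _ heq
    rw [← Functor.map_comp_apply, ← Functor.map_comp_apply, ← op_comp, hkk] at hg
    refine ((hcov l).isSeparatedFor).ext ?_
    rintro _ _ ⟨⟩
    exact hg

theorem isVSheafOver_of_isHSheafOver (h1 : HTop.IsHSheafOver S F) : HTop.IsVSheafOver S F := by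
  have hZ := isSheaf_zariski_of_isHSheafOver h1
  have hsingle : ∀ (U V : Scheme.{u}) (g : V ⟶ U),
      HTop.IsStandardV (PreZeroHypercover.singleton.{0} g) →
        Sieve.generate (Presieve.singleton g) ∈ descTop F U := fun U V g hg => by
    have := hg.isAffine
    have : IsAffine V := hg.isAffine_obj PUnit.unit
    refine mem_descTop_of_affine hZ fun U' f x hU' => ?_
    let k : Over.mk (pullback.fst f g ≫ x) ⟶ Over.mk x := Over.homMk (pullback.fst f g) rfl
    have e : overSieve x ((Sieve.generate (Presieve.singleton g)).pullback f) =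
        Sieve.generate (Presieve.singleton k) := by
      rw [generate_singleton_pullback, overSieve, Sieve.overEquiv_symm_generate]
      congr 1
      rw [show Presieve.singleton (pullback.fst f g) = (Presieve.singleton k).map (Over.forget S) from
        (Presieve.map_singleton (F := Over.forget S) k).symm, Presieve.functorPullback_map_overForget]
    rw [e, ← Presieve.isSheafFor_iff_generate]
    have : IsAffine (Over.mk x).left := hU'
    have : IsAffine (Over.mk (pullback.fst f g ≫ x)).left := inferInstanceAs (IsAffine (pullback f g))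
    exact isSheafFor_singleton_standardV h2 h1 k (VCov93.isStandardV_pullback f hg).lift
  intro X R hR
  obtain ⟨E, hE, hER⟩ := PreZeroHypercoverFamily.mem_precoverage_iff.1 hR
  rw [Presieve.isSheafFor_iff_generate]
  have hmem : Sieve.generate E.presieve₀ ∈ descTop F X.left := by
    refine mem_descTop_of_affine hZ fun U f x hU => isSheafFor_of_mem_descTop ?_ x
    obtain ⟨G, hG, href⟩ := VCov93.exists_standard_refining hE f
    refine (descTop F).transitive (hsingle _ _ _ (isStandardV_sigmaDesc.{0} hG)) _ ?_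
    intro Z g hg
    obtain ⟨_, b, _, ⟨⟩, rfl⟩ := hg
    rw [Sieve.pullback_comp]
    refine (descTop F).pullback_stable b ((descTop F).superset_covering ?_
      (zariski_le_descTop hZ _ (sigmaOpenCover G.X).mem_grothendieckTopology))
    rw [Sieve.generate_le_iff]
    rintro _ _ ⟨l⟩
    obtain ⟨i, a, ha⟩ := href l
    refine ⟨_, a, _, ⟨i⟩, ha.trans ?_⟩
    show G.f l ≫ f = (_ ≫ Sigma.desc G.f) ≫ f
    exact congrArg (· ≫ f) (Sigma.ι_desc _ _).symm
  have := isSheafFor_of_mem_descTop hmem X.hom
  have hEq : overSieve X.hom (Sieve.generate E.presieve₀) = Sieve.generate R := by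
    refine (Sieve.overEquiv X).symm_apply_eq.2 ?_
    rw [Sieve.overEquiv_generate, ← hER]
    refine le_antisymm (Sieve.generate_le_iff _ _ |>.2 ?_) (Sieve.generate_le_iff _ _ |>.2 ?_)
    · rintro _ _ ⟨hg⟩
      exact Sieve.le_generate _ _ _ ⟨_, _, 𝟙 _, hg, (Category.id_comp _).symm⟩
    · rintro W g ⟨Y', u', v', hu', rfl⟩
      exact ⟨_, v', _, Presieve.map.of hu', rfl⟩
  rwa [hEq] at this

end Groth.Agent.HTop50
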