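import Mathlib

/-! Algebra for the devissage of proper surjective morphisms: norm forms of points, monic polynomials
making a primitive polynomial invertible, and maximal minors. -/

set_option autoImplicit false

universe u v w

open MvPolynomial

namespace Groth.Agent.HTop50

/-- The norm form of a tuple in a finite algebra: a nonzero form over the base field divisible by the
linear form of the tuple. -/
theorem exists_norm_form {K : Type u} {L : Type v} [Field K] [Field L] [Algebra K L]
    [Module.Finite K L] {σ : Type w} [Fintype σ] (a : σ → L) (j : σ) (hj : a j = 1) :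
    ∃ (r : ℕ) (F : MvPolynomial σ K), F.IsHomogeneous r ∧ F ≠ 0 ∧
      (∑ i, C (a i) * X i) ∣ MvPolynomial.map (algebraMap K L) F := by
  classical
  let bs := Module.Free.chooseBasis K L
  let ι := Module.Free.ChooseBasisIndex K L
  let Mi : σ → Matrix ι ι K := fun i => Algebra.leftMulMatrix bs (a i)
  let M : Matrix ι ι (MvPolynomial σ K) := Matrix.of fun p q => ∑ i, C (Mi i p q) * X i
  refine ⟨Fintype.card ι, M.det, ?_, ?_, ?_⟩
  · rw [Matrix.det_apply]
    refine IsHomogeneous.sum _ _ _ fun π _ => ?_
    rw [Units.smul_def, zsmul_eq_mul]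
    have h1 : (∏ q, M (π q) q).IsHomogeneous (Fintype.card ι) := by
      have h := IsHomogeneous.prod Finset.univ (fun q => M (π q) q) (fun _ => 1) fun q _ =>
        IsHomogeneous.sum _ _ _ fun i _ => isHomogeneous_C_mul_X _ i
      simpa using h
    rw [← map_intCast (C : K →+* MvPolynomial σ K)]
    exact h1.C_mul _
  · intro h
    have := congrArg (eval fun i => if i = j then (1 : K) else 0) h
    rw [RingHom.map_det, map_zero] at this
    have e : (eval fun i => if i = j then (1 : K) else 0).mapMatrix M = 1 := by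
      ext p q
      have h1 : Mi j = 1 := by simp [Mi, hj]
      simp [M, h1]
    rw [e, Matrix.det_one] at this
    exact one_ne_zero this
  · let ℓ : MvPolynomial σ L := ∑ i, C (a i) * X i
    let ML : Matrix ι ι (MvPolynomial σ L) := (MvPolynomial.map (algebraMap K L)).mapMatrix M
    let v : ι → MvPolynomial σ L := fun p => C (bs p)
    have hv : Matrix.vecMul v ML = ℓ • v := by
      funext q
      have hcol : ∀ i, ∑ p, algebraMap K L (Mi i p q) * bs p = a i * bs q := fun i => by
        simp only [Mi, Algebra.leftMulMatrix_eq_repr_mul, ← Algebra.smul_def]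
        exact bs.sum_repr (a i * bs q)
      simp only [Matrix.vecMul, dotProduct, ML, M, RingHom.mapMatrix_apply, Matrix.map_apply,
        Matrix.of_apply, map_sum, map_mul, map_C, map_X, v, Pi.smul_apply, smul_eq_mul, ℓ,
        Finset.mul_sum, Finset.sum_mul]
      rw [Finset.sum_comm]
      refine Finset.sum_congr rfl fun i _ => ?_
      rw [show C (a i) * X i * C (bs q) = C (a i * bs q) * (X i : MvPolynomial σ L) by
        rw [map_mul]; ring, ← hcol i, map_sum, Finset.sum_mul]
      refine Finset.sum_congr rfl fun p _ => ?_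
      rw [map_mul]
      ring
    have h2 := congrArg (fun x => Matrix.vecMul x ML.adjugate) hv
    simp only [Matrix.vecMul_vecMul, Matrix.mul_adjugate, Matrix.vecMul_smul, Matrix.vecMul_one,
      Matrix.smul_vecMul] at h2
    obtain ⟨p⟩ : Nonempty ι := bs.index_nonempty
    have h3 : ML.det * C (bs p) = ℓ * Matrix.vecMul v ML.adjugate p := congrFun h2 p
    have hu : IsUnit (C (bs p) : MvPolynomial σ L) := (bs.ne_zero p).isUnit.map C
    rw [RingHom.map_det, ← hu.dvd_mul_right (b := ML.det), h3]
    exact dvd_mul_right _ _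

/-- A polynomial with a coefficient equal to one becomes invertible, near any maximal ideal, modulo a
monic polynomial of positive degree. -/
theorem exists_monic_unit {R : Type u} [CommRing R] (Φ : Polynomial R) {N : ℕ} (hN : Φ.coeff N = 1)
    (m : Ideal R) [m.IsMaximal] :
    ∃ h : Polynomial R, h.Monic ∧ 0 < h.natDegree ∧ ∃ e ∉ m, ∃ ψ q : Polynomial R,
      Φ * ψ + h * q = Polynomial.C e := by
  classical
  let : Field (R ⧸ m) := Ideal.Quotient.field m
  let π := Ideal.Quotient.mk m
  let Φb := Φ.map π
  have hΦb : Φb ≠ 0 := fun h => by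
    have := congrArg (fun p => Polynomial.coeff p N) h
    simp [Φb, hN] at this
  let g := Polynomial.X * Φb + 1
  have hdeg : g.natDegree = Φb.natDegree + 1 := by
    rw [Polynomial.natDegree_add_eq_left_of_natDegree_lt] <;>
      simp [Polynomial.natDegree_X_mul hΦb]
  have hg0 : g ≠ 0 := fun h => by simp [h] at hdeg
  let hb := g * Polynomial.C g.leadingCoeff⁻¹
  have hbm : hb.Monic := Polynomial.monic_mul_leadingCoeff_inv hg0
  obtain ⟨h, hh, hhd, hhm⟩ := Polynomial.lifts_and_natDegree_eq_and_monic
    ((Polynomial.mem_lifts hb).2 (Polynomial.map_surjective π Ideal.Quotient.mk_surjective hb)) hbm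
  refine ⟨h, hhm, ?_, ?_⟩
  · rw [hhd, Polynomial.natDegree_mul_C (inv_ne_zero (Polynomial.leadingCoeff_ne_zero.2 hg0)), hdeg]
    omega
  have : Module.Finite R (AdjoinRoot h) := hhm.finite_adjoinRoot
  let J : Submodule R (AdjoinRoot h) :=
    (Ideal.span {AdjoinRoot.mk h Φ}).restrictScalars R
  obtain ⟨q₀, hq₀⟩ := Polynomial.map_surjective π Ideal.Quotient.mk_surjective
    (-Polynomial.X * 1 : Polynomial (R ⧸ m))
  obtain ⟨p₀, hp₀⟩ := Polynomial.map_surjective π Ideal.Quotient.mk_surjective
    (Polynomial.C g.leadingCoeff)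
  have h1 : (Φ * q₀ + h * p₀ - 1).map π = 0 := by
    simp only [Polynomial.map_sub, Polynomial.map_add, Polynomial.map_mul, Polynomial.map_one, hq₀,
      hp₀, hh, hb, mul_assoc, ← Polynomial.C_mul]
    rw [inv_mul_cancel₀ (Polynomial.leadingCoeff_ne_zero.2 hg0)]
    simp [g, Φb]
    ring
  have hone : (1 : AdjoinRoot h) ∈ J ⊔ m • (⊤ : Submodule R (AdjoinRoot h)) := by
    have h2 : AdjoinRoot.mk h (Φ * q₀ + h * p₀ - 1) ∈ m • (⊤ : Submodule R (AdjoinRoot h)) := by
      rw [Ideal.smul_top_eq_map]
      show AdjoinRoot.mk h _ ∈ Ideal.map (algebraMap R (AdjoinRoot h)) m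
      rw [AdjoinRoot.algebraMap_eq, AdjoinRoot.of, ← Ideal.map_map]
      refine Ideal.mem_map_of_mem _ (Ideal.mem_map_C_iff.2 fun n => ?_)
      rw [← Ideal.Quotient.eq_zero_iff_mem, ← Polynomial.coeff_map, h1, Polynomial.coeff_zero]
    rw [show (1 : AdjoinRoot h) =
      AdjoinRoot.mk h Φ * AdjoinRoot.mk h q₀ + -AdjoinRoot.mk h (Φ * q₀ + h * p₀ - 1) by
        simp [map_sub, map_add, map_mul]]
    exact Submodule.add_mem_sup (Ideal.mul_mem_right _ _ (Ideal.subset_span rfl))
      (Submodule.neg_mem _ h2)
  have htop : J ⊔ m • (⊤ : Submodule R (AdjoinRoot h)) = ⊤ := by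
    refine top_unique fun x _ => ?_
    obtain ⟨y, hy, z, hz, hyz⟩ := Submodule.mem_sup.1 hone
    rw [show x = x * y + x * z by rw [← mul_add, hyz, mul_one]]
    refine Submodule.add_mem_sup (Ideal.mul_mem_left _ x hy) ?_
    rw [Ideal.smul_top_eq_map] at hz ⊢
    exact Ideal.mul_mem_left _ x hz
  have hM : (⊤ : Submodule R (AdjoinRoot h ⧸ J)) ≤ m • ⊤ := by
    have := congrArg (Submodule.map J.mkQ) htop
    rw [Submodule.map_sup, Submodule.mkQ_map_self, bot_sup_eq, Submodule.map_smul'',
      Submodule.map_top, Submodule.range_mkQ] at this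
    exact this.ge
  obtain ⟨e, he, hez⟩ := Submodule.exists_sub_one_mem_and_smul_eq_zero_of_fg_of_le_smul m ⊤
    Module.Finite.fg_top hM
  refine ⟨e, fun hem => Ideal.IsPrime.ne_top (inferInstance : m.IsPrime)
    ((Ideal.eq_top_iff_one m).2 (by simpa using m.sub_mem hem he)), ?_⟩
  have h4 : e • (1 : AdjoinRoot h) ∈ J := by
    rw [← Submodule.Quotient.mk_eq_zero, Submodule.Quotient.mk_smul]
    exact hez _ trivial
  obtain ⟨ψ', hψ⟩ := Ideal.mem_span_singleton'.1 h4
  obtain ⟨ψ, rfl⟩ := AdjoinRoot.mk_surjective ψ'
  obtain ⟨q, hq⟩ := AdjoinRoot.mk_eq_mk.1 (show AdjoinRoot.mk h (Polynomial.C e) = AdjoinRoot.mk h (Φ * ψ) by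
    rw [map_mul, mul_comm, hψ, Algebra.smul_def, mul_one]
    rfl)
  exact ⟨ψ, q, by linear_combination -hq⟩

theorem coeff_prod_sum {R : Type u} [CommRing R] {ι : Type w} (s : Finset ι)
    (f : ι → Polynomial R) (n : ι → ℕ) (h : ∀ i ∈ s, (f i).natDegree ≤ n i) :
    (∏ i ∈ s, f i).coeff (∑ i ∈ s, n i) = ∏ i ∈ s, (f i).coeff (n i) := by
  classical
  induction s using Finset.induction_on with
  | empty => simp
  | insert x t hx ih =>
    rw [Finset.prod_insert hx, Finset.sum_insert hx, Finset.prod_insert hx,
      Polynomial.coeff_mul_add_eq_of_natDegree_le (h x (Finset.mem_insert_self _ _))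
        ((Polynomial.natDegree_prod_le _ _).trans (Finset.sum_le_sum fun i hi =>
          h i (Finset.mem_insert_of_mem hi))),
      ih fun i hi => h i (Finset.mem_insert_of_mem hi)]

/-- Points of a form divisible by a linear form: if the form is invertible at some tuple of integral
elements, the normalized coordinates are integral. -/
theorem isIntegral_normalized {R : Type u} {L : Type v} [CommRing R] [CommRing L] [Algebra R L]
    {σ : Type w} [Fintype σ] {r : ℕ} (F : MvPolynomial σ R) (hF : F.IsHomogeneous r) (a : σ → L)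
    (hdiv : (∑ i, C (a i) * X i) ∣ MvPolynomial.map (algebraMap R L) F)
    (t : σ → L) (ht : ∀ i, IsIntegral R (t i)) (v : L) (hv : IsIntegral R v)
    (hvF : v * aeval t F = 1) :
    ∃ u : L, u * ∑ i, t i * a i = 1 ∧ ∀ i, IsIntegral R (u * a i) := by
  classical
  obtain ⟨G, hG⟩ := hdiv
  have key : ∀ s : σ → L, aeval s F = (∑ i, s i * a i) * eval s G := fun s => by
    have := congrArg (eval s) hG
    rw [eval_map, map_mul] at this
    simpa [aeval_def, mul_comm] using this
  refine ⟨v * eval t G, by rw [mul_assoc, mul_comm (eval t G), ← key, hvF], fun i => ?_⟩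
  set b := v * eval t G * a i
  let S := integralClosure R L
  let ts : σ → S := fun l => ⟨t l, ht l⟩
  let vs : S := ⟨v, hv⟩
  let lin : σ → Polynomial S := fun l =>
    Polynomial.C (ts l) * Polynomial.X - (if l = i then 1 else 0)
  let P : Polynomial S := Polynomial.C vs * aeval lin F
  have hdeg : ∀ l, (lin l).natDegree ≤ 1 := fun l => by
    refine (Polynomial.natDegree_sub_le _ _).trans (max_le (Polynomial.natDegree_C_mul_le _ _ |>.trans
      Polynomial.natDegree_X_le) ?_)
    split_ifs <;> simp
  have hsum : ∀ e ∈ F.support, ∑ l ∈ e.support, e l = r := fun e he => by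
    simpa [Finsupp.weight_apply, Finsupp.sum] using hF (mem_support_iff.1 he)
  have hterm : ∀ e ∈ F.support, (∏ l ∈ e.support, lin l ^ e l).natDegree ≤ r ∧
      (∏ l ∈ e.support, lin l ^ e l).coeff r = ∏ l ∈ e.support, ts l ^ e l := by
    intro e he
    have h1 : ∀ l ∈ e.support, (lin l ^ e l).natDegree ≤ e l := fun l _ => by
      refine Polynomial.natDegree_pow_le.trans ?_
      simpa using Nat.mul_le_mul_left (e l) (hdeg l)
    refine ⟨(Polynomial.natDegree_prod_le _ _).trans ((Finset.sum_le_sum h1).trans (hsum e he).le), ?_⟩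
    rw [← hsum e he, coeff_prod_sum _ _ (fun l => e l) h1]
    refine Finset.prod_congr rfl fun l _ => ?_
    have h2 := Polynomial.coeff_pow_of_natDegree_le (m := e l) (hdeg l)
    rw [mul_one] at h2
    rw [h2]
    congr 1
    by_cases hli : l = i <;> simp [lin, hli, Polynomial.coeff_one]
  have hPd : P.natDegree ≤ r := by
    refine (Polynomial.natDegree_C_mul_le _ _).trans ?_
    rw [aeval_def, eval₂_eq]
    refine Polynomial.natDegree_sum_le_of_forall_le _ _ fun e he => ?_
    exact (Polynomial.natDegree_mul_le.trans (by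
      rw [show algebraMap R (Polynomial S) (coeff e F) =
        Polynomial.C (algebraMap R S (coeff e F)) from rfl, Polynomial.natDegree_C, zero_add]
      exact (hterm e he).1))
  have hPr : P.coeff r = 1 := by
    rw [Polynomial.coeff_C_mul, aeval_def, eval₂_eq, Polynomial.finsetSum_coeff]
    apply Subtype.ext
    rw [OneMemClass.coe_one, ← hvF, MulMemClass.coe_mul, AddSubmonoidClass.coe_finsetSum,
      aeval_def, eval₂_eq]
    show v * _ = v * _
    congr 1
    refine Finset.sum_congr rfl fun e he => ?_
    rw [show algebraMap R (Polynomial S) (coeff e F) =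
      Polynomial.C (algebraMap R S (coeff e F)) from rfl, Polynomial.coeff_C_mul, (hterm e he).2]
    simp [ts]
  have hP : P.Monic := Polynomial.monic_of_natDegree_le_of_coeff_eq_one r hPd hPr
  have h0 : Polynomial.eval₂ (algebraMap S L) b P = 0 := by
    show Polynomial.eval₂RingHom (algebraMap S L) b P = 0
    rw [map_mul, aeval_def, eval₂_comp_left (Polynomial.eval₂RingHom (algebraMap S L) b), Function.comp_def]
    have hs : (fun l => Polynomial.eval₂RingHom (algebraMap S L) b (lin l)) =
        fun l => t l * b - if l = i then 1 else 0 := funext fun l => by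
      by_cases hli : l = i <;> simp [lin, hli, ts]
    rw [hs, show (Polynomial.eval₂RingHom (algebraMap S L) b).comp (algebraMap R (Polynomial S)) =
      algebraMap R L from RingHom.ext fun x => Polynomial.eval₂_C _ _]
    rw [← aeval_def, key]
    have hl : ∑ l, (t l * b - if l = i then 1 else 0) * a l = 0 := by
      simp only [sub_mul, Finset.sum_sub_distrib, ite_mul, one_mul, zero_mul,
        Finset.sum_ite_eq', Finset.mem_univ, if_true]
      have hu : v * eval t G * ∑ l, t l * a l = 1 := by rw [mul_assoc, mul_comm (eval t G), ← key, hvF]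
      rw [show ∑ l, t l * b * a l = b * ∑ l, t l * a l by
        rw [Finset.mul_sum]; exact Finset.sum_congr rfl fun l _ => by ring]
      linear_combination a i * hu
    rw [hl, zero_mul, mul_zero]
  exact isIntegral_trans (A := S) b ⟨P, hP, h0⟩

/-- Coordinates in terms of minors: if the ratios of all maximal minors to one of them lie in a
subring, every member of the family is a combination of the chosen ones. -/
theorem exists_minors {K : Type u} {V : Type v} [Field K] [AddCommGroup V] [Module K V]
    {ι : Type w} [Finite ι] (g : ι → V) :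
    ∃ (r : ℕ) (δ : (Fin r → ι) → K), (∃ σ, δ σ ≠ 0) ∧
      ∀ σ, δ σ ≠ 0 → LinearIndependent K (g ∘ σ) ∧
        ∀ (R : Subring K), (∀ τ, δ τ / δ σ ∈ R) → ∀ i, ∃ c : Fin r → K,
          (∀ l, c l ∈ R) ∧ g i = ∑ l, c l • g (σ l) := by
  classical
  obtain ⟨b, hb, hsp, hli⟩ :=
    exists_linearIndependent K (Set.range g)
  have hfin : b.Finite := (Set.finite_range g).subset hb
  let r := Nat.card b
  have := hfin.to_subtype
  let en := Finite.equivFin b
  choose σ₀ hσ₀ using fun l : Fin r => hb (en.symm l).2
  let B : Fin r → V := fun l => (en.symm l : V)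
  have hBli : LinearIndependent K B := hli.comp _ en.symm.injective
  have hBsp : Submodule.span K (Set.range B) = Submodule.span K (Set.range g) := by
    rw [← hsp]
    congr 1
    rw [show B = Subtype.val ∘ en.symm from rfl, en.symm.surjective.range_comp, Subtype.range_coe]
  let bas := Module.Basis.span hBli
  let gs : ι → Submodule.span K (Set.range B) := fun i =>
    ⟨g i, hBsp ▸ Submodule.subset_span ⟨i, rfl⟩⟩
  refine ⟨r, fun σ => bas.det (gs ∘ σ), ⟨σ₀, ?_⟩, fun σ hσ => ?_⟩
  · have : gs ∘ σ₀ = bas := funext fun l => Subtype.ext (by simp [gs, bas, B, hσ₀, Module.Basis.span_apply])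
    simp [this, Module.Basis.det_self]
  · have hσu := (bas.is_basis_iff_det).2 hσ.isUnit
    refine ⟨hσu.1.map' (Submodule.span K (Set.range B)).subtype (Submodule.ker_subtype _),
      fun R hR i => ?_⟩
    let bσ := Module.Basis.mk hσu.1 hσu.2.ge
    refine ⟨fun l => bσ.repr (gs i) l, fun l => ?_, ?_⟩
    · have h1 : bσ.repr (gs i) l = bas.det (gs ∘ Function.update σ l i) / bas.det (gs ∘ σ) := by
        rw [eq_div_iff hσ, Function.comp_update]
        conv_rhs => rw [← bσ.sum_repr (gs i)]
        rw [AlternatingMap.map_update_sum, Finset.sum_eq_single l]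
        · simp only [AlternatingMap.map_update_smul, smul_eq_mul]
          congr 2
          rw [show bσ l = (gs ∘ σ) l from Module.Basis.mk_apply _ _ _, Function.update_eq_self]
        · intro k _ hk
          rw [AlternatingMap.map_update_smul]
          have : bas.det (Function.update (gs ∘ σ) l (bσ k)) = 0 :=
            bas.det.map_eq_zero_of_eq _ (by
              rw [Function.update_self, Function.update_of_ne hk]
              exact Module.Basis.mk_apply _ _ _) hk.symm
          simp [this]
        · simp
      show bσ.repr (gs i) l ∈ R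
      rw [h1]
      exact hR _
    · have := congrArg Subtype.val (bσ.sum_repr (gs i))
      simp only [AddSubmonoidClass.coe_finsetSum, Submodule.coe_smul] at this
      simpa [gs, bσ, Module.Basis.mk_apply] using this.symm

end Groth.Agent.HTop50
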