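import Groth.Agent.HTop50.Basic
import Groth.Agent.Approx60.ChowMain

/-! Refining local proper surjective coverings by a global one (via Chow's lemma). -/

set_option autoImplicit false
set_option linter.style.haveILetI false

universe w w' u

open CategoryTheory CategoryTheory.Limits AlgebraicGeometry Topology

namespace Groth.Agent.HTop50

variable {T : Scheme.{u}}

/-- Every point of `P` has a neighbourhood mapping to a member of `E`, compatibly with `q`. -/
def Factors {P : Scheme.{u}} (q : P ⟶ T) (E : PreZeroHypercover.{w} T) : Prop :=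
  ∀ p : P, ∃ (O : Scheme.{u}) (o : O ⟶ P) (i : E.I₀) (h : O ⟶ E.X i),
    IsOpenImmersion o ∧ p ∈ Set.range o ∧ h ≫ E.f i = o ≫ q

/-- A single proper surjective morphism refines `E` up to open coverings. -/
def GlobRef (E : PreZeroHypercover.{w} T) : Prop :=
  ∃ (R : Scheme.{u}) (r : R ⟶ T), IsProper r ∧ Surjective r ∧ Factors r E

/-- Locally on the base a proper surjective morphism refines `E` up to open coverings. -/
def LocRef (E : PreZeroHypercover.{w} T) : Prop :=
  ∀ z : T, ∃ (W : Scheme.{u}) (j : W ⟶ T) (P : Scheme.{u}) (q : P ⟶ W),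
    IsOpenImmersion j ∧ z ∈ Set.range j ∧ IsProper q ∧ Surjective q ∧ Factors (q ≫ j) E

theorem GlobRef.locRef {E : PreZeroHypercover.{w} T} (h : GlobRef E) : LocRef E := by
  obtain ⟨R, r, h1, h2, h3⟩ := h
  intro z
  exact ⟨T, 𝟙 T, R, r, inferInstance, ⟨z, rfl⟩, h1, h2, by rwa [Category.comp_id]⟩

theorem Factors.comp {P P' : Scheme.{u}} {q : P ⟶ T} {E : PreZeroHypercover.{w} T} (h : Factors q E)
    (k : P' ⟶ P) : Factors (k ≫ q) E := by
  intro p
  obtain ⟨O, o, i, a, ho, ⟨b, hb⟩, ha⟩ := h (k p)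
  obtain ⟨z, hz, -⟩ := Scheme.Pullback.exists_preimage_pullback (f := k) (g := o) p b hb.symm
  refine ⟨pullback k o, pullback.fst k o, i, pullback.snd k o ≫ a, inferInstance, ⟨z, hz⟩, ?_⟩
  rw [Category.assoc, ha, ← pullback.condition_assoc]

/-- The local data may be taken over affine schemes. -/
theorem LocRef.exists_affine {E : PreZeroHypercover.{w} T} (h : LocRef E) (z : T) :
    ∃ (W : Scheme.{u}) (j : W ⟶ T) (P : Scheme.{u}) (q : P ⟶ W),
      IsAffine W ∧ IsOpenImmersion j ∧ z ∈ Set.range j ∧ IsProper q ∧ Surjective q ∧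
        Factors (q ≫ j) E := by
  obtain ⟨W, j, P, q, hj, ⟨a, ha⟩, hq, hq', hf⟩ := h z
  obtain ⟨V, hV, haV, -⟩ := exists_isAffineOpen_mem_and_subset (U := (⊤ : W.Opens)) (x := a) trivial
  refine ⟨V, V.ι ≫ j, pullback q V.ι, pullback.snd q V.ι, hV, inferInstance, ⟨⟨a, haV⟩, ha⟩,
    inferInstance, inferInstance, ?_⟩
  rw [← pullback.condition_assoc]
  exact hf.comp _

theorem isProper_coprodDesc {X Y Z : Scheme.{u}} (f : X ⟶ Z) (g : Y ⟶ Z) [IsProper f] [IsProper g] :
    IsProper (coprod.desc f g) := by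
  rw [show coprod.desc f g = coprod.map f g ≫ coprod.desc (𝟙 Z) (𝟙 Z) by simp]
  have : IsProper (coprod.map f g) := IsZariskiLocalAtTarget.coprodMap f g ‹_› ‹_›
  infer_instance

/-- A proper surjective morphism over a quasi-compact open extends to the whole base. -/
theorem exists_ext [CompactSpace T] [QuasiSeparatedSpace T] {W P : Scheme.{u}} (j : W ⟶ T)
    [IsOpenImmersion j] [QuasiCompact j] (q : P ⟶ W) [IsProper q] [Surjective q]
    {E : PreZeroHypercover.{w} T} (hf : Factors (q ≫ j) E) :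
    ∃ (C : Scheme.{u}) (c : C ⟶ T), IsProper c ∧ Surjective c ∧ ∀ x : C, c x ∈ Set.range j →
      ∃ (O : Scheme.{u}) (o : O ⟶ C) (i : E.I₀) (h : O ⟶ E.X i),
        IsOpenImmersion o ∧ x ∈ Set.range o ∧ h ≫ E.f i = o ≫ c := by
  have : QuasiCompact (q ≫ j) := inferInstance
  obtain ⟨n, P', π, m, hm, hmw, hπ, hπs⟩ := Approx60.Chow.chow_qcqs (q ≫ j)
  let B := CohB1.ProjSpaceOver.toBase n T
  have hB : IsProper B := Approx60.Segre.isProper_toBase n T
  have : QuasiCompact (m ≫ B) := by rw [hmw]; infer_instance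
  have : QuasiCompact m := QuasiCompact.of_comp m B
  -- the part over `W` is closed
  let l : P' ⟶ pullback B j := pullback.lift m (π ≫ q) (by rw [hmw, Category.assoc])
  have : IsProper (l ≫ pullback.snd B j) := by rw [pullback.lift_snd]; infer_instance
  have hl : UniversallyClosed l := UniversallyClosed.of_comp_of_isSeparated l (pullback.snd B j)
  have hclosed : ∀ v : ↥(pullback B j), pullback.fst B j v ∈ closure (Set.range m) →
      ∃ p, m p = pullback.fst B j v := by
    intro v hv
    have hpre : pullback.fst B j ⁻¹' Set.range m = Set.range l := by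
      ext a
      constructor
      · rintro ⟨p, hp⟩
        refine ⟨p, (pullback.fst B j).isOpenEmbedding.injective ?_⟩
        rw [← Scheme.Hom.comp_apply, pullback.lift_fst]
        exact hp
      · rintro ⟨p, rfl⟩
        exact ⟨p, by rw [← Scheme.Hom.comp_apply, pullback.lift_fst]⟩
    have hv' : v ∈ closure (Set.range l) := by
      rw [← hpre, ← (pullback.fst B j).isOpenEmbedding.isOpenMap.preimage_closure_eq_closure_preimage
        (pullback.fst B j).continuous]
      exact hv
    rw [l.isClosedMap.isClosed_range.closure_eq] at hv'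
    obtain ⟨p, rfl⟩ := hv'
    exact ⟨p, by rw [← Scheme.Hom.comp_apply, pullback.lift_fst]⟩
  -- the complement
  let Kc : TopologicalSpace.Closeds T := ⟨(Set.range j)ᶜ, j.isOpenEmbedding.isOpen_range.isClosed_compl⟩
  let K := Scheme.IdealSheafData.vanishingIdeal Kc
  have hK : Set.range K.subschemeι = (Set.range j)ᶜ := by
    rw [Scheme.IdealSheafData.range_subschemeι, Scheme.IdealSheafData.coe_support_vanishingIdeal]
    rfl
  let cC : m.image ⟶ T := m.imageι ≫ B
  let c : m.image ⨿ K.subscheme ⟶ T := coprod.desc cC K.subschemeι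
  have : IsProper c := isProper_coprodDesc _ _
  let ι₁ : P' ⟶ m.image ⨿ K.subscheme := m.toImage ≫ coprod.inl
  have hι₁ : ι₁ ≫ c = (π ≫ q) ≫ j := by
    simp only [ι₁, c, cC, Category.assoc, coprod.inl_desc]
    rw [← Category.assoc, m.toImage_imageι, hmw]
  refine ⟨_, c, inferInstance, ⟨fun t => ?_⟩, fun x hx => ?_⟩
  · by_cases ht : t ∈ Set.range j
    · obtain ⟨a, rfl⟩ := ht
      obtain ⟨p, rfl⟩ := q.surjective a
      obtain ⟨p', rfl⟩ := π.surjective p
      exact ⟨ι₁ p', by
        rw [← Scheme.Hom.comp_apply, hι₁, Scheme.Hom.comp_apply, Scheme.Hom.comp_apply]⟩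
    · obtain ⟨k, hk⟩ : t ∈ Set.range K.subschemeι := by rw [hK]; exact ht
      exact ⟨(coprod.inr : K.subscheme ⟶ m.image ⨿ K.subscheme) k, by
        rw [← Scheme.Hom.comp_apply, coprod.inr_desc]; exact hk⟩
  · obtain ⟨p', hp'⟩ : ∃ p', ι₁ p' = x := by
      rcases (isCompl_range_inl_inr m.image K.subscheme).codisjoint.top_le
        (show x ∈ (⊤ : Set _) from trivial) with ⟨y, rfl⟩ | ⟨k, rfl⟩
      · rw [← Scheme.Hom.comp_apply, coprod.inl_desc] at hx
        obtain ⟨a, ha⟩ := hx
        obtain ⟨v, hv, -⟩ := Scheme.Pullback.exists_preimage_pullback (f := B) (g := j) (m.imageι y) a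
          ha.symm
        have hy : m.imageι y ∈ closure (Set.range m) := by
          have h0 : m.imageι y ∈ Set.range m.imageι := ⟨y, rfl⟩
          rw [Scheme.IdealSheafData.range_subschemeι, Scheme.Hom.support_ker] at h0
          exact h0
        obtain ⟨p, hp⟩ := hclosed v (hv ▸ hy)
        refine ⟨p, ?_⟩
        show (m.toImage ≫ coprod.inl) p = _
        rw [Scheme.Hom.comp_apply]
        congr 1
        refine m.imageι.isClosedEmbedding.injective ?_
        rw [← Scheme.Hom.comp_apply, m.toImage_imageι, hp, hv]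
      · rw [← Scheme.Hom.comp_apply, coprod.inr_desc] at hx
        have h0 : K.subschemeι k ∈ (Set.range j)ᶜ := hK ▸ Set.mem_range_self k
        exact absurd hx h0
    obtain ⟨O, o, i, h, ho, ⟨b, hb⟩, hh⟩ := hf.comp π p'
    refine ⟨O, o ≫ ι₁, i, h, inferInstance, ⟨b, ?_⟩, ?_⟩
    · rw [Scheme.Hom.comp_apply, hb, hp']
    · rw [hh, Category.assoc, hι₁, Category.assoc]

/-- A common proper surjective refinement of finitely many. -/
theorem exists_fibreProduct : ∀ (n : ℕ) (C : Fin n → Scheme.{u}) (c : ∀ k, C k ⟶ T),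
    (∀ k, IsProper (c k)) → (∀ k, Surjective (c k)) →
      ∃ (R : Scheme.{u}) (r : R ⟶ T), IsProper r ∧ Surjective r ∧ ∀ k, ∃ π : R ⟶ C k, π ≫ c k = r
  | 0, _, _, _, _ => ⟨T, 𝟙 T, inferInstance, inferInstance, fun k => k.elim0⟩
  | n + 1, C, c, hp, hs => by
    obtain ⟨R, r, h1, h2, h3⟩ := exists_fibreProduct n (fun k => C k.succ) (fun k => c k.succ)
      (fun k => hp _) (fun k => hs _)
    have := hp 0
    have := hs 0
    refine ⟨pullback r (c 0), pullback.fst r (c 0) ≫ r, inferInstance, inferInstance, fun k => ?_⟩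
    obtain rfl | ⟨k, rfl⟩ := Fin.eq_zero_or_eq_succ k
    · exact ⟨pullback.snd r (c 0), pullback.condition.symm⟩
    · obtain ⟨π, hπ⟩ := h3 k
      exact ⟨pullback.fst r (c 0) ≫ π, by rw [Category.assoc, hπ]⟩

/-- Over a quasi-compact quasi-separated base local refinements give a global one. -/
theorem LocRef.globRef [CompactSpace T] [QuasiSeparatedSpace T] {E : PreZeroHypercover.{w} T}
    (h : LocRef E) : GlobRef E := by
  classical
  choose W j P q haff hj hz hq hq' hf using h.exists_affine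
  obtain ⟨t, ht⟩ := isCompact_univ.elim_finite_subcover (fun z => Set.range (j z))
    (fun z => (j z).isOpenEmbedding.isOpen_range) fun z _ => Set.mem_iUnion.2 ⟨z, hz z⟩
  let e := t.equivFin.symm
  have hext : ∀ k : Fin t.card, ∃ (C : Scheme.{u}) (c : C ⟶ T), IsProper c ∧ Surjective c ∧
      ∀ x : C, c x ∈ Set.range (j (e k)) → ∃ (O : Scheme.{u}) (o : O ⟶ C) (i : E.I₀)
        (h : O ⟶ E.X i), IsOpenImmersion o ∧ x ∈ Set.range o ∧ h ≫ E.f i = o ≫ c := fun k => by
    have := haff (e k : T)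
    have := hq (e k : T)
    have := hq' (e k : T)
    have : QuasiCompact (j (e k : T)) := inferInstance
    exact exists_ext (j (e k : T)) (q (e k : T)) (hf (e k : T))
  choose C c hcp hcs hc using hext
  obtain ⟨R, r, hr, hr', hπ⟩ := exists_fibreProduct t.card C c hcp hcs
  refine ⟨R, r, hr, hr', fun x => ?_⟩
  obtain ⟨a, hat, ha⟩ := Set.mem_iUnion₂.1 (ht (Set.mem_univ (r x)))
  obtain ⟨π, hπk⟩ := hπ (t.equivFin ⟨a, hat⟩)
  obtain ⟨O, o, i, h, ho, ⟨b, hb⟩, hh⟩ := hc (t.equivFin ⟨a, hat⟩) (π x) (by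
    rw [← Scheme.Hom.comp_apply, hπk]
    show r x ∈ Set.range (j (t.equivFin.symm (t.equivFin ⟨a, hat⟩)))
    rw [Equiv.symm_apply_apply]
    exact ha)
  obtain ⟨z, hz', -⟩ := Scheme.Pullback.exists_preimage_pullback (f := π) (g := o) x b hb.symm
  refine ⟨pullback π o, pullback.fst π o, i, pullback.snd π o ≫ h, inferInstance, ⟨z, hz'⟩, ?_⟩
  rw [Category.assoc, hh, ← pullback.condition_assoc, hπk]

end Groth.Agent.HTop50
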