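import Groth.Agent.HTop50.NormForm
import Groth.Agent.HTop50.Devissage
import Groth.Agent.HTop50.PointEv

/-! Surjective morphisms with projective charts over finite algebras are covering in every topology
satisfying the devissage axioms. -/

set_option autoImplicit false
set_option linter.style.haveILetI false

universe u

open CategoryTheory AlgebraicGeometry MvPolynomial

namespace Groth.Agent.HTop50

/-- The digits of a number determine the exponents. -/
theorem sum_pow_injective (N : ℕ) : ∀ {n : ℕ} {e e' : Fin n → ℕ}, (∀ l, e l < N) → (∀ l, e' l < N) →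
    ∑ l, e l * N ^ (l : ℕ) = ∑ l, e' l * N ^ (l : ℕ) → e = e' := by
  intro n
  induction n with
  | zero => intro e e' _ _ _; exact funext fun l => l.elim0
  | succ n ih =>
    intro e e' he he' h
    have hh : ∀ f : Fin (n + 1) → ℕ, ∑ l, f l * N ^ (l : ℕ) = f 0 + N * ∑ l : Fin n, f l.succ * N ^ (l : ℕ) := by
      intro f
      rw [Fin.sum_univ_succ, Finset.mul_sum]
      simp [pow_succ]
      exact Finset.sum_congr rfl fun l _ => by ring
    rw [hh e, hh e'] at h
    have h0 : e 0 = e' 0 := by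
      have := congrArg (· % N) h
      simpa [Nat.add_mul_mod_self_left, Nat.mod_eq_of_lt (he 0), Nat.mod_eq_of_lt (he' 0)] using this
    have hN : 0 < N := lt_of_le_of_lt (Nat.zero_le _) (he 0)
    rw [h0] at h
    have h1 := ih (fun l => he l.succ) (fun l => he' l.succ)
      (Nat.eq_of_mul_eq_mul_left hN (Nat.add_left_cancel h))
    funext l
    refine Fin.cases h0 (fun i => ?_) l
    exact congrFun h1 i

/-- Lifting over the locus where a coordinate is invertible. -/
theorem lift_local {J : GrothendieckTopology Scheme.{u}} {A : CommRingCat.{u}} {D : Type u}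
    [CommRing D] [Algebra A D] {Y : Scheme.{u}} (S : Sieve (Spec A))
    (pD : Y ⟶ Spec (CommRingCat.of D)) (hS : S (pD ≫ Spec.map (CommRingCat.ofHom (algebraMap A D))))
    {y : Y} [Algebra A (Y.residueField y)]
    (φD : D →ₐ[A] Y.residueField y) {O : Y.Opens} (hyl : y ∈ O) {n : ℕ}
    (xl : Fin (n + 1) → Γ(Y, O))
    (hgen : ∀ c : Γ(Y, O), ∃ P : MvPolynomial (Fin (n + 1)) D, eval₂Hom (cst pD O) xl P = c)
    (hV : IsAffineOpen O) (a : Fin (n + 1) → Y.residueField y) {l : Fin (n + 1)}
    (hratio : ∀ k, a k = a l * Y.evaluation O y hyl (xl k))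
    {R5 L4 : Type u} [CommRing R5] [CommRing L4] [Algebra A R5] [Algebra R5 L4] [Algebra A L4]
    [Algebra (Y.residueField y) L4] [IsScalarTower A R5 L4] [IsScalarTower A (Y.residueField y) L4]
    {b : Fin (n + 1) → L4} (v' : L4) (hb : b = fun k => v' * algebraMap (Y.residueField y) L4 (a k))
    (B5 : Subalgebra R5 L4) (hbB : ∀ k, b k ∈ B5) (gD : Finset D)
    (hgD : Submodule.span A (gD : Set D) = ⊤)
    (hgDB : ∀ d ∈ gD, algebraMap (Y.residueField y) L4 (φD d) ∈ B5)
    (hφ : ∀ d, φD d = evg pD y d) :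
    S.pullback (Spec.map ((CommRingCat.ofHom (algebraMap A R5) ≫ CommRingCat.ofHom (algebraMap R5 B5)) ≫
      CommRingCat.ofHom (algebraMap B5 (Localization.Away (⟨b l, hbB l⟩ : B5))))) ∈ J _ := by
  subst hb
  let b : Fin (n + 1) → L4 := fun k => v' * algebraMap (Y.residueField y) L4 (a k)
  let bl : B5 := ⟨b l, hbB l⟩
  let L := Y.residueField y
  let g := pD ≫ Spec.map (CommRingCat.ofHom (algebraMap A D))
  let Loc := Localization.Away (bl)
  let Loc' := Localization.Away (B5.val.toRingHom (bl))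
  let ι' : Loc →+* Loc' := IsLocalization.map Loc'
    (M := Submonoid.powers (bl)) (T := Submonoid.powers (B5.val.toRingHom (bl))) B5.val.toRingHom
    (by rintro _ ⟨i, rfl⟩; exact ⟨i, (map_pow _ _ _).symm⟩)
  have hι' : ∀ z, ι' (algebraMap B5 Loc z) = algebraMap L4 Loc' z := fun z => IsLocalization.map_eq _ z
  have hι'inj : Function.Injective ι' := by
    refine (injective_iff_map_eq_zero ι').2 fun z hz => ?_
    obtain ⟨b', t, rfl⟩ := IsLocalization.exists_mk'_eq (Submonoid.powers bl) z
    rw [IsLocalization.map_mk', IsLocalization.mk'_eq_zero_iff] at hz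
    obtain ⟨⟨_, i, rfl⟩, hm⟩ := hz
    exact (IsLocalization.mk'_eq_zero_iff _ _).2 ⟨⟨bl ^ i, i, rfl⟩, Subtype.ext hm⟩
  let ε : Γ(Y, O) →+* Loc' :=
    ((algebraMap L4 Loc').comp (algebraMap L L4)).comp (Y.evaluation O y hyl).hom
  have hεD : ∀ d, ε (cst pD O d) ∈ ι'.range := by
    intro d
    have hd : d ∈ Submodule.span A (gD : Set D) := hgD ▸ Submodule.mem_top
    have hB : algebraMap L L4 (φD d) ∈ B5 := by
      induction hd using Submodule.span_induction with
      | mem z hz => exact hgDB z hz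
      | zero => simp
      | add z z' _ _ h1 h2 => rw [map_add, map_add]; exact add_mem h1 h2
      | smul t z _ h1 =>
        rw [map_smul, Algebra.smul_def, map_mul, ← IsScalarTower.algebraMap_apply A L L4,
          IsScalarTower.algebraMap_apply A R5 L4]
        exact mul_mem (B5.algebraMap_mem _) h1
    refine ⟨algebraMap B5 Loc ⟨_, hB⟩, (hι' _).trans ?_⟩
    show algebraMap L4 Loc' (algebraMap L L4 (φD d)) = algebraMap L4 Loc' (algebraMap L L4 (Y.evaluation O y hyl (cst pD O d)))
    rw [evaluation_cst_pt, hφ]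
  have hu : IsUnit (algebraMap L4 Loc' (b l)) :=
    IsLocalization.Away.algebraMap_isUnit (B5.val.toRingHom (bl))
  have hεx : ∀ i, ε (xl i) ∈ ι'.range := by
    intro i
    refine ⟨IsLocalization.mk' Loc (⟨b i, hbB i⟩ : B5) (⟨bl, Submonoid.mem_powers _⟩ : Submonoid.powers (bl)), ?_⟩
    apply hu.mul_left_injective
    show _ * algebraMap L4 Loc' (b l) = ε (xl i) * algebraMap L4 Loc' (b l)
    have h1 : ι' (IsLocalization.mk' Loc (⟨b i, hbB i⟩ : B5) (⟨bl, Submonoid.mem_powers _⟩ : Submonoid.powers (bl))) *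
        algebraMap L4 Loc' (b l) = algebraMap L4 Loc' (b i) := by
      rw [show algebraMap L4 Loc' (b l) = ι' (algebraMap B5 Loc (bl)) from (hι' bl).symm, ← map_mul,
        IsLocalization.mk'_spec, hι']
    rw [h1]
    simp only [ε, RingHom.comp_apply, b, ← map_mul]
    congr 1
    rw [hratio i, map_mul]
    ring
  have hrange : ∀ z, ε z ∈ ι'.range := by
    intro z
    obtain ⟨Q, rfl⟩ := hgen z
    induction Q using MvPolynomial.induction_on with
    | C d => rw [eval₂Hom_C]; exact hεD d
    | add Q Q' h1 h2 => rw [map_add, map_add]; exact add_mem h1 h2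
    | mul_X Q i h1 => rw [map_mul, eval₂Hom_X', map_mul]; exact mul_mem h1 (hεx i)
  let θ : Γ(Y, O) →+* Loc :=
    (RingEquiv.ofBijective ι'.rangeRestrict
      ⟨fun z z' h => hι'inj (congrArg Subtype.val h), ι'.rangeRestrict_surjective⟩).symm.toRingHom.comp
      (ε.codRestrict ι'.range hrange)
  have hθ : ∀ z, ι' (θ z) = ε z := fun z => by
    have := (RingEquiv.ofBijective ι'.rangeRestrict
      ⟨fun z z' h => hι'inj (congrArg Subtype.val h), ι'.rangeRestrict_surjective⟩).apply_symm_apply
      (ε.codRestrict ι'.range hrange z)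
    exact congrArg Subtype.val this
  refine J.superset_covering (S := ⊤) (fun T t _ => ?_) (J.top_mem _)
  refine S.downward_closed ?_ t
  have hfin : (CommRingCat.ofHom (algebraMap A R5) ≫ CommRingCat.ofHom (algebraMap R5 B5)) ≫
      CommRingCat.ofHom (algebraMap B5 Loc) = CommRingCat.ofHom (cst g O) ≫ CommRingCat.ofHom θ := by
    refine CommRingCat.hom_ext (RingHom.ext fun z => hι'inj ?_)
    show ι' (algebraMap B5 Loc (algebraMap R5 B5 (algebraMap A R5 z))) = ι' (θ (cst g O z))
    rw [hι', hθ]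
    show algebraMap L4 Loc' (algebraMap R5 L4 (algebraMap A R5 z)) =
      algebraMap L4 Loc' (algebraMap L L4 (Y.evaluation O y hyl (cst g O z)))
    rw [evaluation_cst_pt, ← IsScalarTower.algebraMap_apply A R5 L4, IsScalarTower.algebraMap_apply A L L4,
      ← φD.commutes, hφ, evg_comp_specMap]
  rw [hfin, Spec.map_comp, ← fromSpec_cst g hV, ← Category.assoc]
  exact S.downward_closed hS _


/-- Covering may be checked on basic open subsets generating the unit ideal. -/
theorem mem_of_span {J : GrothendieckTopology Scheme.{u}} (hJ : DevissageAxioms J) {A B : CommRingCat.{u}}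
    (φ : A ⟶ B) (S : Sieve (Spec A)) {ι : Type} (b : ι → B) (hb : Ideal.span (Set.range b) = ⊤)
    (h : ∀ i, S.pullback (Spec.map (φ ≫ CommRingCat.ofHom (algebraMap B (Localization.Away (b i))))) ∈ J _) :
    S.pullback (Spec.map φ) ∈ J (Spec B) := by
  let 𝒰 := Scheme.affineOpenCoverOfSpanRangeEqTop (R := B) (fun i : ULift.{u} ι => b i.down) (by
    rwa [show (fun i : ULift.{u} ι => b i.down) = b ∘ ULift.down from rfl,
      ULift.down_surjective.range_comp])
  refine J.transitive (hJ.zariski _ 𝒰.openCover.mem_grothendieckTopology) _ ?_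
  rintro Z' _ ⟨_, k', _, ⟨l⟩, rfl⟩
  rw [Sieve.pullback_comp]
  refine J.pullback_stable k' ?_
  have := h l.down
  rw [Spec.map_comp, Sieve.pullback_comp] at this
  exact this

set_option maxHeartbeats 4000000 in
-- the tower of algebras
/-- The covering. -/
theorem mem_of_projCharts {J : GrothendieckTopology Scheme.{u}} (hJ : DevissageAxioms J)
    {A : CommRingCat.{u}} [IsNoetherianRing A] {D : Type u} [CommRing D] [Algebra A D] [Module.Finite A D]
    {Y : Scheme.{u}} (pD : Y ⟶ Spec (CommRingCat.of D)) (hch : HasProjCharts pD)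
    [Surjective (pD ≫ Spec.map (CommRingCat.ofHom (algebraMap A D)))]
    (S : Sieve (Spec A)) (hS : S (pD ≫ Spec.map (CommRingCat.ofHom (algebraMap A D)))) :
    S ∈ J (Spec A) := by
  classical
  obtain ⟨n, V, x, hV, hcov, hxx, hxle, hcoc, hgen⟩ := hch
  set g := pD ≫ Spec.map (CommRingCat.ofHom (algebraMap A D)) with hg
  refine mem_of_primes hJ S fun P hP hbig0 => ?_
  let K := FractionRing (A ⧸ P)
  have hker : RingHom.ker (algebraMap A K) = P := by
    rw [IsScalarTower.algebraMap_eq A (A ⧸ P) K, RingHom.ker_comp_of_injective _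
      (IsFractionRing.injective (A ⧸ P) K), Ideal.Quotient.algebraMap_eq, Ideal.mk_ker]
  have hfrac : ∀ z : K, ∃ a b : A, algebraMap A K b ≠ 0 ∧
      z * algebraMap A K b = algebraMap A K a := by
    intro z
    obtain ⟨a, b, hb, rfl⟩ := IsFractionRing.div_surjective (A := A ⧸ P) z
    obtain ⟨a, rfl⟩ := Ideal.Quotient.mk_surjective a
    obtain ⟨b, rfl⟩ := Ideal.Quotient.mk_surjective b
    have hb' : algebraMap (A ⧸ P) K (Ideal.Quotient.mk P b) ≠ 0 := fun h =>
      nonZeroDivisors.ne_zero hb (IsFractionRing.injective (A ⧸ P) K (h.trans (map_zero _).symm))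
    exact ⟨a, b, hb', div_mul_cancel₀ _ hb'⟩
  have hbig : ∀ z : A, algebraMap A K z ≠ 0 → S.pullback (Spec.map (CommRingCat.ofHom
      (Ideal.Quotient.mk (RingHom.ker (algebraMap A K) ⊔ Ideal.span {z})))) ∈ J _ := fun z hz => by
    rw [hker]
    exact hbig0 z fun hzP => hz (RingHom.mem_ker.1 (hker.symm ▸ hzP))
  -- reduce to the smallest subalgebra
  suffices hgood : Good J S (⊥ : Subalgebra A K) by
    let ψ : (A ⧸ P) →+* (⊥ : Subalgebra A K) :=
      Ideal.Quotient.lift P (algebraMap A (⊥ : Subalgebra A K)) fun z hz =>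
        Subtype.ext (RingHom.mem_ker.1 (hker.symm ▸ hz : z ∈ RingHom.ker (algebraMap A K)))
    have hψ : Function.Bijective ψ := by
      refine ⟨(injective_iff_map_eq_zero ψ).2 fun z hz => ?_, fun z => ?_⟩
      · obtain ⟨z, rfl⟩ := Ideal.Quotient.mk_surjective z
        rw [Ideal.Quotient.eq_zero_iff_mem, ← hker, RingHom.mem_ker]
        exact congrArg Subtype.val hz
      · obtain ⟨a, ha⟩ := Algebra.mem_bot.1 z.2
        exact ⟨Ideal.Quotient.mk P a, Subtype.ext ha⟩
    refine pullback_mem_of_fac S _ _ (CommRingCat.ofHom (RingEquiv.ofBijective ψ hψ).symm.toRingHom) ?_ hgood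
    refine CommRingCat.hom_ext (RingHom.ext fun a => hψ.1 ?_)
    exact (RingEquiv.ofBijective ψ hψ).apply_symm_apply _
  -- a point with finite residue field
  have hft : ∀ j, (cst g (V j)).FiniteType := by
    intro j
    rw [hg, cst_specMap]
    refine RingHom.FiniteType.comp ?_ (RingHom.Finite.finiteType (RingHom.finite_algebraMap.2 inferInstance))
    let : Algebra D Γ(Y, V j) := (cst pD (V j)).toAlgebra
    refine Algebra.FiniteType.of_surjective (MvPolynomial.aeval (x j) :
      MvPolynomial (Fin (n + 1)) D →ₐ[D] Γ(Y, V j)) fun c => ?_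
    obtain ⟨Q, hQ⟩ := hgen j c
    exact ⟨Q, hQ⟩
  obtain ⟨y, χ, hχf, hχ⟩ := exists_finite_point hfrac g V hV
    (fun y => TopologicalSpace.Opens.mem_iSup.1 (hcov.symm ▸ TopologicalSpace.Opens.mem_top y)) hft
  let L := Y.residueField y
  letI : Algebra K L := χ.toAlgebra
  letI : Algebra A L := (evg g y).toAlgebra
  have : IsScalarTower A K L := IsScalarTower.of_algebraMap_eq fun a => (RingHom.congr_fun hχ a).symm
  have : Module.Finite K L := hχf
  let φD : D →ₐ[A] L :=
    { evg pD y with commutes' := fun a => (evg_comp_specMap (algebraMap A D) pD y a).symm }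
  obtain ⟨j₀, hj₀⟩ := TopologicalSpace.Opens.mem_iSup.1 (hcov.symm ▸ TopologicalSpace.Opens.mem_top y)
  let a : Fin (n + 1) → L := fun k => Y.evaluation (V j₀) y hj₀ (x j₀ k)
  have ha₀ : a j₀ = 1 := by simp only [a, hxx, map_one]
  have hmem : ∀ k, a k ≠ 0 → y ∈ V k := fun k hk =>
    hxle j₀ k (by
      by_contra h
      exact hk ((Y.evaluation_eq_zero_iff_notMem_basicOpen y hj₀ _).2 h))
  have hratio : ∀ j (hj : y ∈ V j) k, a k = a j * Y.evaluation (V j) y hj (x j k) := fun j hj k =>
    hcoc y j₀ j hj₀ hj k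
  obtain ⟨r, F, hFr, hF0, hFd⟩ := exists_norm_form (K := K) a j₀ ha₀
  -- make one coefficient equal to one
  let coefs : Finset K := F.support.image fun e => coeff e F
  obtain ⟨e₁, he₁⟩ := MvPolynomial.ne_zero_iff.1 hF0
  refine good_of_ratios hJ S hfrac hbig ⊥ Subalgebra.fg_bot (fun c : coefs => (c : K))
    ⟨⟨coeff e₁ F, Finset.mem_image_of_mem _ (mem_support_iff.2 he₁)⟩, he₁⟩ fun c hc => ?_
  obtain ⟨e₀, he₀, hce⟩ := Finset.mem_image.1 c.2
  set R1 := (⊥ : Subalgebra A K) ⊔ Algebra.adjoin A (Set.range fun i : coefs => (i : K) / (c : K)) with hR1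
  have hcoef : ∀ e ∈ F.support, coeff e F / (c : K) ∈ R1 := fun e he =>
    (le_sup_right : _ ≤ R1) (Algebra.subset_adjoin ⟨⟨_, Finset.mem_image_of_mem _ he⟩, rfl⟩)
  let F1 : MvPolynomial (Fin (n + 1)) R1 :=
    ∑ e ∈ F.support.attach, monomial e.1 ⟨coeff e.1 F / (c : K), hcoef e.1 e.2⟩
  have hF1 : MvPolynomial.map (algebraMap R1 K) F1 = C (c : K)⁻¹ * F := by
    rw [map_sum]
    simp only [map_monomial, show ∀ z : R1, algebraMap R1 K z = (z : K) from fun z => rfl]
    rw [Finset.sum_attach F.support fun e => monomial e (coeff e F / (c : K))]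
    conv_rhs => rw [F.as_sum, Finset.mul_sum]
    refine Finset.sum_congr rfl fun e _ => ?_
    rw [C_mul_monomial, div_eq_inv_mul]
  have hinj1 : Function.Injective (algebraMap R1 K) := Subtype.val_injective
  have hF1r : F1.IsHomogeneous r := by
    intro d hd
    refine hFr fun h0 => hd (hinj1 ?_)
    rw [← coeff_map, hF1, coeff_C_mul, h0, mul_zero, map_zero]
  have hF1c : coeff e₀ F1 = 1 := by
    apply hinj1
    rw [← coeff_map, hF1, coeff_C_mul, map_one, hce]
    exact inv_mul_cancel₀ hc
  -- a monic polynomial making the form invertible at a tuple of powers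
  let N := r + 1
  let w : Fin (n + 1) → ℕ := fun l => N ^ (l : ℕ)
  let Φ : Polynomial R1 := aeval (fun l => (Polynomial.X : Polynomial R1) ^ w l) F1
  have hΦ : Φ.coeff (∑ l, e₀ l * w l) = 1 := by
    simp only [Φ, aeval_def, eval₂_eq', Polynomial.finsetSum_coeff]
    have hterm : ∀ e : Fin (n + 1) →₀ ℕ, (algebraMap R1 (Polynomial R1) (coeff e F1) *
        ∏ l, ((Polynomial.X : Polynomial R1) ^ w l) ^ e l) =
        Polynomial.C (coeff e F1) * Polynomial.X ^ (∑ l, e l * w l) := fun e => by
      rw [← Finset.prod_pow_eq_pow_sum]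
      congr 1
      exact Finset.prod_congr rfl fun l _ => by rw [← pow_mul, mul_comm]
    simp only [hterm, Polynomial.coeff_C_mul_X_pow]
    rw [Finset.sum_eq_single e₀]
    · rw [if_pos rfl, hF1c]
    · intro e he hne
      rw [if_neg fun h => hne ?_]
      have hb : ∀ d ∈ F1.support, ∀ l, d l < N := fun d hd l => by
        have h1 := hF1r (mem_support_iff.1 hd)
        have h2 : d l ≤ r := by
          rw [← h1]
          exact Finsupp.le_weight (1 : Fin (n + 1) → ℕ) (s := l) (by simp) d
        omega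
      exact Finsupp.ext (congrFun (sum_pow_injective N (hb e he)
        (hb e₀ (mem_support_iff.2 (by rw [hF1c]; exact one_ne_zero))) h.symm))
    · intro h
      exact absurd (mem_support_iff.2 (by rw [hF1c]; exact one_ne_zero)) h
  refine good_of_local hJ S R1 fun m hm => ?_
  obtain ⟨h, hhm, hhd, e, he, ψ, q, hψ⟩ := exists_monic_unit Φ hΦ m
  have he0 : (e : K) ≠ 0 := fun h0 => he ((show e = 0 from Subtype.ext h0) ▸ m.zero_mem)
  refine ⟨e, he, ?_⟩
  set R3 := R1 ⊔ Algebra.adjoin A {(e : K)⁻¹} with hR3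
  have hR13 : R1 ≤ R3 := le_sup_left
  let hL : Polynomial L := h.map ((algebraMap K L).comp (algebraMap R1 K))
  have hLd : hL.degree ≠ 0 := by
    rw [(Polynomial.degree_eq_natDegree (Polynomial.Monic.ne_zero (hhm.map _))).trans (congrArg _ (hhm.natDegree_map _))]
    exact_mod_cast (by omega : h.natDegree ≠ 0)
  let L4 := AdjoinRoot hL
  have : Nontrivial L4 := AdjoinRoot.nontrivial hL hLd
  have hL4 : Function.Injective (algebraMap L L4) := (algebraMap L L4).injective
  let s : L4 := AdjoinRoot.root hL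
  let ι1 : R1 →+* L4 := (algebraMap K L4).comp (algebraMap R1 K)
  have hι1 : (algebraMap L L4).comp ((algebraMap K L).comp (algebraMap R1 K)) = ι1 := by
    rw [← RingHom.comp_assoc, ← IsScalarTower.algebraMap_eq K L L4]
  have hs0 : h.eval₂ ι1 s = 0 := by
    rw [← hι1, ← Polynomial.eval₂_map]
    exact AdjoinRoot.eval₂_root hL
  have hι3 : (algebraMap R3 L4).comp (Subalgebra.inclusion hR13).toRingHom = ι1 := rfl
  have hsint : IsIntegral R3 s := by
    refine ⟨h.map (Subalgebra.inclusion hR13).toRingHom, hhm.map _, ?_⟩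
    rw [Polynomial.eval₂_map, hι3]; exact hs0
  let F3 := MvPolynomial.map (Subalgebra.inclusion hR13).toRingHom F1
  have hF3r : F3.IsHomogeneous r := hF1r.map _
  have hdiv : (∑ k, C (algebraMap L L4 (a k)) * X k) ∣ MvPolynomial.map (algebraMap R3 L4) F3 := by
    rw [map_map, hι3, ← map_map, hF1, map_mul, IsScalarTower.algebraMap_eq K L L4, ← map_map (algebraMap K L) _ F]
    refine dvd_mul_of_dvd_right ?_ _
    have := map_dvd (MvPolynomial.map (algebraMap L L4)) hFd
    simpa [map_sum] using this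
  let v : L4 := ψ.eval₂ ι1 s * algebraMap K L4 (e : K)⁻¹
  have hvint : IsIntegral R3 v := by
    refine IsIntegral.mul ?_ (isIntegral_algebraMap (x := (⟨(e : K)⁻¹,
      (le_sup_right : _ ≤ R3) (Algebra.subset_adjoin rfl)⟩ : R3)))
    rw [← hι3, ← Polynomial.eval₂_map]
    exact adjoin_le_integralClosure hsint (Polynomial.aeval_mem_adjoin_singleton R3 s)
  have hvF : v * aeval (fun l => s ^ w l) F3 = 1 := by
    have h1 : aeval (fun l => s ^ w l) F3 = Φ.eval₂ ι1 s := by
      simp only [F3, Φ, aeval_def, eval₂_map, hι3]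
      rw [← Polynomial.coe_eval₂RingHom, eval₂_comp_left]
      congr 1
      · exact RingHom.ext fun z => (Polynomial.eval₂_C _ _).symm
      · funext l; simp
    have h2 := congrArg (Polynomial.eval₂ ι1 s) hψ
    rw [Polynomial.eval₂_add, Polynomial.eval₂_mul, Polynomial.eval₂_mul, hs0, zero_mul, add_zero,
      Polynomial.eval₂_C] at h2
    rw [h1, show v = ψ.eval₂ ι1 s * algebraMap K L4 (e : K)⁻¹ from rfl, mul_comm, ← mul_assoc, h2]
    show algebraMap K L4 (e : K) * algebraMap K L4 (e : K)⁻¹ = 1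
    rw [← map_mul, mul_inv_cancel₀ he0, map_one]
  obtain ⟨v', hv'1, hv'int⟩ := isIntegral_normalized F3 hF3r (fun k => algebraMap L L4 (a k)) hdiv
    (fun l => s ^ w l) (fun l => hsint.pow _) v hvint hvF
  let b : Fin (n + 1) → L4 := fun k => v' * algebraMap L L4 (a k)
  -- the finite algebra
  obtain ⟨gD, hgD⟩ := Module.Finite.fg_top (R := A) (M := D)
  let W : Set L4 := ({s} ∪ Set.range b) ∪ (fun d => algebraMap L L4 (φD d)) '' (gD : Set D)
  have hWfin : W.Finite := ((Set.finite_singleton s).union (Set.finite_range b)).union (gD.finite_toSet.image _)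
  have hWint : ∀ z ∈ W, IsIntegral R3 z := by
    rintro z ((rfl | ⟨k, rfl⟩) | ⟨d, -, rfl⟩)
    · exact hsint
    · exact hv'int k
    · exact ((Algebra.IsIntegral.isIntegral (R := A) d).map
        ((IsScalarTower.toAlgHom A L L4).comp φD)).tower_top
  obtain ⟨G, hG⟩ := fg_adjoin_of_finite hWfin hWint
  obtain ⟨r', δ, hδ, hσ⟩ := exists_minors (K := K) (V := L4) (ι := ↥G) (fun i => (i : L4))
  have hR3fg : R3.FG := (Subalgebra.fg_bot.sup (Subalgebra.fg_def.2 ⟨_, Set.finite_range _, rfl⟩)).sup
    (Subalgebra.fg_def.2 ⟨_, Set.finite_singleton _, rfl⟩)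
  refine good_of_ratios hJ S hfrac hbig R3 hR3fg δ hδ fun σ hσ0 => ?_
  obtain ⟨hli, hspan⟩ := hσ σ hσ0
  set R5 := R3 ⊔ Algebra.adjoin A (Set.range fun τ => δ τ / δ σ) with hR5
  have hR35 : R3 ≤ R5 := le_sup_left
  let B5 : Subalgebra R5 L4 := Algebra.adjoin R5 W
  let fam : Fin r' → L4 := fun l => ((σ l : ↥G) : L4)
  let M5 : Submodule R5 L4 := Submodule.span R5 (Set.range fam)
  have hsmul : ∀ (z : R3) (y : L4), z • y = (⟨(z : K), hR35 z.2⟩ : R5) • y := fun z y => rfl
  have h35 : ∀ z ∈ Algebra.adjoin R3 W, z ∈ B5 := fun z hz => by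
    induction hz using Algebra.adjoin_induction with
    | mem z hz => exact Algebra.subset_adjoin hz
    | algebraMap z => exact B5.algebraMap_mem (⟨(z : K), hR35 z.2⟩ : R5)
    | add z z' _ _ h1 h2 => exact add_mem h1 h2
    | mul z z' _ _ h1 h2 => exact mul_mem h1 h2
  have hfamB : ∀ l, fam l ∈ B5 := fun l => h35 _ (show fam l ∈ Subalgebra.toSubmodule _ from
    hG ▸ Submodule.subset_span (σ l).2)
  have hG5 : ∀ z ∈ Algebra.adjoin R3 W, z ∈ M5 := fun z hz => by
    have hz' : z ∈ Submodule.span R3 (G : Set L4) := hG.symm ▸ hz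
    clear hz
    induction hz' using Submodule.span_induction with
    | mem z hz =>
      obtain ⟨cc, hcc, hze⟩ := hspan R5.toSubring (fun τ =>
        (le_sup_right : _ ≤ R5) (Algebra.subset_adjoin ⟨τ, rfl⟩)) ⟨z, hz⟩
      rw [show z = ∑ l, cc l • fam l from hze]
      exact sum_mem fun l _ => M5.smul_mem (⟨cc l, hcc l⟩ : R5) (Submodule.subset_span ⟨l, rfl⟩)
    | zero => exact zero_mem _
    | add z z' _ _ h1 h2 => exact add_mem h1 h2
    | smul t z _ h1 => rw [hsmul]; exact M5.smul_mem _ h1
  have hB5 : Subalgebra.toSubmodule B5 = M5 := by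
    refine le_antisymm ?_ (Submodule.span_le.2 (by rintro _ ⟨l, rfl⟩; exact hfamB l))
    rw [Algebra.adjoin_eq_span, Submodule.span_le]
    intro z hz
    exact hG5 z ((Submonoid.closure_le (S := (Algebra.adjoin R3 W).toSubsemiring.toSubmonoid)).2
      Algebra.subset_adjoin hz)
  have hli5 : LinearIndependent R5 fam := hli.restrict_scalars fun z z' h => by
    apply Subtype.ext
    have h' : (z : K) * 1 = (z' : K) * 1 := h
    simpa using h'
  have : Module.Free R5 M5 := Module.Free.of_basis (Module.Basis.span hli5)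
  have : Module.Finite R5 M5 := Module.Finite.of_basis (Module.Basis.span hli5)
  have : Module.Free R5 B5 := Module.Free.of_equiv (LinearEquiv.ofEq _ _ hB5.symm)
  have : Module.Finite R5 B5 := Module.Finite.equiv (LinearEquiv.ofEq _ _ hB5.symm)
  have : Module.FinitePresentation R5 B5 := Module.finitePresentation_of_projective R5 B5
  have hcover := hJ.free (CommRingCat.of R5) (CommRingCat.of B5) (CommRingCat.ofHom (algebraMap R5 B5))
    (RingHom.finite_algebraMap.2 inferInstance) (RingHom.flat_algebraMap_iff.2 inferInstance)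
    (RingHom.finitePresentation_algebraMap.2 (Algebra.FinitePresentation.of_finitePresentation R5 B5))
    (fun z z' h => Subtype.ext ((algebraMap K L4).injective (congrArg Subtype.val h)))
  refine J.transitive hcover _ ?_
  rintro Z _ ⟨_, k, _, ⟨⟩, rfl⟩
  rw [Sieve.pullback_comp]
  refine J.pullback_stable k ?_
  rw [← Sieve.pullback_comp, ← Spec.map_comp]
  -- the open subsets where a coordinate is invertible
  have hbB : ∀ l, b l ∈ B5 := fun l => Algebra.subset_adjoin (Or.inl (Or.inr ⟨l, rfl⟩))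
  have hsB : s ∈ B5 := Algebra.subset_adjoin (Or.inl (Or.inl rfl))
  let Jn := {l : Fin (n + 1) // a l ≠ 0}
  let bB : Jn → B5 := fun l => ⟨b l.1, hbB l.1⟩
  have hone : Ideal.span (Set.range bB) = ⊤ := by
    rw [Ideal.eq_top_iff_one]
    have h1 : (1 : B5) = ∑ l, (⟨s, hsB⟩ : B5) ^ w l * ⟨b l, hbB l⟩ := by
      apply Subtype.ext
      simp only [AddSubmonoidClass.coe_finsetSum, MulMemClass.coe_mul, SubmonoidClass.coe_pow, OneMemClass.coe_one, b]
      rw [← hv'1, Finset.mul_sum]
      exact Finset.sum_congr rfl fun l _ => by ring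
    rw [h1]
    refine sum_mem fun l _ => ?_
    by_cases hal : a l = 0
    · have : (⟨b l, hbB l⟩ : B5) = 0 := Subtype.ext (by simp [b, hal])
      rw [this, mul_zero]; exact zero_mem _
    · exact Ideal.mul_mem_left _ _ (Ideal.subset_span ⟨⟨l, hal⟩, rfl⟩)
  refine mem_of_span hJ (B := CommRingCat.of B5) _ S bB hone fun l => ?_
  exact lift_local S pD hS φD (hmem l.1 l.2) (x l.1) (hgen l.1) (hV l.1) a (hratio l.1 (hmem l.1 l.2))
    v' rfl B5 hbB gD hgD (fun d hd => Algebra.subset_adjoin (Or.inr ⟨d, hd, rfl⟩)) (fun _ => rfl)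

end Groth.Agent.HTop50
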