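import Groth.Agent.HTop50.ValLift
import Groth.Agent.HTop50.Family
import Groth.Agent.LimTop61.ZmtFactor
import Groth.Agent.Sga84.FiniteSigma
import Groth.Agent.Cyc90.FlatFinFibre
import Mathlib.FieldTheory.IsAlgClosed.AlgebraicClosure
import Mathlib.AlgebraicGeometry.Noetherian

/-! qfh coverings are refined by finite surjective morphisms followed by open coverings. -/

set_option autoImplicit false
set_option linter.style.haveILetI false

universe u

open CategoryTheory CategoryTheory.Limits AlgebraicGeometry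

namespace Groth.Agent.HTop50

/-- The map of residue fields along a morphism, at a point with known image. -/
theorem exists_field_hom {Z Y : Scheme.{u}} (v : Z ⟶ Y) (ζ : Z) (η : Y) (h : v ζ = η) :
    ∃ k : Y.residueField η ⟶ Z.residueField ζ,
      Spec.map k ≫ Y.fromSpecResidueField η = Z.fromSpecResidueField ζ ≫ v ∧
        (LocallyQuasiFinite v → k.hom.Finite) := by
  subst h
  exact ⟨v.residueFieldMap ζ, Scheme.Hom.SpecMap_residueFieldMap_fromSpecResidueField v ζ,
    fun _ => Cyc90.finite_residueFieldMap_of_quasiFinite v ζ⟩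

/-- A finite family of points with values in a field, in finite schemes, is dominated by a point in one
finite scheme. -/
theorem exists_finite_product {Y : Scheme.{u}} {L : CommRingCat.{u}} (P : Spec L ⟶ Y) {ι : Type u}
    (s : Finset ι) (T : ι → Scheme.{u}) (π : ∀ i, T i ⟶ Y) [∀ i, IsFinite (π i)]
    (q : ∀ i, Spec L ⟶ T i) (hq : ∀ i, q i ≫ π i = P) :
    ∃ (Z : Scheme.{u}) (v : Z ⟶ Y) (p : Spec L ⟶ Z), IsFinite v ∧ p ≫ v = P ∧
      ∀ i ∈ s, ∃ m : Z ⟶ T i, p ≫ m = q i ∧ m ≫ π i = v := by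
  classical
  induction s using Finset.induction_on with
  | empty => exact ⟨Y, 𝟙 Y, P, inferInstance, Category.comp_id _, fun i hi => absurd hi (by simp)⟩
  | insert a t _ ih =>
    obtain ⟨Z, v, p, hv, hp, hm⟩ := ih
    refine ⟨pullback v (π a), pullback.fst v (π a) ≫ v, pullback.lift p (q a) (by rw [hp, hq]),
      inferInstance, by rw [pullback.lift_fst_assoc, hp], fun i hi => ?_⟩
    rcases Finset.mem_insert.1 hi with rfl | hi
    · exact ⟨pullback.snd v (π i), pullback.lift_snd _ _ _, pullback.condition.symm⟩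
    · obtain ⟨m, hm1, hm2⟩ := hm i hi
      exact ⟨pullback.fst v (π a) ≫ m, by rw [pullback.lift_fst_assoc, hm1],
        by rw [Category.assoc, hm2]⟩

/-- The residue field of a point, as a type. -/
abbrev resField (Y : Scheme.{u}) (η : Y) : Type u := Y.residueField η

/-- The map to the algebraic closure of a residue field. -/
noncomputable def aclMap (Y : Scheme.{u}) (η : Y) :
    Y.residueField η ⟶ CommRingCat.of (AlgebraicClosure (resField Y η)) :=
  CommRingCat.ofHom (algebraMap (resField Y η) _)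

/-- An algebraically closed field extension absorbs the points of finite schemes: a point over an
algebraic closure. -/
theorem exists_point_factor {T Y : Scheme.{u}} (π : T ⟶ Y) [LocallyQuasiFinite π] (η : Y)
    {Ω : Type u} [Field Ω] (j : AlgebraicClosure (resField Y η) →+* Ω)
    (b : Spec (CommRingCat.of Ω) ⟶ T)
    (hb : b ≫ π = Spec.map (aclMap Y η ≫ CommRingCat.ofHom j) ≫ Y.fromSpecResidueField η) :
    ∃ (t : T) (k : Y.residueField η ⟶ T.residueField t)
      (σ : T.residueField t ⟶ CommRingCat.of (AlgebraicClosure (resField Y η))),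
      π t = η ∧ Spec.map k ≫ Y.fromSpecResidueField η = T.fromSpecResidueField t ≫ π ∧
      k ≫ σ = aclMap Y η ∧
      Spec.map (CommRingCat.ofHom j) ≫ Spec.map σ ≫ T.fromSpecResidueField t = b := by
  let K := resField Y η
  let t := b (IsLocalRing.closedPoint Ω)
  have ht : π t = η := by
    have h := congrArg (fun m : Spec (CommRingCat.of Ω) ⟶ Y => m (IsLocalRing.closedPoint Ω)) hb
    simp only [Scheme.Hom.comp_apply] at h
    exact h.trans (Scheme.fromSpecResidueField_apply _ _)
  obtain ⟨k, hk, hkf⟩ := exists_field_hom π t η ht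
  let β : T.residueField t ⟶ CommRingCat.of Ω := T.descResidueField (Scheme.stalkClosedPointTo b)
  have hβ : Spec.map β ≫ T.fromSpecResidueField t = b :=
    Scheme.descResidueField_stalkClosedPointTo_fromSpecResidueField Ω T b
  have hkβ : k ≫ β = aclMap Y η ≫ CommRingCat.ofHom j := by
    apply Spec.map_injective
    rw [← cancel_mono (Y.fromSpecResidueField η), Spec.map_comp, Category.assoc, hk, ← Category.assoc,
      hβ]
    exact hb
  have hfin := hkf inferInstance
  algebraize [k.hom]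
  have : Module.Finite K (T.residueField t) := hfin
  let _ : Algebra K Ω := (j.comp (algebraMap K (AlgebraicClosure K))).toAlgebra
  let jK : AlgebraicClosure K →ₐ[K] Ω := { j with commutes' := fun _ => rfl }
  let βK : T.residueField t →ₐ[K] Ω :=
    { β.hom with commutes' := fun x => by exact RingHom.congr_fun (congrArg CommRingCat.Hom.hom hkβ) x }
  have hrange : ∀ x, β.hom x ∈ j.range := fun x => by
    have hint : IsIntegral K (βK x) := (Algebra.IsIntegral.isIntegral x).map βK
    obtain ⟨y, hy⟩ := hint.mem_range_algHom_of_minpoly_splits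
      (IsAlgClosed.splits _) jK
    exact ⟨y, hy⟩
  let σ : T.residueField t ⟶ CommRingCat.of (AlgebraicClosure K) := CommRingCat.ofHom
    ((RingEquiv.ofBijective j.rangeRestrict
      ⟨fun _ _ h => j.injective (congrArg Subtype.val h), j.rangeRestrict_surjective⟩).symm.toRingHom.comp
        (β.hom.codRestrict j.range hrange))
  have hσ : ∀ x, j (σ.hom x) = β.hom x := fun x =>
    congrArg Subtype.val ((RingEquiv.ofBijective j.rangeRestrict
      ⟨fun _ _ h => j.injective (congrArg Subtype.val h), j.rangeRestrict_surjective⟩).apply_symm_apply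
        (β.hom.codRestrict j.range hrange x))
  refine ⟨t, k, σ, ht, hk, ?_, ?_⟩
  · refine CommRingCat.hom_ext (RingHom.ext fun x => j.injective ?_)
    show j (σ.hom (k.hom x)) = _
    rw [hσ]
    exact RingHom.congr_fun (congrArg CommRingCat.Hom.hom hkβ) x
  · rw [← Category.assoc, ← Spec.map_comp, show σ ≫ CommRingCat.ofHom j = β from
      CommRingCat.hom_ext (RingHom.ext hσ), hβ]

/-- The points over an algebraic closure of the residue field, in a finite scheme, are finitely many. -/
theorem finite_lifts {T Y : Scheme.{u}} (π : T ⟶ Y) [IsFinite π] (η : Y) :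
    Finite { q : Spec (CommRingCat.of (AlgebraicClosure (resField Y η))) ⟶ T //
      q ≫ π = Spec.map (aclMap Y η) ≫ Y.fromSpecResidueField η } := by
  let K := resField Y η
  let L := AlgebraicClosure K
  have : Finite (π ⁻¹' {η} : Set T) := (π.finite_preimage_singleton η).to_subtype
  choose k hk hkf using fun t : (π ⁻¹' {η} : Set T) => exists_field_hom π t.1 η t.2
  let H := fun t : (π ⁻¹' {η} : Set T) => {σ : T.residueField t.1 →+* L // σ.comp (k t).hom = algebraMap K L}
  have : ∀ t, Finite (H t) := fun t => by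
    let _ : Algebra K (T.residueField t.1) := (k t).hom.toAlgebra
    have : Module.Finite K (T.residueField t.1) := hkf t inferInstance
    exact Finite.of_injective (fun σ : H t => ({ σ.1 with commutes' := RingHom.congr_fun σ.2 } :
      T.residueField t.1 →ₐ[K] L)) fun σ σ' h => Subtype.ext (RingHom.ext fun z => DFunLike.congr_fun h z)
  let Φ : (Σ t, H t) → (Spec (CommRingCat.of L) ⟶ T) := fun p =>
    Spec.map (CommRingCat.ofHom p.2.1) ≫ T.fromSpecResidueField p.1.1
  refine Finite.Set.subset (Set.range Φ) fun q hq => ?_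
  obtain ⟨t, k', σ, ht, hk', hkσ, hq'⟩ := exists_point_factor π η (RingHom.id _) q (hq.trans (congrArg (fun m => Spec.map m ≫ _) (Category.comp_id _).symm))
  refine ⟨⟨⟨t, ht⟩, σ.hom, ?_⟩, ?_⟩
  · have : k' = k ⟨t, ht⟩ := by
      apply Spec.map_injective
      rw [← cancel_mono (Y.fromSpecResidueField η), hk', hk]
    rw [← this]
    exact congrArg CommRingCat.Hom.hom hkσ
  · rw [← hq', show CommRingCat.ofHom (RingHom.id L) = 𝟙 _ from rfl, Spec.map_id, Category.id_comp]
    rfl

/-- An irreducible component is covered by a finite scheme refining the covering. -/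
theorem exists_finite_refining_component {Y : Scheme.{u}} [IsNoetherian Y] (E : PreZeroHypercover.{u} Y)
    [Finite E.I₀] [∀ j, LocallyOfFiniteType (E.f j)] [∀ j, QuasiCompact (E.f j)]
    [∀ j, LocallyQuasiFinite (E.f j)] [∀ j, IsSeparated (E.f j)]
    (hE : SGA1.UnivSubmersive (Sigma.desc E.f)) (η : Y) :
    ∃ (Y' : Scheme.{u}) (v : Y' ⟶ Y) (ι : Type u) (_ : Finite ι) (V : ι → Y'.Opens),
      IsFinite v ∧ η ∈ Set.range v ∧ ⨆ i, V i = ⊤ ∧
      ∀ i, ∃ (j : E.I₀) (h : (↑(V i) : Scheme.{u}) ⟶ E.X j), h ≫ E.f j = (V i).ι ≫ v := by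
  classical
  choose T jT π hjo _ _ hπ hjπ using fun i => LimTop61.exists_openImmersion_finite (E.f i)
  let L := CommRingCat.of (AlgebraicClosure (resField Y η))
  let P : Spec L ⟶ Y := Spec.map (aclMap Y η) ≫ Y.fromSpecResidueField η
  let Λ := Σ i, { q : Spec L ⟶ T i // q ≫ π i = P }
  have : ∀ i, Finite { q : Spec L ⟶ T i // q ≫ π i = P } := fun i => finite_lifts (π i) η
  have := Fintype.ofFinite Λ
  obtain ⟨Z, v, q, hv, hqv, hm⟩ := exists_finite_product P (Finset.univ : Finset Λ) (fun l => T l.1)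
    (fun l => π l.1) (fun l => l.2.1) (fun l => l.2.2)
  choose m hm1 hm2 using fun l : Λ => hm l (Finset.mem_univ l)
  have : IsLocallyNoetherian Z := LocallyOfFiniteType.isLocallyNoetherian v
  have : QuasiSeparatedSpace Z := inferInstance
  have : QuasiCompact q := inferInstance
  let Y' := q.image
  let v' : Y' ⟶ Y := q.imageι ≫ v
  let V : Λ → Y'.Opens := fun l => (q.imageι ≫ m l) ⁻¹ᵁ (jT l.1).opensRange
  let ζ : Y' := q.toImage (IsLocalRing.closedPoint (AlgebraicClosure (resField Y η)))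
  have hζ : v' ζ = η := by
    show (q.toImage ≫ q.imageι ≫ v) _ = η
    rw [Scheme.Hom.toImage_imageι_assoc, hqv]
    simp only [P, Scheme.Hom.comp_apply, Scheme.fromSpecResidueField_apply]
  refine ⟨Y', v', Λ, inferInstance, V, inferInstance, ⟨ζ, hζ⟩, ?_, fun l => ?_⟩
  swap
  · let w : ((V l : Y'.Opens) : Scheme.{u}) ⟶ T l.1 := (V l).ι ≫ q.imageι ≫ m l
    have hw : Set.range w ⊆ Set.range (jT l.1) := by
      rintro _ ⟨z, rfl⟩
      exact z.2
    refine ⟨l.1, IsOpenImmersion.lift (jT l.1) w hw, ?_⟩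
    rw [← hjπ, IsOpenImmersion.lift_fac_assoc]
    simp only [w, v', Category.assoc, hm2]
  -- the opens cover
  refine eq_top_iff.2 fun y _ => TopologicalSpace.Opens.mem_iSup.2 ?_
  have hζy : ζ ⤳ y := by
    have hd : DenseRange q.toImage := q.toImage.denseRange
    refine specializes_iff_mem_closure.2 (closure_mono ?_ (hd y))
    rintro _ ⟨s, rfl⟩
    rw [Subsingleton.elim s (IsLocalRing.closedPoint _)]
    rfl
  obtain ⟨A, _, _, ψ, hψg, hψc⟩ := VCov93.exists_val_of_specializes hζy
  have : LocallyOfFiniteType (Sigma.desc E.f) :=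
    IsZariskiLocalAtSource.sigmaDesc fun i => ‹∀ i, LocallyOfFiniteType (E.f i)› i
  have : ∀ i, CompactSpace (E.X i) := fun i => QuasiCompact.compactSpace_of_compactSpace (E.f i)
  have : CompactSpace ↥(∐ E.X) := ⟨by
    have hu : (Set.univ : Set ↥(∐ E.X)) = ⋃ i, Set.range (Sigma.ι E.X i) := by
      refine (Set.eq_univ_of_forall fun x => ?_).symm
      obtain ⟨i, y, hy⟩ := (sigmaOpenCover E.X).exists_eq x
      exact Set.mem_iUnion.2 ⟨i, y, hy⟩
    rw [hu]
    exact isCompact_iUnion fun i => isCompact_range (Sigma.ι E.X i).continuous⟩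
  have : QuasiCompact (Sigma.desc E.f) := inferInstance
  obtain ⟨W, _, _, φ, hφ, ⟨⟩, g, hg⟩ :=
    hasValLift_of_univSubmersive.{0} (Sigma.desc E.f) hE A (ψ ≫ v')
  obtain ⟨i, u, hu⟩ := (sigmaOpenCover E.X).exists_eq (g (VCov93.clPt W))
  have hsub : Set.range g ⊆ Set.range (Sigma.ι E.X i) := by
    rintro _ ⟨a, rfl⟩
    exact ((VCov93.specializes_clPt a).map g.continuous).mem_open
      (Sigma.ι E.X i).isOpenEmbedding.isOpen_range ⟨u, hu⟩
  let gi : Spec W ⟶ E.X i := IsOpenImmersion.lift (Sigma.ι E.X i) g hsub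
  have hgi : gi ≫ E.f i = Spec.map φ ≫ ψ ≫ v' := by
    have h : gi ≫ Sigma.ι E.X i = g := IsOpenImmersion.lift_fac _ _ _
    calc gi ≫ E.f i = (gi ≫ Sigma.ι E.X i) ≫ Sigma.desc E.f := by rw [Category.assoc, Sigma.ι_desc]
      _ = _ := by rw [h]; exact hg
  -- the generic point with values in an algebraically closed field
  let Ω := AlgebraicClosure (FractionRing W)
  let gen : Spec (CommRingCat.of Ω) ⟶ Spec W := Spec.map (CommRingCat.ofHom (algebraMap W Ω))
  have hinjΩ : Function.Injective (algebraMap W Ω) := by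
    rw [IsScalarTower.algebraMap_eq W (FractionRing W) Ω]
    exact (algebraMap (FractionRing W) Ω).injective.comp (IsFractionRing.injective W (FractionRing W))
  have hgen : ∀ s, gen s = VCov93.genPt W := fun s => by
    rw [Subsingleton.elim s (VCov93.genPt (CommRingCat.of Ω))]
    exact VCov93.map_genPt (CommRingCat.ofHom (algebraMap W Ω)) hinjΩ
  let a : Spec (CommRingCat.of Ω) ⟶ Y' := gen ≫ Spec.map φ ≫ ψ
  have ha : a (IsLocalRing.closedPoint Ω) = ζ := by
    simp only [a, Scheme.Hom.comp_apply]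
    rw [hgen, VCov93.map_genPt φ hφ.1, hψg]
  obtain ⟨k, hk, -⟩ := exists_field_hom v' ζ η hζ
  let e : Y'.residueField ζ ⟶ L := Y'.descResidueField (Scheme.stalkClosedPointTo q.toImage)
  have he : Spec.map e ≫ Y'.fromSpecResidueField ζ = q.toImage :=
    Scheme.descResidueField_stalkClosedPointTo_fromSpecResidueField _ Y' q.toImage
  have hke : k ≫ e = aclMap Y η := by
    apply Spec.map_injective
    rw [← cancel_mono (Y.fromSpecResidueField η), Spec.map_comp, Category.assoc, hk, ← Category.assoc, he]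
    show q.toImage ≫ q.imageι ≫ v = P
    rw [Scheme.Hom.toImage_imageι_assoc, hqv]
  let a₀ : Y'.residueField (a (IsLocalRing.closedPoint Ω)) ⟶ CommRingCat.of Ω :=
    Y'.descResidueField (Scheme.stalkClosedPointTo a)
  obtain ⟨α, hα⟩ : ∃ α : Y'.residueField ζ ⟶ CommRingCat.of Ω,
      Spec.map α ≫ Y'.fromSpecResidueField ζ = a := by
    have h := Scheme.descResidueField_stalkClosedPointTo_fromSpecResidueField Ω Y' a
    generalize a₀ = α₀ at *
    exact ha ▸ ⟨_, h⟩
  let _ : Algebra (resField Y η) (Y'.residueField ζ) := k.hom.toAlgebra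
  let _ : Algebra (Y'.residueField ζ) L := e.hom.toAlgebra
  let _ : Algebra (Y'.residueField ζ) Ω := α.hom.toAlgebra
  have : IsScalarTower (resField Y η) (Y'.residueField ζ) L :=
    IsScalarTower.of_algebraMap_eq fun x => (RingHom.congr_fun (congrArg CommRingCat.Hom.hom hke) x).symm
  have : Algebra.IsAlgebraic (Y'.residueField ζ) L :=
    Algebra.IsAlgebraic.tower_top (K := resField Y η) (Y'.residueField ζ)
  let j : L →ₐ[Y'.residueField ζ] Ω := IsAlgClosed.lift
  have hja : Spec.map (CommRingCat.ofHom (j : L →+* Ω)) ≫ q.toImage = a := by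
    rw [← he, ← Category.assoc, ← Spec.map_comp, ← hα]
    congr 2
    exact CommRingCat.hom_ext j.comp_algebraMap
  let b : Spec (CommRingCat.of Ω) ⟶ T i := gen ≫ gi ≫ jT i
  have hb : b ≫ π i = Spec.map (aclMap Y η ≫ CommRingCat.ofHom (j : L →+* Ω)) ≫
      Y.fromSpecResidueField η := by
    simp only [b, Category.assoc, hjπ, hgi]
    rw [← Category.assoc, ← Category.assoc]
    show ((gen ≫ Spec.map φ) ≫ ψ) ≫ v' = _
    rw [Category.assoc gen, show gen ≫ Spec.map φ ≫ ψ = a from rfl, ← hja, Category.assoc,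
      Spec.map_comp, Category.assoc]
    show _ ≫ q.toImage ≫ q.imageι ≫ v = _
    rw [Scheme.Hom.toImage_imageι_assoc, hqv]
  obtain ⟨t, k', σ, -, hk', hkσ, hσb⟩ := exists_point_factor (π i) η (j : L →+* Ω) b hb
  let l : Λ := ⟨i, Spec.map σ ≫ (T i).fromSpecResidueField t, by
    rw [Category.assoc, ← hk', ← Category.assoc, ← Spec.map_comp, hkσ]⟩
  refine ⟨l, ?_⟩
  have : IsDominant gen := ⟨fun x => by
    refine closure_mono (s := {VCov93.genPt W}) ?_
      (specializes_iff_mem_closure.1 (VCov93.genPt_specializes W x))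
    rintro _ rfl
    exact ⟨IsLocalRing.closedPoint Ω, hgen _⟩⟩
  have heq : gi ≫ jT i = Spec.map φ ≫ ψ ≫ q.imageι ≫ m l := by
    refine ext_of_isDominant_of_isSeparated (π i) ?_ gen ?_
    · simp only [Category.assoc]
      rw [hjπ, hgi]
      exact congrArg (fun r => Spec.map φ ≫ ψ ≫ q.imageι ≫ r) (hm2 l).symm
    · show b = _
      rw [← hσb, show gen ≫ Spec.map φ ≫ ψ ≫ q.imageι ≫ m l = a ≫ q.imageι ≫ m l by
          simp only [a, Category.assoc], ← hja, Category.assoc, Scheme.Hom.toImage_imageι_assoc]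
      exact congrArg _ (hm1 l).symm
  show (q.imageι ≫ m l) y ∈ (jT i).opensRange
  refine ⟨gi (VCov93.clPt W), ?_⟩
  rw [← Scheme.Hom.comp_apply, heq, Scheme.Hom.comp_apply, Scheme.Hom.comp_apply,
    VCov93.map_clPt φ hφ.2, hψc]

/-- The refinement. -/
theorem exists_finite_surjective_refining {Y : Scheme.{u}} [IsNoetherian Y]
    (E : PreZeroHypercover.{u} Y) [Finite E.I₀] [∀ j, LocallyOfFiniteType (E.f j)]
    [∀ j, QuasiCompact (E.f j)] [∀ j, LocallyQuasiFinite (E.f j)] [∀ j, IsSeparated (E.f j)]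
    (hE : SGA1.UnivSubmersive (Sigma.desc E.f)) :
    ∃ (Y' : Scheme.{u}) (p : Y' ⟶ Y) (n : ℕ) (V : Fin n → Y'.Opens), IsFinite p ∧ Surjective p ∧
      ⨆ i, V i = ⊤ ∧ ∀ i, ∃ (j : E.I₀) (h : (↑(V i) : Scheme.{u}) ⟶ E.X j),
        h ≫ E.f j = (V i).ι ≫ p := by
  classical
  have : Finite (irreducibleComponents ↥Y) :=
    (TopologicalSpace.NoetherianSpace.finite_irreducibleComponents (α := ↥Y)).to_subtype
  have hgen : ∀ C : irreducibleComponents ↥Y, ∃ η : Y, IsGenericPoint η C.1 := fun C =>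
    QuasiSober.sober C.2.1 (isClosed_of_mem_irreducibleComponents C.1 C.2)
  choose η hη using hgen
  choose Y' v ι _ V hv hηv hV hh using fun C => exists_finite_refining_component E hE (η C)
  let p : ∐ Y' ⟶ Y := Sigma.desc v
  have : IsFinite p := FiniteSigma84.isFinite_sigmaDesc v
  have := Fintype.ofFinite (Σ C, ι C)
  let eq := Fintype.equivFin (Σ C, ι C)
  let W : (Σ C, ι C) → (∐ Y').Opens := fun d => Sigma.ι Y' d.1 ''ᵁ V d.1 d.2
  refine ⟨∐ Y', p, _, fun r => W (eq.symm r), inferInstance, ⟨fun y => ?_⟩, ?_, fun r => ?_⟩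
  · obtain ⟨C, hC, hyC⟩ := exists_mem_irreducibleComponents_subset_of_isIrreducible ({y} : Set Y)
      isIrreducible_singleton
    obtain ⟨z, hz⟩ := hηv ⟨C, hC⟩
    have hs : η ⟨C, hC⟩ ⤳ y := (hη ⟨C, hC⟩).specializes (hyC rfl)
    refine (hs.mem_closed p.isClosedMap.isClosed_range ⟨Sigma.ι Y' ⟨C, hC⟩ z, ?_⟩)
    rw [← Scheme.Hom.comp_apply, Sigma.ι_desc, hz]
  · refine eq_top_iff.2 fun x _ => TopologicalSpace.Opens.mem_iSup.2 ?_
    obtain ⟨C', z, rfl⟩ := (sigmaOpenCover Y').exists_eq x
    obtain ⟨C, rfl⟩ : ∃ C : irreducibleComponents ↥Y, C = C' := ⟨C', rfl⟩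
    obtain ⟨i, hi⟩ := TopologicalSpace.Opens.mem_iSup.1 ((hV C).symm ▸ TopologicalSpace.Opens.mem_top z)
    refine ⟨eq ⟨C, i⟩, ?_⟩
    show _ ∈ W (eq.symm (eq ⟨C, i⟩))
    rw [eq.symm_apply_apply]
    exact ⟨z, hi, rfl⟩
  · obtain ⟨⟨C, i⟩, hd⟩ : ∃ d, eq.symm r = d := ⟨_, rfl⟩
    beta_reduce
    rw [hd]
    obtain ⟨j, h, hj⟩ := hh C i
    let e := (Sigma.ι Y' C).isoImage (V C i)
    refine ⟨j, e.inv ≫ h, ?_⟩
    rw [Category.assoc, hj, Iso.inv_comp_eq]
    show (V C i).ι ≫ v C = e.hom ≫ (W ⟨C, i⟩).ι ≫ p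
    rw [← Category.assoc, Scheme.Hom.isoImage_hom_ι, Category.assoc, Sigma.ι_desc]

end Groth.Agent.HTop50
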