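import Groth.Agent.HTop50.Certificate
import Groth.Agent.HTop50.ProjCut

/-! Finitely many strata, each with a dominated family of coordinates, glued into one closed
subscheme of a projective space. -/

set_option autoImplicit false
set_option linter.style.haveILetI false

universe u

open CategoryTheory CategoryTheory.Limits AlgebraicGeometry MvPolynomial

namespace Groth.Agent.HTop50

variable {D : Type u} [CommRing D]

/-- A homogeneous polynomial, evaluated at proportional arguments. -/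
theorem eval_smul' {σ : Type*} {S : Type*} [CommRing S] (φ : D →+* S) (r : S) (b : σ → S)
    {p : MvPolynomial σ D} {d : ℕ} (hp : p.IsHomogeneous d) :
    eval₂Hom φ (fun i => r * b i) p = r ^ d * eval₂Hom φ b p := by
  simp only [coe_eval₂Hom, eval₂_eq, Finset.mul_sum]
  refine Finset.sum_congr rfl fun e he => ?_
  have hd : ∑ i ∈ e.support, e i = d := by
    have := hp (mem_support_iff.1 he)
    rwa [Finsupp.weight_apply, Finsupp.sum, Finset.sum_congr rfl fun i _ => by
      rw [Pi.one_apply, smul_eq_mul, mul_one]] at this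
  simp only [mul_pow, Finset.prod_mul_distrib, Finset.prod_pow_eq_pow_sum, hd]
  ring

set_option maxHeartbeats 1000000 in
-- bookkeeping of strata
/-- Given strata with coordinates and homogeneous relations, a proper scheme over `Spec D` covered by
affine opens indexed by dominating coordinates, on which the relations hold, with points over every
stratum. -/
theorem exists_strata {S : Type u} [Finite S] [Nonempty S] (P : S → Type u) [∀ s, Finite (P s)]
    (R' : S → Type u) [∀ s, CommRing (R' s)] (f : ∀ s, D →+* R' s) (E : ∀ s, P s → D)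
    (π0 : ∀ s, P s) (hπ0 : ∀ s, IsUnit (f s (E s (π0 s)))) (Gs : ∀ s, Finset (P s))
    (hdom : ∀ s, Dominated (f s) (E s) (Gs s))
    (κ : S → Type u) [∀ s, Finite (κ s)] (G : ∀ s, κ s → MvPolynomial (P s) D) (d : ∀ s, κ s → ℕ)
    (hG : ∀ s k, (G s k).IsHomogeneous (d s k))
    (hG0 : ∀ s k, eval₂Hom (f s) (fun π => f s (E s π)) (G s k) = 0) :
    ∃ (Y : Scheme.{u}) (p : Y ⟶ Spec (CommRingCat.of D))
      (V : (Σ s, {π // π ∈ Gs s}) → Y.Opens) (x : ∀ a, P a.1 → Γ(Y, V a)),
      HasProjCharts p ∧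
      IsProper p ∧ LocallyOfFinitePresentation p ∧ (∀ a, IsAffineOpen (V a)) ∧ (⨆ a, V a = ⊤) ∧
      (∀ a, x a a.2.1 = 1) ∧ (∀ a k, eval₂Hom (cst p (V a)) (x a) (G a.1 k) = 0) ∧
      ∀ (s : S) (K : Type u) [Field K] (ψ : R' s →+* K),
        ∃ y : Y, p y = (⟨RingHom.ker (ψ.comp (f s)), RingHom.ker_isPrime _⟩ : PrimeSpectrum D) := by
  classical
  choose k H hH hcert using fun (s : S) (c : P s) => exists_certificate (hdom s) c
  let Q := Σ s, P s
  have : Fintype Q := Fintype.ofFinite Q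
  obtain ⟨n, hn⟩ : ∃ n, Fintype.card Q = n + 1 := by
    have : Nonempty Q := ⟨⟨Classical.arbitrary S, π0 _⟩⟩
    exact Nat.exists_eq_succ_of_ne_zero Fintype.card_ne_zero
  let e : Q ≃ Fin (n + 1) := (Fintype.equivFin Q).trans (finCongr hn)
  let ι : ∀ s, P s → Fin (n + 1) := fun s π => e ⟨s, π⟩
  let Idx := ({ab : Q × Q // ab.1.1 ≠ ab.2.1}) ⊕ (Σ a : Q, κ a.1) ⊕ Q
  let cert : ∀ s, P s → MvPolynomial (P s) D := fun s c =>
    X c ^ (k s c + 1) - ∑ π ∈ Gs s, X π * H s c π
  let Gall : Idx → MvPolynomial (Fin (n + 1)) D := fun i => match i with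
    | .inl ab => X (e ab.1.1) * X (e ab.1.2)
    | .inr (.inl a) => X (e a.1) * rename (ι a.1.1) (G a.1.1 a.2)
    | .inr (.inr a) => rename (ι a.1) (cert a.1 a.2)
  let dall : Idx → ℕ := fun i => match i with
    | .inl _ => 1 + 1
    | .inr (.inl a) => 1 + d a.1.1 a.2
    | .inr (.inr a) => k a.1 a.2 + 1
  have hhom : ∀ i, (Gall i).IsHomogeneous (dall i) := by
    rintro (ab | a | a)
    · exact (isHomogeneous_X D _).mul (isHomogeneous_X D _)
    · exact (isHomogeneous_X D _).mul (hG _ _).rename_isHomogeneous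
    · refine IsHomogeneous.rename_isHomogeneous ?_
      refine ((by simpa using (isHomogeneous_X D a.2).pow (k a.1 a.2 + 1) :
        (X a.2 ^ (k a.1 a.2 + 1) : MvPolynomial (P a.1) D).IsHomogeneous (k a.1 a.2 + 1))).sub
        (IsHomogeneous.sum _ _ _ fun π _ => ?_)
      rw [add_comm]
      exact (isHomogeneous_X D π).mul (hH a.1 a.2 π)
  obtain ⟨Y, p, U, x, hch, hp, hlfp, haff, hcov, hx1, hxG, hxle, hpts⟩ := exists_projCut n Gall dall hhom
  refine ⟨Y, p, fun a => U (ι a.1 a.2.1), fun a π => x (ι a.1 a.2.1) (ι a.1 π), hch, hp, hlfp,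
    fun a => haff _, top_unique fun y _ => ?_, fun a => hx1 _, fun a i => ?_, fun s K _ ψ => ?_⟩
  · -- the dominating charts cover
    have hy : y ∈ ⨆ j, U j := by rw [hcov]; trivial
    obtain ⟨j, hj⟩ := TopologicalSpace.Opens.mem_iSup.1 hy
    obtain ⟨⟨s, c⟩, rfl⟩ := e.surjective j
    have h := hxG (e ⟨s, c⟩) (.inr (.inr ⟨s, c⟩))
    simp only [Gall, cert, eval₂Hom_rename, map_sub, map_pow, map_sum, map_mul, eval₂Hom_X',
      Function.comp_apply] at h
    rw [show x (e ⟨s, c⟩) (ι s c) = 1 from hx1 _, one_pow, sub_eq_zero] at h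
    obtain ⟨π, hπ, hu⟩ : ∃ π ∈ Gs s, IsUnit ((Y.presheaf.germ (U (e ⟨s, c⟩)) y hj).hom (x (e ⟨s, c⟩) (ι s π))) := by
      by_contra! hno
      have h1 := congrArg (Y.presheaf.germ (U (e ⟨s, c⟩)) y hj).hom h
      rw [map_one, map_sum] at h1
      refine (IsLocalRing.maximalIdeal.isMaximal (Y.presheaf.stalk y)).ne_top ((Ideal.eq_top_iff_one _).2 ?_)
      rw [h1]
      refine Ideal.sum_mem _ fun π hπ => ?_
      rw [map_mul]
      exact Ideal.mul_mem_right _ _ ((IsLocalRing.mem_maximalIdeal _).2 (hno π hπ))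
    exact TopologicalSpace.Opens.mem_iSup.2
      ⟨⟨s, π, hπ⟩, hxle _ _ ((Scheme.mem_basicOpen Y _ y hj).2 hu)⟩
  · have h := hxG (ι a.1 a.2.1) (.inr (.inl ⟨⟨a.1, a.2.1⟩, i⟩))
    simp only [Gall, map_mul, eval₂Hom_X', eval₂Hom_rename] at h
    rw [show x (ι a.1 a.2.1) (e ⟨a.1, a.2.1⟩) = 1 from hx1 _, one_mul] at h
    exact h
  · let χ : D →+* K := ψ.comp (f s)
    have hne : χ (E s (π0 s)) ≠ 0 := ((hπ0 s).map ψ).ne_zero
    let r := (χ (E s (π0 s)))⁻¹
    let b : Q → K := fun q => if q.1 = s then r * χ (E q.1 q.2) else 0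
    have hb : ∀ π, b ⟨s, π⟩ = r * χ (E s π) := fun π => if_pos rfl
    have hb0 : ∀ {q : Q}, q.1 ≠ s → b q = 0 := fun h => if_neg h
    have hs : ∀ {m : ℕ} {F : MvPolynomial (P s) D}, F.IsHomogeneous m →
        eval₂Hom (f s) (fun π => f s (E s π)) F = 0 →
          eval₂Hom χ ((fun i => b (e.symm i)) ∘ ι s) F = 0 := by
      intro m F hF h0
      rw [show ((fun i => b (e.symm i)) ∘ ι s) = fun π => r * χ (E s π) from
        funext fun π => by simp [ι, hb], eval_smul' χ r _ hF]
      have := congrArg ψ h0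
      rw [map_zero, ← RingHom.comp_apply, comp_eval₂Hom] at this
      rw [show eval₂Hom χ (fun π => χ (E s π)) F = 0 from this, mul_zero]
    refine hpts K χ (fun i => b (e.symm i)) (ι s (π0 s)) ?_ ?_
    · simp only [ι, Equiv.symm_apply_apply, hb]
      exact inv_mul_cancel₀ hne
    rintro (⟨⟨a, a'⟩, haa⟩ | ⟨⟨s', π⟩, i⟩ | ⟨s', c⟩)
    · simp only [Gall, map_mul, eval₂Hom_X', Equiv.symm_apply_apply]
      by_cases ha : a.1 = s
      · rw [hb0 (q := a') fun h => haa (ha.trans h.symm), mul_zero]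
      · rw [hb0 ha, zero_mul]
    · simp only [Gall, map_mul, eval₂Hom_X', eval₂Hom_rename, Equiv.symm_apply_apply]
      by_cases ha : s' = s
      · subst ha
        rw [hs (hG s' i) (hG0 s' i), mul_zero]
      · rw [hb0 (q := ⟨s', π⟩) ha, zero_mul]
    · simp only [Gall, eval₂Hom_rename]
      by_cases ha : s' = s
      · subst ha
        refine hs (m := k s' c + 1) ?_ (hcert s' c)
        refine ((by simpa using (isHomogeneous_X D c).pow (k s' c + 1) :
          (X c ^ (k s' c + 1) : MvPolynomial (P s') D).IsHomogeneous (k s' c + 1))).sub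
          (IsHomogeneous.sum _ _ _ fun π _ => ?_)
        rw [add_comm]
        exact (isHomogeneous_X D π).mul (hH s' c π)
      · have hz : ∀ π : P s', ((fun i => b (e.symm i)) ∘ ι s') π = 0 := fun π => by
          simp [ι, hb0 (q := (⟨s', π⟩ : Q)) ha]
        simp only [cert, map_sub, map_pow, map_sum, map_mul, eval₂Hom_X', hz, zero_mul,
          Finset.sum_const_zero, zero_pow (Nat.succ_ne_zero _), sub_zero]

end Groth.Agent.HTop50
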