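import Mathlib
import Mathlib.RingTheory.ZariskisMainTheorem
import Mathlib.RingTheory.IntegralClosure.GoingDown
import Mathlib.RingTheory.NoetherNormalization
import Mathlib.RingTheory.Polynomial.IsIntegral
import Mathlib.RingTheory.Valuation.ValuationRing
import Mathlib.RingTheory.Valuation.ValuationSubring
import Mathlib.FieldTheory.IsAlgClosed.Basic
import Mathlib.RingTheory.Ideal.Quotient.Operations
import Mathlib.Algebra.MvPolynomial.Equiv

/-! Integral points of finite type algebras over valuation rings with algebraically closed fraction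
field: a family meeting the closed fibre of a torsion-free algebra has an integral point. -/

set_option autoImplicit false
set_option linter.style.haveILetI false

universe u

open MvPolynomial

namespace Groth.Agent.HTop50

theorem isIntegrallyClosed_mvPoly {A : Type u} [CommRing A] [IsDomain A] [IsIntegrallyClosed A]
    (n : ℕ) : IsIntegrallyClosed (MvPolynomial (Fin n) A) := by
  induction n with
  | zero => exact .of_equiv (MvPolynomial.isEmptyAlgEquiv A (Fin 0)).symm.toRingEquiv
  | succ n ih =>
    haveI := ih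
    exact .of_equiv (MvPolynomial.finSuccEquiv A n).symm.toRingEquiv

variable {V : Type u} [CommRing V] [IsDomain V] [ValuationRing V]

theorem exists_dvd_all {ι : Type*} (s : Finset ι) (hs : s.Nonempty) (c : ι → V) :
    ∃ i ∈ s, ∀ j ∈ s, c i ∣ c j := by
  induction hs using Finset.Nonempty.cons_induction with
  | singleton a => exact ⟨a, by simp, by simp⟩
  | cons a s ha hs ih =>
    obtain ⟨i, hi, h⟩ := ih
    rcases ValuationRing.dvd_total (c a) (c i) with hd | hd
    · refine ⟨a, Finset.mem_cons_self a s, fun j hj => ?_⟩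
      rcases Finset.mem_cons.1 hj with rfl | hj
      · exact dvd_rfl
      · exact hd.trans (h j hj)
    · refine ⟨i, Finset.mem_cons.2 (Or.inr hi), fun j hj => ?_⟩
      rcases Finset.mem_cons.1 hj with rfl | hj
      · exact hd
      · exact h j hj

/-- A nonzero polynomial over a valuation ring is a scalar times a polynomial with a coefficient
equal to one. -/
theorem exists_primitive {σ : Type*} {P : MvPolynomial σ V} (hP : P ≠ 0) :
    ∃ (c : V) (Q : MvPolynomial σ V), c ≠ 0 ∧ P = C c * Q ∧ ∃ d, Q.coeff d = 1 := by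
  obtain ⟨d₀, hd₀, h⟩ := exists_dvd_all P.support (support_nonempty.2 hP) (fun d => P.coeff d)
  have hc : P.coeff d₀ ≠ 0 := mem_support_iff.1 hd₀
  have hdvd : C (P.coeff d₀) ∣ P := by
    rw [C_dvd_iff_dvd_coeff]
    intro d
    by_cases hd : d ∈ P.support
    · exact h d hd
    · rw [notMem_support_iff.1 hd]; exact dvd_zero _
  obtain ⟨Q, hQ⟩ := hdvd
  refine ⟨P.coeff d₀, Q, hc, hQ, d₀, ?_⟩
  have := congrArg (fun p => p.coeff d₀) hQ
  simp only [coeff_C_mul] at this
  exact mul_left_cancel₀ hc (by rw [mul_one]; exact this.symm)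

set_option maxHeartbeats 1000000 in
-- many algebra structures
/-- A torsion-free domain of finite type over a valuation ring, meeting the closed fibre, has a prime
over zero contained in a prime over the maximal ideal whose residue ring is algebraic. -/
theorem exists_algebraic_prime {B : Type u} [CommRing B] [IsDomain B] [Algebra V B]
    [Algebra.FiniteType V B] (hinj : Function.Injective (algebraMap V B))
    (hm : (IsLocalRing.maximalIdeal V).map (algebraMap V B) ≠ ⊤) :
    ∃ P U : Ideal B, P.IsPrime ∧ U.IsPrime ∧ P ≤ U ∧ P.comap (algebraMap V B) = ⊥ ∧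
      IsLocalRing.maximalIdeal V ≤ U.comap (algebraMap V B) ∧
      ∀ x : B, ∃ p : Polynomial V, p ≠ 0 ∧ Polynomial.aeval x p ∈ P := by
  classical
  let m := IsLocalRing.maximalIdeal V
  let I := m.map (algebraMap V B)
  let k := V ⧸ m
  let Bk := B ⧸ I
  let : Field k := Ideal.Quotient.field m
  have : Nontrivial Bk := Ideal.Quotient.nontrivial_iff.2 hm
  let alg : Algebra k Bk :=
    (Ideal.Quotient.lift m (algebraMap V Bk) fun a ha => by
      rw [IsScalarTower.algebraMap_apply V B Bk]
      exact Ideal.Quotient.eq_zero_iff_mem.2 (Ideal.mem_map_of_mem _ ha)).toAlgebra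
  have : IsScalarTower V k Bk := IsScalarTower.of_algebraMap_eq fun v => by
    exact (Ideal.Quotient.lift_mk _ _ _).symm
  have : Algebra.FiniteType V Bk :=
    Algebra.FiniteType.of_surjective (Ideal.Quotient.mkₐ V I) Ideal.Quotient.mk_surjective
  have : Algebra.FiniteType k Bk := Algebra.FiniteType.of_restrictScalars_finiteType V k Bk
  obtain ⟨s, g, hg, hgfin⟩ := exists_finite_inj_algHom_of_fg k Bk
  choose t ht using fun i => Ideal.Quotient.mk_surjective (I := I) (g (X i))
  let R' := MvPolynomial (Fin s) V
  let φ : R' →ₐ[V] B := MvPolynomial.aeval t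
  algebraize [φ.toRingHom]
  have hcomp : ∀ P : R', Ideal.Quotient.mk I (φ P) = g (MvPolynomial.map (Ideal.Quotient.mk m) P) := by
    intro P
    induction P using MvPolynomial.induction_on with
    | C a =>
      show Ideal.Quotient.mk I (MvPolynomial.aeval t (C a)) = _
      rw [MvPolynomial.aeval_C, MvPolynomial.map_C]
      refine Eq.trans ?_ (g.commutes (Ideal.Quotient.mk m a)).symm
      exact (IsScalarTower.algebraMap_apply V B Bk a).symm.trans (IsScalarTower.algebraMap_apply V k Bk a)
    | add p q hp hq => simp only [map_add, hp, hq]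
    | mul_X p i hp =>
      simp only [map_mul, hp]
      congr 1
      show Ideal.Quotient.mk I (MvPolynomial.aeval t (X i)) = _
      rw [MvPolynomial.aeval_X, ht]
      simp
  have hφinj : Function.Injective φ := by
    rw [injective_iff_map_eq_zero]
    intro P hP
    by_contra hP0
    obtain ⟨c, Q, hc, rfl, d, hd⟩ := exists_primitive hP0
    rw [map_mul, MvPolynomial.aeval_C] at hP
    rcases mul_eq_zero.1 hP with h | h
    · exact hc (hinj (by rw [h, map_zero]))
    · have h0 : MvPolynomial.map (Ideal.Quotient.mk m) Q = 0 := hg (by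
        rw [← hcomp, map_zero]
        exact (congrArg _ h).trans (map_zero _))
      have := congrArg (fun p => p.coeff d) h0
      simp only [MvPolynomial.coeff_map, hd, map_one, MvPolynomial.coeff_zero, one_ne_zero] at this
  have : IsScalarTower V R' B := IsScalarTower.of_algebraMap_eq fun v => (φ.commutes v).symm
  have : Algebra.FiniteType R' B := Algebra.FiniteType.of_restrictScalars_finiteType V R' B
  -- the fibre over the origin of the closed fibre
  let q' : Ideal R' := RingHom.ker ((Ideal.Quotient.mk m).comp MvPolynomial.constantCoeff)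
  let q : Ideal R' := RingHom.ker (MvPolynomial.constantCoeff (σ := Fin s) (R := V))
  have hqq' : q ≤ q' := fun P hP => by
    show Ideal.Quotient.mk m (MvPolynomial.constantCoeff P) = 0
    rw [show MvPolynomial.constantCoeff P = 0 from hP, map_zero]
  have : q.IsPrime := RingHom.ker_isPrime _
  have : q'.IsPrime := RingHom.ker_isPrime _
  let qk : Ideal (MvPolynomial (Fin s) k) :=
    RingHom.ker (MvPolynomial.constantCoeff (σ := Fin s) (R := k))
  have hqk : qk.IsMaximal := RingHom.ker_isMaximal_of_surjective _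
    fun a => ⟨C a, MvPolynomial.constantCoeff_C _ a⟩
  algebraize [g.toRingHom]
  have : Module.Finite (MvPolynomial (Fin s) k) Bk := hgfin
  have : FaithfulSMul (MvPolynomial (Fin s) k) Bk := (faithfulSMul_iff_algebraMap_injective _ _).2 hg
  obtain ⟨Qk, -, hQk, hQk'⟩ := Ideal.exists_ideal_over_prime_of_isIntegral qk (⊥ : Ideal Bk)
    (by
      intro F hF
      rw [Ideal.mem_comap, Ideal.mem_bot] at hF
      rw [(map_eq_zero_iff _ hg).1 hF]
      exact zero_mem _)
  have hmemq' : ∀ P : R', P ∈ q' ↔ MvPolynomial.map (Ideal.Quotient.mk m) P ∈ qk := fun P => by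
    simp only [q', qk, RingHom.mem_ker, RingHom.comp_apply, MvPolynomial.constantCoeff_map]
  have hfib : ∀ U : Ideal B, U.IsPrime → U.comap φ.toRingHom = q' →
      ∃ Q : Ideal Bk, Q.IsPrime ∧ Q.comap g.toRingHom = qk ∧ U = Q.comap (Ideal.Quotient.mk I) := by
    intro U hU hUq
    have hIU : I ≤ U := by
      rw [Ideal.map_le_iff_le_comap]
      intro a ha
      have : C a ∈ U.comap φ.toRingHom := by
        rw [hUq]
        show Ideal.Quotient.mk m (MvPolynomial.constantCoeff (C a)) = 0
        rw [MvPolynomial.constantCoeff_C, Ideal.Quotient.eq_zero_iff_mem]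
        exact ha
      rw [Ideal.mem_comap, ← φ.commutes a]
      exact this
    have hker : RingHom.ker (Ideal.Quotient.mk I) ≤ U := by rw [Ideal.mk_ker]; exact hIU
    have hQ := Ideal.map_isPrime_of_surjective Ideal.Quotient.mk_surjective hker
    have hback : (U.map (Ideal.Quotient.mk I)).comap (Ideal.Quotient.mk I) = U := by
      rw [Ideal.comap_map_of_surjective _ Ideal.Quotient.mk_surjective, ← RingHom.ker_eq_comap_bot,
        sup_eq_left.2 hker]
    refine ⟨_, hQ, ?_, hback.symm⟩
    refine (hqk.eq_of_le (Ideal.comap_ne_top _ hQ.ne_top) fun F hF => ?_).symm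
    obtain ⟨P, rfl⟩ := MvPolynomial.map_surjective _ (Ideal.Quotient.mk_surjective (I := m)) F
    have hP : P ∈ U.comap φ.toRingHom := by rw [hUq, hmemq']; exact hF
    rw [Ideal.mem_comap]
    show g (MvPolynomial.map _ P) ∈ _
    rw [← hcomp]
    exact Ideal.mem_map_of_mem _ hP
  let U : Ideal B := Qk.comap (Ideal.Quotient.mk I)
  have hUq : U.comap φ.toRingHom = q' := by
    ext P
    rw [Ideal.mem_comap, Ideal.mem_comap, hmemq']
    show Ideal.Quotient.mk I (φ P) ∈ Qk ↔ _
    rw [hcomp, ← hQk']
    rfl
  have hUp : U.IsPrime := Ideal.IsPrime.comap _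
  let u : PrimeSpectrum B := ⟨U, hUp⟩
  -- quasi-finiteness at `U`
  have hqf : Algebra.QuasiFiniteAt R' U := by
    refine Algebra.QuasiFiniteAt.of_isOpen_singleton_fiber u ?_
    have hfinite : (qk.primesOver Bk).Finite := Algebra.QuasiFinite.finite_primesOver qk
    let F := PrimeSpectrum.comap (algebraMap R' B) ⁻¹' {u.comap (algebraMap R' B)}
    have hmem : ∀ v : F, v.1.asIdeal.comap φ.toRingHom = q' := fun v =>
      (congrArg PrimeSpectrum.asIdeal (Set.mem_singleton_iff.1 v.2)).trans hUq
    choose Q hQ1 hQ2 hQ3 using fun v : F => hfib v.1.asIdeal v.1.isPrime (hmem v)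
    have hQover : ∀ v : F, Q v ∈ qk.primesOver Bk := fun v => ⟨hQ1 v, ⟨(hQ2 v).symm⟩⟩
    have : Finite F := by
      have := hfinite.to_subtype
      refine Finite.of_injective (fun v => (⟨Q v, hQover v⟩ : qk.primesOver Bk)) fun v v' h => ?_
      apply Subtype.ext
      apply PrimeSpectrum.ext
      have h' : Q v = Q v' := congrArg Subtype.val h
      rw [hQ3 v, hQ3 v', h']
    have : T1Space F := ⟨fun v => by
      rw [Topology.IsInducing.subtypeVal.isClosed_iff]
      refine ⟨{v.1}, ?_, ?_⟩
      · rw [PrimeSpectrum.isClosed_singleton_iff_isMaximal, hQ3 v]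
        have : (Q v).IsPrime := hQ1 v
        have : (Q v).IsMaximal := Ideal.isMaximal_of_isIntegral_of_isMaximal_comap (Q v)
          (show ((Q v).comap (algebraMap (MvPolynomial (Fin s) k) Bk)).IsMaximal by
            rw [show (Q v).comap (algebraMap (MvPolynomial (Fin s) k) Bk) = qk from hQ2 v]
            exact hqk)
        exact Ideal.comap_isMaximal_of_surjective _ Ideal.Quotient.mk_surjective
      · ext x
        simp [Subtype.ext_iff]⟩
    exact isOpen_discrete _
  obtain ⟨r, hr, hrint, hsat⟩ :=
    Algebra.zariskisMainProperty_iff.1 (Algebra.ZariskisMainProperty.of_finiteType (R := R') U)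
  let B' := integralClosure R' B
  have := isIntegrallyClosed_mvPoly (A := V) s
  have : FaithfulSMul R' B' := (faithfulSMul_iff_algebraMap_injective _ _).2 fun a b h =>
    hφinj (congrArg Subtype.val h)
  have : (U.comap B'.val).LiesOver q' := ⟨hUq.symm⟩
  obtain ⟨P', hP'le, hP'prime, hP'over⟩ :=
    (U.comap B'.val).exists_ideal_le_liesOver_of_le (p := q) (q := q') hqq'
  -- extend `P'` to `B`
  let r' : B' := ⟨r, hrint⟩
  have hr' : r' ∉ P' := fun h => hr (hP'le h)
  let P : Ideal B :=
    { carrier := {x | ∃ n, ∃ y : B', y ∈ P' ∧ r ^ n * x = y}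
      zero_mem' := ⟨0, 0, P'.zero_mem, by simp⟩
      add_mem' := by
        rintro a b ⟨n, y, hy, e⟩ ⟨n', y', hy', e'⟩
        refine ⟨n + n', r' ^ n' * y + r' ^ n * y',
          P'.add_mem (P'.mul_mem_left _ hy) (P'.mul_mem_left _ hy'), ?_⟩
        push_cast
        rw [← e, ← e', pow_add]
        ring
      smul_mem' := by
        rintro c x ⟨n, y, hy, e⟩
        obtain ⟨m, hm⟩ := hsat c
        refine ⟨n + m, ⟨r ^ m * c, hm⟩ * y, P'.mul_mem_left _ hy, ?_⟩
        push_cast
        rw [← e, smul_eq_mul, pow_add]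
        ring }
  have hPB' : ∀ y : B', (y : B) ∈ P ↔ y ∈ P' := fun y => by
    refine ⟨?_, fun hy => ⟨0, y, hy, by rw [pow_zero, one_mul]⟩⟩
    intro hyP
    obtain ⟨n, z, hz, e⟩ : ∃ n, ∃ z : B', z ∈ P' ∧ r ^ n * (y : B) = z := hyP
    have he : r' ^ n * y = z := Subtype.ext (by simpa [r'] using e)
    refine (hP'prime.mem_or_mem (he ▸ hz : r' ^ n * y ∈ P')).resolve_left fun hh => ?_
    exact hr' (hP'prime.mem_of_pow_mem n hh)
  have hPprime : P.IsPrime := by
    refine ⟨fun h => hP'prime.ne_top ((Ideal.eq_top_iff_one _).2 ?_), fun {x y} hxy => ?_⟩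
    · exact (hPB' 1).1 (by rw [h]; trivial)
    · obtain ⟨a, ha⟩ := hsat x
      obtain ⟨b, hb⟩ := hsat y
      obtain ⟨n, z, hz, e⟩ := hxy
      have : r' ^ n * (⟨r ^ a * x, ha⟩ * ⟨r ^ b * y, hb⟩) ∈ P' := by
        rw [show r' ^ n * (⟨r ^ a * x, ha⟩ * ⟨r ^ b * y, hb⟩ : B') = r' ^ (a + b) * z from
          Subtype.ext (by push_cast; rw [← e, pow_add]; ring)]
        exact P'.mul_mem_left _ hz
      rcases hP'prime.mem_or_mem this with h | h
      · exact absurd (hP'prime.mem_of_pow_mem n h) hr'
      · rcases hP'prime.mem_or_mem h with h | h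
        · exact Or.inl ⟨a, _, h, rfl⟩
        · exact Or.inr ⟨b, _, h, rfl⟩
  have hPle : P ≤ U := fun x hxP => by
    obtain ⟨n, y, hy, e⟩ : ∃ n, ∃ y : B', y ∈ P' ∧ r ^ n * x = y := hxP
    refine (hUp.mem_or_mem (?_ : r ^ n * x ∈ U)).resolve_left fun h => hr (hUp.mem_of_pow_mem n h)
    rw [e]
    exact hP'le hy
  have hPq : ∀ F : R', φ F ∈ P ↔ MvPolynomial.constantCoeff F = 0 := fun F => by
    rw [show φ F = ((algebraMap R' B' F : B') : B) from rfl, hPB']
    exact (SetLike.ext_iff.1 hP'over.over F).symm
  refine ⟨P, U, hPprime, hUp, hPle, ?_, ?_, fun x => ?_⟩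
  · rw [eq_bot_iff]
    intro v hv
    have h1 : φ (C v) ∈ P := by rw [show φ (C v) = algebraMap V B v from φ.commutes v]; exact hv
    rw [hPq, MvPolynomial.constantCoeff_C] at h1
    exact h1
  · intro v hv
    rw [Ideal.mem_comap, ← φ.commutes v]
    show C v ∈ U.comap φ.toRingHom
    rw [hUq]
    show Ideal.Quotient.mk m (MvPolynomial.constantCoeff (C v)) = 0
    rw [MvPolynomial.constantCoeff_C, Ideal.Quotient.eq_zero_iff_mem]
    exact hv
  · -- specialise the variables to zero
    obtain ⟨m', hm'⟩ := hsat x
    obtain ⟨a, ha⟩ : IsIntegral R' r := id hrint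
    obtain ⟨b, hb⟩ := hm'
    let π := Ideal.Quotient.mk P
    have hπ : ∀ z : B, IsIntegral R' z → IsAlgebraic V (π z) := by
      rintro z ⟨f, hfm, hf⟩
      refine IsIntegral.isAlgebraic ⟨f.map MvPolynomial.constantCoeff, hfm.map _, ?_⟩
      have hπF : ∀ F : R', π (φ F) = algebraMap V (B ⧸ P) (MvPolynomial.constantCoeff F) := by
        intro F
        rw [IsScalarTower.algebraMap_apply V B (B ⧸ P)]
        show π (φ F) = π _
        rw [← φ.commutes]
        refine Ideal.Quotient.eq.2 ?_
        rw [← map_sub, hPq, map_sub]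
        show _ - MvPolynomial.constantCoeff (C (MvPolynomial.constantCoeff F)) = 0
        rw [MvPolynomial.constantCoeff_C, sub_self]
      have := congrArg π hf
      rw [Polynomial.hom_eval₂, map_zero] at this
      rw [Polynomial.eval₂_map]
      have e : (algebraMap V (B ⧸ P)).comp MvPolynomial.constantCoeff = π.comp (algebraMap R' B) :=
        RingHom.ext fun F => (hπF F).symm
      exact (congrArg (fun h => Polynomial.eval₂ h (π z) f) e).trans this
    have : IsDomain (B ⧸ P) := Ideal.Quotient.isDomain P
    have hrP : π r ≠ 0 := fun h => hr (hPle (Ideal.Quotient.eq_zero_iff_mem.1 h))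
    have hinjP : Function.Injective (algebraMap V (B ⧸ P)) := by
      rw [injective_iff_map_eq_zero]
      intro v hv
      rw [IsScalarTower.algebraMap_apply V B (B ⧸ P)] at hv
      have h1 : φ (C v) ∈ P := by
        rw [show φ (C v) = algebraMap V B v from φ.commutes v]
        exact Ideal.Quotient.eq_zero_iff_mem.1 hv
      rw [hPq, MvPolynomial.constantCoeff_C] at h1
      exact h1
    have halg : IsAlgebraic V (π x) := by
      have h1 : IsAlgebraic V (π r ^ m' * π x) := by
        rw [← map_pow, ← map_mul]; exact hπ _ ⟨b, hb⟩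
      have h2 : IsAlgebraic V (π r ^ m') := by
        rw [← map_pow]; exact hπ _ (IsIntegral.pow ⟨a, ha⟩ m')
      exact IsAlgebraic.of_mul (mem_nonZeroDivisors_of_ne_zero (pow_ne_zero _ hrP)) h2 h1
    obtain ⟨p, hp, hpx⟩ := halg
    refine ⟨p, hp, ?_⟩
    rw [show π x = Ideal.Quotient.mkₐ V P x from rfl, Polynomial.aeval_algHom_apply] at hpx
    exact Ideal.Quotient.eq_zero_iff_mem.1 hpx

theorem exists_algHom_self [IsAlgClosed (FractionRing V)] {B : Type u} [CommRing B] [IsDomain B]
    [Algebra V B] [Algebra.FiniteType V B] (hinj : Function.Injective (algebraMap V B))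
    (hm : (IsLocalRing.maximalIdeal V).map (algebraMap V B) ≠ ⊤) :
    Nonempty (B →ₐ[V] V) := by
  obtain ⟨P, U, hP, hU, hPU, hbot, hmax, halg⟩ := exists_algebraic_prime hinj hm
  let K := FractionRing V
  let D := B ⧸ P
  have : IsDomain D := Ideal.Quotient.isDomain P
  let L := FractionRing D
  let f : V →+* L := (algebraMap D L).comp (algebraMap V D)
  have hf : Function.Injective f := by
    rw [injective_iff_map_eq_zero]
    intro v hv
    have h1 : algebraMap V D v = 0 := IsFractionRing.injective D L (by rw [map_zero]; exact hv)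
    rw [IsScalarTower.algebraMap_apply V B D] at h1
    have h2 : v ∈ P.comap (algebraMap V B) :=
      (Ideal.Quotient.eq_zero_iff_mem (I := P) (a := algebraMap V B v)).1 h1
    rwa [hbot, Ideal.mem_bot] at h2
  let : Algebra K L := (IsFractionRing.lift (A := V) (K := K) hf).toAlgebra
  have : IsScalarTower V K L := IsScalarTower.of_algebraMap_eq fun v => by
    show f v = IsFractionRing.lift hf (algebraMap V K v)
    rw [IsFractionRing.lift_algebraMap]
  have key : ∀ x : B, ∃ c : K, algebraMap K L c = algebraMap D L (Ideal.Quotient.mk P x) := by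
    intro x
    obtain ⟨p, hp, hpx⟩ := halg x
    have hx : IsAlgebraic K (algebraMap D L (Ideal.Quotient.mk P x)) := by
      refine ⟨p.map (algebraMap V K),
        (Polynomial.map_ne_zero_iff (IsFractionRing.injective V K)).2 hp, ?_⟩
      rw [Polynomial.aeval_map_algebraMap, Polynomial.aeval_algebraMap_apply,
        show Ideal.Quotient.mk P x = Ideal.Quotient.mkₐ V P x from rfl,
        Polynomial.aeval_algHom_apply, Ideal.Quotient.mkₐ_eq_mk,
        Ideal.Quotient.eq_zero_iff_mem.2 hpx, map_zero]
    exact RingHom.mem_range.1 (minpoly.mem_range_of_degree_eq_one K _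
      (IsAlgClosed.degree_eq_one_of_irreducible K (minpoly.irreducible hx.isIntegral)))
  choose c hc using key
  have hinjK : Function.Injective (algebraMap K L) := (algebraMap K L).injective
  have hcv : ∀ v : V, c (algebraMap V B v) = algebraMap V K v := fun v => hinjK (by
    rw [hc, ← IsScalarTower.algebraMap_apply V K L]
    rfl)
  have hV : ∀ x : B, ∃ v : V, algebraMap V K v = c x := by
    intro x
    rcases ValuationRing.isInteger_or_isInteger (R := V) (c x) with ⟨v, hv⟩ | ⟨w, hw⟩
    · exact ⟨v, hv⟩
    · by_cases hcx : c x = 0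
      · exact ⟨0, by rw [hcx, map_zero]⟩
      by_cases hwu : IsUnit w
      · refine ⟨↑hwu.unit⁻¹, ?_⟩
        rw [map_units_inv, IsUnit.unit_spec, hw, inv_inv]
      exfalso
      have h1 : Ideal.Quotient.mk P (x * algebraMap V B w) = 1 := by
        refine IsFractionRing.injective D L ?_
        rw [map_one, map_mul, map_mul, ← hc, ← hc, hcv, hw, ← map_mul, mul_inv_cancel₀ hcx, map_one]
      rw [← map_one (Ideal.Quotient.mk P), Ideal.Quotient.eq] at h1
      have h2 : algebraMap V B w ∈ U := hmax ((IsLocalRing.mem_maximalIdeal w).2 hwu)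
      refine hU.ne_top ((Ideal.eq_top_iff_one _).2 ?_)
      have h3 := U.sub_mem (U.mul_mem_left x h2) (hPU h1)
      simpa using h3
  choose v hv using hV
  have hinjV : Function.Injective (algebraMap V L) := by
    rw [IsScalarTower.algebraMap_eq V K L]
    exact hinjK.comp (IsFractionRing.injective V K)
  have hvx : ∀ x : B, algebraMap V L (v x) = algebraMap D L (Ideal.Quotient.mk P x) := fun x => by
    rw [IsScalarTower.algebraMap_apply V K L, hv, hc]
  exact ⟨{ toFun := v
           map_one' := hinjV (by rw [hvx, map_one, map_one, map_one])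
           map_mul' := fun x y => hinjV (by rw [map_mul, hvx, hvx, hvx, map_mul, map_mul])
           map_zero' := hinjV (by rw [hvx, map_zero, map_zero, map_zero])
           map_add' := fun x y => hinjV (by rw [map_add, hvx, hvx, hvx, map_add, map_add])
           commutes' := fun a => hinjV (by rw [hvx]; rfl) }⟩

end Groth.Agent.HTop50
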