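import Groth.Agent.HTop50.RootAlgebra
import Groth.Agent.HTop50.ValPoint
import Groth.Agent.HTop50.StrataCut

/-! Systems of equations solvable over all valuation rings are solved on affine opens of a proper
surjective scheme of finite presentation. -/

set_option autoImplicit false
set_option linter.style.haveILetI false

universe u

open CategoryTheory CategoryTheory.Limits AlgebraicGeometry MvPolynomial

namespace Groth.Agent.HTop50

/-- The constants of a scheme over a scheme over `Spec A`. -/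
theorem cst_specMap {A D : Type u} [CommRing A] [CommRing D] (g : A →+* D) {Y : Scheme.{u}}
    (p : Y ⟶ Spec (CommRingCat.of D)) (W : Y.Opens) :
    cst (p ≫ Spec.map (CommRingCat.ofHom g)) W = (cst p W).comp g := by
  refine RingHom.ext fun r => ?_
  rw [← cst_comp p (Spec.map (CommRingCat.ofHom g)) ⊤ W le_top r]
  show ((Scheme.ΓSpecIso (CommRingCat.of A)).inv ≫ (Spec.map (CommRingCat.ofHom g)).appTop ≫
    p.appLE ⊤ W le_top).hom r = (CommRingCat.ofHom g ≫ (Scheme.ΓSpecIso (CommRingCat.of D)).inv ≫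
    p.appLE ⊤ W le_top).hom r
  rw [Scheme.ΓSpecIso_inv_naturality_assoc]

set_option maxHeartbeats 1000000 in
-- bookkeeping of strata
/-- The refinement by a proper surjective scheme of finite presentation. -/
theorem exists_proper_refinement {A : Type u} [CommRing A] {M : Type} (s : M → Sys A)
    (hs : ∀ (V : Type u) [CommRing V] [IsDomain V] [ValuationRing V] [IsAlgClosed (FractionRing V)]
      (φ : A →+* V), ∃ (m : M) (b : Fin (s m).n → V), ∀ k, eval₂Hom φ b ((s m).F k) = 0) :
    ∃ (Y : Scheme.{u}) (p : Y ⟶ Spec (CommRingCat.of A)) (ι : Type u) (_ : Finite ι)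
      (V : ι → Y.Opens),
      (∃ (D : Type u) (_ : CommRing D) (_ : Algebra A D) (_ : Module.Finite A D)
        (pD : Y ⟶ Spec (CommRingCat.of D)),
        HasProjCharts pD ∧ p = pD ≫ Spec.map (CommRingCat.ofHom (algebraMap A D))) ∧
      IsProper p ∧ Surjective p ∧ LocallyOfFinitePresentation p ∧
      (∀ a, IsAffineOpen (V a)) ∧ (⨆ a, V a = ⊤) ∧
      ∀ a, ∃ (m : M) (b : Fin (s m).n → Γ(Y, V a)),
        ∀ k, eval₂Hom (cst p (V a)) b ((s m).F k) = 0 := by
  classical
  obtain ⟨D, _, _, _, _, T, _, t, hsurj, hgood⟩ := exists_root_algebra s hs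
  let El := Σ i : T, Option (Fin (s (t i).m).n) ⊕ Fin (s (t i).m).r
  let val : El → D := fun e => match e.2 with
    | .inl o => o.elim (t e.1).den (t e.1).num
    | .inr k => (t e.1).eqn k
  let S := Finset El
  let hS : S → D := fun S => ∏ e ∈ Sᶜ, val e
  let I : S → Ideal D := fun S => Ideal.span (val '' (S : Set El))
  let f : ∀ S : S, D →+* Localization.Away (Ideal.Quotient.mk (I S) (hS S)) := fun S =>
    (algebraMap (D ⧸ I S) (Localization.Away (Ideal.Quotient.mk (I S) (hS S)))).comp
      (Ideal.Quotient.mk (I S))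
  have hf0 : ∀ (S : S) e, e ∈ S → f S (val e) = 0 := fun S e he => by
    show algebraMap _ _ (Ideal.Quotient.mk (I S) (val e)) = 0
    rw [show Ideal.Quotient.mk (I S) (val e) = 0 from
      Ideal.Quotient.eq_zero_iff_mem.2 (Ideal.subset_span ⟨e, he, rfl⟩), map_zero]
  have hfu : ∀ (S : S) e, e ∉ S → IsUnit (f S (val e)) := fun S e he =>
    isUnit_of_dvd_unit ((f S).map_dvd (Finset.dvd_prod_of_mem val (Finset.mem_compl.2 he)))
      (IsLocalization.Away.algebraMap_isUnit (Ideal.Quotient.mk (I S) (hS S)))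
  let MS : S → Type u := fun S =>
    {i : T // (⟨i, .inl none⟩ : El) ∉ S ∧ ∀ k, (⟨i, .inr k⟩ : El) ∈ S}
  let P : S → Type u := fun S => ∀ i : MS S, Option (Fin (s (t i.1).m).n)
  have hfinP : ∀ S, Finite (P S) := fun S => inferInstance
  have := fun S => Fintype.ofFinite (MS S)
  have := fun S => Fintype.ofFinite (P S)
  let E : ∀ S, P S → D := fun S π => ∏ i : MS S, val ⟨i.1, .inl (π i)⟩
  let π0 : ∀ S, P S := fun S i => none
  let Gs : ∀ S, Finset (P S) := fun S => Finset.univ.filter fun π => ∃ i, π i = none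
  have hπ0 : ∀ S, IsUnit (f S (E S (π0 S))) := fun S => by
    show IsUnit (f S (∏ i : MS S, val ⟨i.1, .inl none⟩))
    rw [map_prod (f S)]
    exact IsUnit.prod_univ_iff.2 fun i => hfu S _ i.2.1
  have hdom : ∀ S, Dominated (f S) (E S) (Gs S) := by
    intro S V _ _ _ φ K _ j ψ hj hψ
    have h0 : ∀ e ∈ S, φ (val e) = 0 := fun e he => hj (by
      rw [map_zero, ← RingHom.comp_apply, ← hψ, RingHom.comp_apply, hf0 S e he, map_zero])
    have h1 : ∀ e, e ∉ S → φ (val e) ≠ 0 := fun e he h => by
      have := ((hfu S e he).map ψ).ne_zero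
      rw [← RingHom.comp_apply, hψ, RingHom.comp_apply, h, map_zero] at this
      exact this rfl
    obtain ⟨i, hden, hnum, heq⟩ := hgood V φ
    have hi : (⟨i, .inl none⟩ : El) ∉ S ∧ ∀ k, (⟨i, .inr k⟩ : El) ∈ S :=
      ⟨fun h => hden (h0 _ h), fun k => by_contra fun h => h1 _ h (heq k)⟩
    choose o _ ho using fun i' : MS S =>
      exists_dvd_all Finset.univ Finset.univ_nonempty fun o => φ (val ⟨i'.1, .inl o⟩)
    refine ⟨Function.update o ⟨i, hi⟩ none,
      Finset.mem_filter.2 ⟨Finset.mem_univ _, ⟨i, hi⟩, Function.update_self _ _ _⟩, fun ρ => ?_⟩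
    simp only [E, map_prod]
    refine Finset.prod_dvd_prod_of_dvd _ _ fun i' _ => ?_
    by_cases hii : i' = ⟨i, hi⟩
    · subst hii
      rw [Function.update_self]
      rcases hρ : ρ ⟨i, hi⟩ with _ | k
      · exact dvd_rfl
      · exact hnum k
    · rw [Function.update_of_ne hii]
      exact ho i' _ (Finset.mem_univ _)
  let κ : S → Type u := fun S => Σ i : MS S, P S × Fin (s (t i.1).m).r
  let G : ∀ S, κ S → MvPolynomial (P S) D := fun S q =>
    rename (Function.update q.2.1 q.1) (MvPolynomial.map (algebraMap A D) (hmg ((s (t q.1.1).m).F q.2.2)))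
  let d : ∀ S, κ S → ℕ := fun S q => ((s (t q.1.1).m).F q.2.2).totalDegree
  have hG : ∀ S q, (G S q).IsHomogeneous (d S q) := fun S q =>
    ((isHomogeneous_hmg _).map _).rename_isHomogeneous
  have hG0 : ∀ S q, eval₂Hom (f S) (fun π => f S (E S π)) (G S q) = 0 := by
    rintro S ⟨i, π, k⟩
    let c := ∏ i' ∈ Finset.univ.erase i, f S (val ⟨i'.1, .inl (π i')⟩)
    let b := fun o : Option (Fin (s (t i.1).m).n) => f S (val ⟨i.1, .inl o⟩)
    have e1 : ∀ o, f S (E S (Function.update π i o)) = c * b o := fun o => by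
      simp only [E, map_prod]
      rw [← Finset.mul_prod_erase _ _ (Finset.mem_univ i), Function.update_self, mul_comm]
      congr 1
      exact Finset.prod_congr rfl fun i' hi' => by
        rw [Function.update_of_ne (Finset.ne_of_mem_erase hi')]
    simp only [G, eval₂Hom_rename, eval₂Hom_map_hom]
    rw [show ((fun π => f S (E S π)) ∘ Function.update π i) = fun o => c * b o from funext e1,
      eval_smul' _ c b (isHomogeneous_hmg _)]
    have h := hf0 S _ (i.2.2 k)
    simp only [val, AlgDatum.eqn] at h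
    rw [← RingHom.comp_apply, comp_eval₂Hom] at h
    exact mul_eq_zero_of_right _ h
  obtain ⟨Y, p, V, x, hch, hp, hlfp, haff, hcov, hx1, hxG, hpts⟩ :=
    exists_strata P (fun S => Localization.Away (Ideal.Quotient.mk (I S) (hS S))) f E π0 hπ0 Gs hdom κ G d hG hG0
  let q : Spec (CommRingCat.of D) ⟶ Spec (CommRingCat.of A) :=
    Spec.map (CommRingCat.ofHom (algebraMap A D))
  have : IsFinite q := by
    rw [IsFinite.SpecMap_iff]
    exact RingHom.finite_algebraMap.2 inferInstance
  have : LocallyOfFinitePresentation q := by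
    rw [HasRingHomProperty.Spec_iff (P := @LocallyOfFinitePresentation)]
    exact RingHom.finitePresentation_algebraMap.2 inferInstance
  refine ⟨Y, p ≫ q, Σ S, {π // π ∈ Gs S}, inferInstance, V,
    ⟨D, inferInstance, inferInstance, inferInstance, p, hch, rfl⟩, inferInstance, ⟨fun y => ?_⟩,
    inferInstance, haff, hcov, fun a => ?_⟩
  · obtain ⟨𝔮, rfl⟩ := hsurj y
    let S₀ : S := Finset.univ.filter fun e => val e ∈ 𝔮.asIdeal
    let K := 𝔮.asIdeal.ResidueField
    let χ : D →+* K := algebraMap D K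
    let χ' : D ⧸ I S₀ →+* K := Ideal.Quotient.lift _ χ fun z hz => by
      refine (Ideal.span_le (I := RingHom.ker χ)).2 ?_ hz
      rintro _ ⟨e, he, rfl⟩
      exact Ideal.algebraMap_residueField_eq_zero.2 (Finset.mem_filter.1 he).2
    have hu : IsUnit (χ' (Ideal.Quotient.mk (I S₀) (hS S₀))) := by
      refine IsUnit.mk0 _ ?_
      rw [Ideal.Quotient.lift_mk, map_prod, Finset.prod_ne_zero_iff]
      intro e he h
      exact Finset.mem_compl.1 he
        (Finset.mem_filter.2 ⟨Finset.mem_univ _, Ideal.algebraMap_residueField_eq_zero.1 h⟩)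
    obtain ⟨z, hz⟩ := hpts S₀ K (IsLocalization.Away.lift (Ideal.Quotient.mk (I S₀) (hS S₀)) hu)
    refine ⟨z, ?_⟩
    rw [Scheme.Hom.comp_apply, hz]
    show PrimeSpectrum.comap (algebraMap A D) _ = PrimeSpectrum.comap (algebraMap A D) 𝔮
    congr 1
    refine PrimeSpectrum.ext ?_
    show RingHom.ker _ = 𝔮.asIdeal
    have e : (IsLocalization.Away.lift (Ideal.Quotient.mk (I S₀) (hS S₀)) hu).comp (f S₀) = χ := by
      rw [← RingHom.comp_assoc, IsLocalization.Away.lift_comp]
      exact Ideal.Quotient.lift_comp_mk _ _ _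
    rw [e]
    exact Ideal.ker_algebraMap_residueField _
  · obtain ⟨S₁, π, hπ⟩ := a
    obtain ⟨i, hi⟩ := (Finset.mem_filter.1 hπ).2
    refine ⟨(t i.1).m, fun o => x ⟨S₁, π, hπ⟩ (Function.update π i (some o)), fun k => ?_⟩
    have h := hxG ⟨S₁, π, hπ⟩ ⟨i, π, k⟩
    simp only [G, eval₂Hom_rename, eval₂Hom_map_hom] at h
    rw [cst_specMap]
    rw [show (x ⟨S₁, π, hπ⟩ ∘ Function.update π i) =
        fun o => o.elim 1 fun o => 1 * x ⟨S₁, π, hπ⟩ (Function.update π i (some o)) from
      funext fun o => by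
        rcases o with _ | o
        · show x ⟨S₁, π, hπ⟩ (Function.update π i none) = 1
          rw [← hi, Function.update_eq_self]
          exact hx1 ⟨S₁, π, hπ⟩
        · exact (one_mul _).symm, eval_hmg, one_pow, one_mul] at h
    exact h

end Groth.Agent.HTop50
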