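import Groth.Agent.HTop50.RootData

/-! A finite algebra carrying the root data. -/

set_option autoImplicit false
set_option linter.style.haveILetI false

universe u

open MvPolynomial

namespace Groth.Agent.HTop50

/-- The roots of a monic polynomial over an algebraically closed field, with multiplicity. -/
theorem exists_roots_fun {K : Type*} [Field K] [IsAlgClosed K] {p : Polynomial K} (hp : p.Monic)
    {d : ℕ} (hd : p.natDegree = d) :
    ∃ r : Fin d → K, p = ∏ j, (Polynomial.X - Polynomial.C (r j)) := by
  have hs : p.Splits := IsAlgClosed.splits p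
  have hlen : p.roots.toList.length = d := by
    rw [Multiset.length_toList, ← hd, hs.natDegree_eq_card_roots]
  have hp' : p = (p.roots.toList.map fun r => Polynomial.X - Polynomial.C r).prod := by
    conv_lhs => rw [hs.eq_prod_roots_of_monic hp]
    rw [← Multiset.prod_coe, ← Multiset.map_coe, Multiset.coe_toList]
  generalize p.roots.toList = l at hlen hp'
  subst hlen
  refine ⟨fun j => l.get j, hp'.trans ?_⟩
  rw [← Fin.prod_univ_fun_getElem]
  rfl

/-- A valuation ring inside a valuation ring with algebraically closed fraction field. -/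
theorem exists_dominating (V : Type u) [CommRing V] [IsDomain V] [ValuationRing V] :
    ∃ (K : Type u) (_ : Field K) (_ : IsAlgClosed K) (W : ValuationSubring K) (g : V →+* W),
      Function.Injective g ∧ IsLocalHom g := by
  let K := AlgebraicClosure (FractionRing V)
  let f : V →+* K := (algebraMap (FractionRing V) K).comp (algebraMap V _)
  have hf : Function.Injective f :=
    (algebraMap (FractionRing V) K).injective.comp (IsFractionRing.injective V _)
  obtain ⟨W, hW, hloc⟩ := IsLocalRing.exists_factor_valuationRing f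
  exact ⟨K, inferInstance, inferInstance, W, f.codRestrict W.toSubring hW,
    fun a b h => hf (congrArg Subtype.val h), hloc⟩

/-- Divisibility is reflected by local maps of valuation rings. -/
theorem dvd_of_map_dvd {V W : Type*} [CommRing V] [IsDomain V] [ValuationRing V] [CommRing W]
    [IsDomain W] (g : V →+* W) (hg : Function.Injective g) [IsLocalHom g] {a b : V} (ha : a ≠ 0)
    (h : g a ∣ g b) : a ∣ b := by
  rcases ValuationRing.dvd_total a b with hd | ⟨z, hz⟩
  · exact hd
  obtain ⟨w, hw⟩ := h
  have hga : g a ≠ 0 := fun h0 => ha (hg (by rw [h0, map_zero]))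
  have e : g z * w = 1 := by
    refine mul_left_cancel₀ hga ?_
    conv_rhs => rw [mul_one, hz, map_mul, hw]
    ring
  obtain ⟨u, hu⟩ := isUnit_of_map_unit g z (IsUnit.of_mul_eq_one w e)
  exact ⟨↑u⁻¹, by rw [hz, ← hu, mul_assoc, Units.mul_inv, mul_one]⟩

variable {A : Type u} [CommRing A]

/-- Data over a finite algebra. -/
structure AlgDatum {M : Type} (s : M → Sys A) (D : Type u) [CommRing D] [Algebra A D] where
  /-- the system -/
  m : M
  /-- the denominator -/
  den : D
  /-- the numerators -/
  num : Fin (s m).n → D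

/-- The homogenised equations of a datum. -/
noncomputable def AlgDatum.eqn {M : Type} {s : M → Sys A} {D : Type u} [CommRing D] [Algebra A D]
    (t : AlgDatum s D) (k : Fin (s t.m).r) : D :=
  eval₂Hom (algebraMap A D) (fun o => o.elim t.den t.num) (hmg ((s t.m).F k))

variable {M : Type} (s : M → Sys A)

set_option maxHeartbeats 1000000 in
-- algebra bookkeeping
/-- The root data live on a finite algebra with surjective spectrum. -/
theorem exists_root_algebra
    (hs : ∀ (V : Type u) [CommRing V] [IsDomain V] [ValuationRing V] [IsAlgClosed (FractionRing V)]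
      (φ : A →+* V), ∃ (m : M) (b : Fin (s m).n → V), ∀ k, eval₂Hom φ b ((s m).F k) = 0) :
    ∃ (D : Type u) (_ : CommRing D) (_ : Algebra A D) (_ : Module.Finite A D)
      (_ : Algebra.FinitePresentation A D) (T : Type u) (_ : Fintype T) (t : T → AlgDatum s D),
      Function.Surjective (PrimeSpectrum.comap (algebraMap A D)) ∧
      ∀ (V : Type u) [CommRing V] [IsDomain V] [ValuationRing V] (φ : D →+* V),
        ∃ i, φ (t i).den ≠ 0 ∧ (∀ k, φ (t i).den ∣ φ ((t i).num k)) ∧
          ∀ k, φ ((t i).eqn k) = 0 := by
  classical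
  obtain ⟨S, hS⟩ := exists_finite_data s hs
  let H : Finset {h : Polynomial A // h.Monic} :=
    S.biUnion fun t => Finset.univ.image fun i => (t.2.2 i).1
  let W := Σ h : H, Fin h.1.1.natDegree
  let E : H → Polynomial (MvPolynomial W A) := fun h =>
    h.1.1.map C - ∏ j, (Polynomial.X - Polynomial.C (X (⟨h, j⟩ : W)))
  let rel : Finset (MvPolynomial W A) := Finset.univ.biUnion fun h : H =>
    (E h).support.image fun k => (E h).coeff k
  let J : Ideal (MvPolynomial W A) := Ideal.span rel
  let D := MvPolynomial W A ⧸ J
  let π : MvPolynomial W A →ₐ[A] D := Ideal.Quotient.mkₐ A J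
  have hrel : ∀ h : H, h.1.1.map (algebraMap A D) =
      ∏ j, (Polynomial.X - Polynomial.C (π (X (⟨h, j⟩ : W)))) := by
    intro h
    have h0 : (E h).map π.toRingHom = 0 := by
      refine Polynomial.ext fun k => ?_
      rw [Polynomial.coeff_map, Polynomial.coeff_zero]
      by_cases hk : (E h).coeff k = 0
      · rw [hk, map_zero]
      · exact Ideal.Quotient.eq_zero_iff_mem.2 (Ideal.subset_span (Finset.mem_biUnion.2
          ⟨h, Finset.mem_univ _, Finset.mem_image.2 ⟨k, Polynomial.mem_support_iff.2 hk, rfl⟩⟩))
    simp only [E, Polynomial.map_sub, Polynomial.map_map, Polynomial.map_prod, Polynomial.map_X,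
      Polynomial.map_C, sub_eq_zero] at h0
    rw [← MvPolynomial.algebraMap_eq] at h0
    have : π.toRingHom.comp (algebraMap A (MvPolynomial W A)) = algebraMap A D := π.comp_algebraMap
    rw [this] at h0
    exact h0
  have hsurjπ : Function.Surjective π := Ideal.Quotient.mk_surjective
  have : Algebra.FinitePresentation A D :=
    Algebra.FinitePresentation.quotient (Submodule.fg_span rel.finite_toSet)
  have hint : ∀ w : W, IsIntegral A (π (X w)) := fun ⟨h, j⟩ => ⟨h.1.1, h.1.2, by
    rw [← Polynomial.eval_map, hrel h, Polynomial.eval_prod]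
    exact Finset.prod_eq_zero (Finset.mem_univ j) (by simp)⟩
  have : Module.Finite A D := by
    have htop : Algebra.adjoin A (Set.range fun w => π (X w)) = ⊤ := by
      rw [show (Set.range fun w => π (X w)) = π '' Set.range (X : W → MvPolynomial W A) from
        (Set.range_comp π X), ← AlgHom.map_adjoin, MvPolynomial.adjoin_range_X, Algebra.map_top]
      exact (AlgHom.range_eq_top _).2 hsurjπ
    refine Module.finite_def.2 ?_
    rw [← Algebra.top_toSubmodule, ← htop]
    exact fg_adjoin_of_finite (Set.finite_range _) (by rintro _ ⟨w, rfl⟩; exact hint w)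
  let toD : RootVar A → D := fun v =>
    if hv : v.1 ∈ H then π (X ⟨⟨v.1, hv⟩, v.2⟩) else 0
  refine ⟨D, inferInstance, inferInstance, inferInstance, inferInstance, S, inferInstance,
    fun i => ⟨i.1.1, algebraMap A D i.1.2.1, fun k => toD (i.1.2.2 k)⟩, fun p => ?_,
    fun V _ _ _ φ => ?_⟩
  · let K := AlgebraicClosure p.asIdeal.ResidueField
    let ψ : A →+* K := (algebraMap p.asIdeal.ResidueField K).comp (algebraMap A _)
    choose r hr using fun h : H => exists_roots_fun (h.1.2.map ψ) (h.1.2.natDegree_map ψ)
    let Φ : MvPolynomial W A →+* K := eval₂Hom ψ fun w => r w.1 w.2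
    have hJ : J ≤ RingHom.ker Φ := by
      rw [Ideal.span_le]
      intro x hx
      obtain ⟨h, -, hx⟩ := Finset.mem_biUnion.1 hx
      obtain ⟨k, -, rfl⟩ := Finset.mem_image.1 hx
      have : (E h).map Φ = 0 := by
        simp only [E, Polynomial.map_sub, Polynomial.map_map, Polynomial.map_prod, Polynomial.map_X,
          Polynomial.map_C, sub_eq_zero]
        rw [show Φ.comp C = ψ from RingHom.ext fun a => eval₂Hom_C _ _ a, hr h]
        exact Finset.prod_congr rfl fun j _ => by simp [Φ]
      show Φ ((E h).coeff k) = 0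
      rw [← Polynomial.coeff_map, this, Polynomial.coeff_zero]
    let Φ' : D →+* K := Ideal.Quotient.lift J Φ fun x hx => hJ hx
    refine ⟨⟨RingHom.ker Φ', RingHom.ker_isPrime Φ'⟩, PrimeSpectrum.ext ?_⟩
    show Ideal.comap (algebraMap A D) (RingHom.ker Φ') = p.asIdeal
    ext a
    rw [Ideal.mem_comap, RingHom.mem_ker,
      show Φ' (algebraMap A D a) = ψ a from eval₂Hom_C _ _ a]
    show algebraMap p.asIdeal.ResidueField K _ = 0 ↔ _
    rw [map_eq_zero, Ideal.algebraMap_residueField_eq_zero]
  · obtain ⟨K, _, _, Wv, g, hg, hgl⟩ := exists_dominating V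
    let ψ : A →+* K := Wv.subtype.comp (g.comp (φ.comp (algebraMap A D)))
    choose r hr using fun h : {h : Polynomial A // h.Monic} =>
      exists_roots_fun (h.2.map ψ) (h.2.natDegree_map ψ)
    have hrW : ∀ h j, r h j ∈ Wv := fun h j => by
      have hi : IsIntegral Wv (r h j) := by
        refine ⟨h.1.map (g.comp (φ.comp (algebraMap A D))), h.2.map _, ?_⟩
        rw [← Polynomial.eval_map, Polynomial.map_map, show (algebraMap Wv K).comp
          (g.comp (φ.comp (algebraMap A D))) = ψ from rfl, hr h, Polynomial.eval_prod]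
        exact Finset.prod_eq_zero (Finset.mem_univ j) (by simp)
      obtain ⟨w, hw⟩ := IsIntegrallyClosed.isIntegral_iff.1 hi
      rw [← hw]
      exact w.2
    let ρ : RootVar A → Wv := fun v =>
      if hv : v.1 ∈ H then g (φ (toD v)) else ⟨r v.1 v.2, hrW v.1 v.2⟩
    have hρ : IsRoots (g.comp (φ.comp (algebraMap A D))) ρ := by
      intro h
      by_cases hh : h ∈ H
      · have := congrArg (Polynomial.map (g.comp φ)) (hrel ⟨h, hh⟩)
        rw [Polynomial.map_map, Polynomial.map_prod, RingHom.comp_assoc] at this
        rw [this]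
        refine Finset.prod_congr rfl fun j _ => ?_
        simp [ρ, toD, hh]
      · refine Polynomial.map_injective Wv.subtype Subtype.val_injective ?_
        rw [Polynomial.map_map, Polynomial.map_prod, show Wv.subtype.comp
          (g.comp (φ.comp (algebraMap A D))) = ψ from rfl, hr h]
        refine Finset.prod_congr rfl fun j _ => ?_
        simp [ρ, hh]
    obtain ⟨t, htS, h1, h2, h3⟩ := hS Wv _ ρ hρ
    have hmem : ∀ i, (t.2.2 i).1 ∈ H := fun i =>
      Finset.mem_biUnion.2 ⟨t, htS, Finset.mem_image.2 ⟨i, Finset.mem_univ _, rfl⟩⟩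
    have hρt : ∀ i, ρ (t.2.2 i) = g (φ (toD (t.2.2 i))) := fun i => by
      simp only [ρ, dif_pos (hmem i)]
    have h1' : φ (algebraMap A D t.2.1) ≠ 0 := fun h0 => h1 (by
      show g (φ (algebraMap A D t.2.1)) = 0
      rw [h0, map_zero])
    refine ⟨⟨t, htS⟩, h1', fun i => ?_, fun k => ?_⟩
    · refine dvd_of_map_dvd g hg h1' ?_
      have := h2 i
      rw [hρt] at this
      exact this
    · apply hg
      rw [map_zero, ← RingHom.comp_apply, AlgDatum.eqn, ← RingHom.comp_apply (g.comp φ),
        comp_eval₂Hom, RingHom.comp_assoc, ← h3 k]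
      congr 2
      funext o
      rcases o with _ | i
      · rfl
      · exact (hρt i).symm

end Groth.Agent.HTop50
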