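import Mathlib

/-! A property of all valuation rings under a ring is witnessed by finitely many algebraic data:
an ultraproduct compactness argument. -/

set_option autoImplicit false
set_option linter.style.haveILetI false

universe u

open MvPolynomial Filter

namespace Groth.Agent.HTop50

variable {A : Type u} [CommRing A]

section Homog

variable {σ : Type*}

/-- The homogenisation of a polynomial, in one extra variable. -/
noncomputable def hmg (F : MvPolynomial σ A) : MvPolynomial (Option σ) A :=
  ∑ e ∈ F.support, C (F.coeff e) * X none ^ (F.totalDegree - e.degree) *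
    ∏ i ∈ e.support, X (some i) ^ e i

theorem isHomogeneous_hmg (F : MvPolynomial σ A) : (hmg F).IsHomogeneous F.totalDegree := by
  refine IsHomogeneous.sum _ _ _ fun e he => ?_
  have hle : e.degree ≤ F.totalDegree := le_totalDegree he
  have h1 : (∏ i ∈ e.support, (X (some i) : MvPolynomial (Option σ) A) ^ e i).IsHomogeneous e.degree :=
    IsHomogeneous.prod _ _ _ fun i _ => by
      simpa using (isHomogeneous_X A (some i)).pow (e i)
  have h2 : ((C (F.coeff e) : MvPolynomial (Option σ) A) *
      X none ^ (F.totalDegree - e.degree)).IsHomogeneous (F.totalDegree - e.degree) := by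
    simpa using (isHomogeneous_C (Option σ) (F.coeff e)).mul
      ((isHomogeneous_X A (none : Option σ)).pow (F.totalDegree - e.degree))
  have := h2.mul h1
  rwa [Nat.sub_add_cancel hle] at this

theorem eval_hmg {S : Type*} [CommRing S] (φ : A →+* S) (F : MvPolynomial σ A) (a : S) (b : σ → S) :
    eval₂Hom φ (fun o => o.elim a fun i => a * b i) (hmg F) =
      a ^ F.totalDegree * eval₂Hom φ b F := by
  conv_rhs => rw [coe_eval₂Hom, eval₂_eq, Finset.mul_sum]
  rw [hmg, map_sum]
  refine Finset.sum_congr rfl fun e he => ?_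
  have hle : e.degree ≤ F.totalDegree := le_totalDegree he
  simp only [map_mul, map_pow, map_prod, eval₂Hom_C, eval₂Hom_X', Option.elim_none,
    Option.elim_some, mul_pow, Finset.prod_mul_distrib, Finset.prod_pow_eq_pow_sum]
  rw [← Nat.sub_add_cancel hle, pow_add, Nat.sub_add_cancel hle, Finsupp.degree]
  ring!

end Homog

/-- A system of equations over `A`. -/
structure Sys (A : Type u) [CommRing A] where
  /-- the number of unknowns -/
  n : ℕ
  /-- the number of equations -/
  r : ℕ
  /-- the equations -/
  F : Fin r → MvPolynomial (Fin n) A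

/-- All names of roots of monic polynomials. -/
abbrev RootVar (A : Type u) [CommRing A] : Type u :=
  Σ h : {h : Polynomial A // h.Monic}, Fin h.1.natDegree

/-- An assignment of roots to the names. -/
def IsRoots {S : Type*} [CommRing S] (φ : A →+* S) (ρ : RootVar A → S) : Prop :=
  ∀ h : {h : Polynomial A // h.Monic},
    h.1.map φ = ∏ j, (Polynomial.X - Polynomial.C (ρ ⟨h, j⟩))

/-- A datum for a family of systems: a system, a denominator and root names for the numerators. -/
abbrev Datum {M : Type} (s : M → Sys A) : Type u := Σ m : M, A × (Fin (s m).n → RootVar A)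

/-- The datum gives an integral solution. -/
def Datum.Good {M : Type} {s : M → Sys A} {S : Type*} [CommRing S] (φ : A →+* S) (ρ : RootVar A → S)
    (t : Datum s) : Prop :=
  φ t.2.1 ≠ 0 ∧ (∀ i, φ t.2.1 ∣ ρ (t.2.2 i)) ∧
    ∀ k, eval₂Hom φ (fun o => o.elim (φ t.2.1) fun i => ρ (t.2.2 i)) (hmg ((s t.1).F k)) = 0

/-- An algebraic number over the image of `A` times a suitable element of `A` is a root of a monic. -/
theorem exists_monic_root {K : Type u} [Field K] (ψ : A →+* K) {n : ℕ} (b : Fin n → K)
    (halg : ∀ i, IsAlgebraic ψ.range (b i)) :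
    ∃ a : A, ψ a ≠ 0 ∧ ∀ i, ∃ h : Polynomial A, h.Monic ∧ Polynomial.eval₂ ψ (ψ a * b i) h = 0 := by
  choose y hy0 hy using fun i => (halg i).exists_integral_multiple
  obtain ⟨a, ha⟩ := (∏ i, y i : ψ.range).2
  refine ⟨a, ?_, fun i => ?_⟩
  · rw [ha]
    exact fun h0 => (Finset.prod_ne_zero_iff.2 fun i _ => hy0 i) (Subtype.ext h0)
  · have hint : IsIntegral ψ.range (ψ a * b i) := by
      rw [ha, ← Finset.mul_prod_erase _ _ (Finset.mem_univ i)]
      have : IsIntegral ψ.range ((∏ j ∈ Finset.univ.erase i, y j : ψ.range) • (y i • b i)) :=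
        (hy i).smul _
      convert this using 1
      simp only [Subring.smul_def, smul_eq_mul, MulMemClass.coe_mul]
      ring
    obtain ⟨p, hp, hpe⟩ := hint
    obtain ⟨q, hq, -, hqm⟩ := Polynomial.lifts_and_degree_eq_and_monic
      ((Polynomial.mem_lifts p).2 (Polynomial.map_surjective _ ψ.rangeRestrict_surjective p)) hp
    refine ⟨q, hqm, ?_⟩
    rw [← hq, Polynomial.eval₂_map] at hpe
    exact hpe

variable {M : Type} (s : M → Sys A)

set_option maxHeartbeats 1000000 in
-- ultraproduct bookkeeping
/-- If every valuation ring with algebraically closed fraction field under `A` solves one of the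
systems, finitely many data solve them over all valuation rings under `A`. -/
theorem exists_finite_data
    (hs : ∀ (V : Type u) [CommRing V] [IsDomain V] [ValuationRing V] [IsAlgClosed (FractionRing V)]
      (φ : A →+* V), ∃ (m : M) (b : Fin (s m).n → V), ∀ k, eval₂Hom φ b ((s m).F k) = 0) :
    ∃ D : Finset (Datum s), ∀ (V : Type u) [CommRing V] [IsDomain V] [ValuationRing V] (φ : A →+* V)
      (ρ : RootVar A → V), IsRoots φ ρ → ∃ t ∈ D, t.Good φ ρ := by
  classical
  by_contra! H
  choose V i1 i2 i3 φ ρ hρ hbad using H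
  let U : Ultrafilter (Finset (Datum s)) := Ultrafilter.of atTop
  have hU : ∀ t : Datum s, ∀ᶠ D : Finset (Datum s) in (U : Filter (Finset (Datum s))), t ∈ D := fun t =>
    (eventually_ge_atTop {t}).filter_mono (Ultrafilter.of_le atTop) |>.mono fun D hD =>
      Finset.singleton_subset_iff.1 hD
  let P := ∀ D, V D
  let I : Ideal P :=
    { carrier := {x | ∀ᶠ D in U, x D = 0}
      zero_mem' := Eventually.of_forall fun _ => rfl
      add_mem' := fun ha hb => by
        filter_upwards [ha, hb] with D h1 h2
        rw [Pi.add_apply, h1, h2, add_zero]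
      smul_mem' := fun c x hx => by
        filter_upwards [hx] with D h1
        rw [smul_eq_mul, Pi.mul_apply, h1, mul_zero] }
  have : I.IsPrime := ⟨fun h => by
      obtain ⟨D, hD⟩ := (show ∀ᶠ D in U, (1 : P) D = 0 from (Ideal.eq_top_iff_one _).1 h).exists
      exact one_ne_zero hD,
    fun {x y} hxy => Ultrafilter.eventually_or.1 (hxy.mono fun D hD => mul_eq_zero.1 hD)⟩
  let V' := P ⧸ I
  let π : P →+* V' := Ideal.Quotient.mk I
  have hπ : ∀ x, π x = 0 ↔ ∀ᶠ D in U, x D = 0 := fun x => Ideal.Quotient.eq_zero_iff_mem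
  have hπe : ∀ x y, π x = π y ↔ ∀ᶠ D in U, x D = y D := fun x y => by
    rw [← sub_eq_zero, ← map_sub, hπ]
    exact eventually_congr (Eventually.of_forall fun D => sub_eq_zero)
  have : IsDomain V' := Ideal.Quotient.isDomain I
  have : ValuationRing V' := by
    refine ValuationRing.iff_dvd_total.2 ⟨fun a b => ?_⟩
    obtain ⟨x, rfl⟩ := Ideal.Quotient.mk_surjective a
    obtain ⟨y, rfl⟩ := Ideal.Quotient.mk_surjective b
    have key : ∀ x y : P, (∀ᶠ D in U, x D ∣ y D) → π x ∣ π y := fun x y h => by
      refine ⟨π fun D => if hd : x D ∣ y D then hd.choose else 0, ?_⟩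
      rw [← map_mul, hπe]
      filter_upwards [h] with D hd
      show y D = x D * _
      beta_reduce
      rw [dif_pos hd]
      exact hd.choose_spec
    rcases Ultrafilter.eventually_or.1
      (Eventually.of_forall fun D => ValuationRing.dvd_total (x D) (y D)) with h | h
    · exact Or.inl (key x y h)
    · exact Or.inr (key y x h)
  let φP : A →+* P := RingHom.pi φ
  let φ' : A →+* V' := π.comp φP
  let ρP : RootVar A → P := fun v D => ρ D v
  let ρ' : RootVar A → V' := fun v => π (ρP v)
  have hρ' : IsRoots φ' ρ' := fun h => by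
    have e : h.1.map φP = ∏ j, (Polynomial.X - Polynomial.C (ρP ⟨h, j⟩)) := by
      refine Polynomial.ext fun k => funext fun D => ?_
      have hL := congrArg (fun p => p.coeff k) (hρ D h)
      rw [Polynomial.coeff_map] at hL ⊢
      rw [show φP (h.1.coeff k) D = φ D (h.1.coeff k) from rfl, hL]
      have : ((∏ j, (Polynomial.X - Polynomial.C (ρP ⟨h, j⟩))).map (Pi.evalRingHom V D)).coeff k =
          (∏ j, (Polynomial.X - Polynomial.C (ρP ⟨h, j⟩))).coeff k D := Polynomial.coeff_map _ _
      rw [← this, Polynomial.map_prod]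
      congr 1
      refine Finset.prod_congr rfl fun j _ => ?_
      simp [ρP]
    rw [← Polynomial.map_map, e, Polynomial.map_prod]
    exact Finset.prod_congr rfl fun j _ => by simp [ρ', π]
  -- a valuation ring with algebraically closed fraction field dominating `V'`
  let K := AlgebraicClosure (FractionRing V')
  let f : V' →+* K := (algebraMap (FractionRing V') K).comp (algebraMap V' _)
  have hf : Function.Injective f :=
    (algebraMap (FractionRing V') K).injective.comp (IsFractionRing.injective V' _)
  obtain ⟨W, hW, hloc⟩ := IsLocalRing.exists_factor_valuationRing f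
  let ψ : A →+* K := f.comp φ'
  let κ := FractionRing ψ.range
  let : Algebra κ K :=
    (IsFractionRing.lift (A := ψ.range) (K := κ) (g := ψ.range.subtype) Subtype.val_injective).toAlgebra
  have : IsScalarTower ψ.range κ K := IsScalarTower.of_algebraMap_eq fun x => by
    show ψ.range.subtype x = IsFractionRing.lift Subtype.val_injective (algebraMap ψ.range κ x)
    rw [IsFractionRing.lift_algebraMap]
  let E : IntermediateField κ K := algebraicClosure κ K
  have : IsAlgClosed E := (algebraicClosure.isAlgClosure κ K).isAlgClosed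
  let W' : ValuationSubring E := W.comap (algebraMap E K)
  have : IsAlgClosed (FractionRing W') :=
    IsAlgClosed.of_ringEquiv _ _ (FractionRing.algEquiv W' E).symm.toRingEquiv
  have hψE : ∀ a : A, ψ a ∈ E := fun a => by
    refine (mem_algebraicClosure_iff).2 ?_
    have : ψ a = algebraMap κ K (algebraMap ψ.range κ ⟨ψ a, a, rfl⟩) := by
      rw [← IsScalarTower.algebraMap_apply]; rfl
    rw [this]
    exact isAlgebraic_algebraMap _
  let ψE : A →+* E := ψ.codRestrict E hψE
  let ψW : A →+* W' := ψE.codRestrict W'.toSubring fun a => hW (φ' a)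
  obtain ⟨m, b, hb⟩ := hs W' ψW
  let bK : Fin (s m).n → K := fun i => ((b i : E) : K)
  have halg : ∀ i, IsAlgebraic ψ.range (bK i) := fun i =>
    (IsFractionRing.isAlgebraic_iff ψ.range κ K).2 (mem_algebraicClosure_iff.1 (b i : E).2)
  obtain ⟨a, ha0, hroot⟩ := exists_monic_root ψ bK halg
  choose h hh hhr using hroot
  have hσ : ∀ i, ∃ j, f (ρ' ⟨⟨h i, hh i⟩, j⟩) = ψ a * bK i := fun i => by
    have := congrArg (fun p => Polynomial.eval₂ f (ψ a * bK i) p) (hρ' ⟨h i, hh i⟩)
    simp only [Polynomial.eval₂_map, Polynomial.eval₂_finsetProd, Polynomial.eval₂_sub,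
      Polynomial.eval₂_X, Polynomial.eval₂_C] at this
    rw [show Polynomial.eval₂ (f.comp φ') (ψ a * bK i) (h i) = 0 from hhr i, eq_comm,
      Finset.prod_eq_zero_iff] at this
    obtain ⟨j, -, hj⟩ := this
    exact ⟨j, (sub_eq_zero.1 hj).symm⟩
  choose j hj using hσ
  let t : Datum s := ⟨m, a, fun i => ⟨⟨h i, hh i⟩, j i⟩⟩
  have ha' : φ' a ≠ 0 := fun h0 => ha0 (by rw [show ψ a = f (φ' a) from rfl, h0, map_zero])
  have hdvd : ∀ i, φ' a ∣ ρ' (t.2.2 i) := by
    intro i
    rcases ValuationRing.dvd_total (φ' a) (ρ' (t.2.2 i)) with hd | ⟨z, hz⟩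
    · exact hd
    have e : f z * bK i = 1 := by
      refine mul_left_cancel₀ ha0 ?_
      have h2 : ψ a = ψ a * bK i * f z := by
        conv_lhs => rw [show ψ a = f (φ' a) from rfl, hz, map_mul]
        rw [show f (ρ' (t.2.2 i)) = ψ a * bK i from hj i]
      rw [mul_one]
      conv_rhs => rw [h2]
      ring
    have hu : IsUnit (f.codRestrict W.toSubring hW z) :=
      IsUnit.of_mul_eq_one (⟨bK i, (b i).2⟩ : W) (Subtype.ext e)
    obtain ⟨u, hu'⟩ := isUnit_of_map_unit (f.codRestrict W.toSubring hW) z hu
    exact ⟨↑u⁻¹, by rw [hz, ← hu', mul_assoc, Units.mul_inv, mul_one]⟩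
  have hF : ∀ k, eval₂Hom φ' (fun o => o.elim (φ' a) fun i => ρ' (t.2.2 i)) (hmg ((s m).F k)) = 0 := by
    intro k
    apply hf
    rw [map_zero, ← RingHom.comp_apply, comp_eval₂Hom]
    have : (fun o : Option (Fin (s m).n) => f (o.elim (φ' a) fun i => ρ' (t.2.2 i))) =
        fun o => o.elim (ψ a) fun i => ψ a * bK i := by
      funext o
      rcases o with _ | i
      · rfl
      · exact hj i
    rw [this, show f.comp φ' = ψ from rfl, eval_hmg]
    have hbk : eval₂Hom ψ bK ((s m).F k) = 0 := by
      have := congrArg ((algebraMap E K).comp W'.subtype) (hb k)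
      rw [map_zero, ← RingHom.comp_apply, comp_eval₂Hom] at this
      exact this
    rw [hbk, mul_zero]
  -- transfer
  have e1 : ∀ᶠ D in U, φ D a ≠ 0 := Ultrafilter.eventually_not.2 fun h0 => ha' ((hπ (φP a)).2 h0)
  have e2 : ∀ᶠ D in U, ∀ i, φ D a ∣ ρ D (t.2.2 i) := by
    refine eventually_all.2 fun i => ?_
    obtain ⟨z, hz⟩ := hdvd i
    obtain ⟨z, rfl⟩ := Ideal.Quotient.mk_surjective z
    have hz' : π (ρP (t.2.2 i)) = π (φP a * z) := hz.trans (map_mul π (φP a) z).symm
    filter_upwards [(hπe _ _).1 hz'] with D hD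
    exact ⟨z D, hD⟩
  have e3 : ∀ᶠ D in U, ∀ k,
      eval₂Hom (φ D) (fun o => o.elim (φ D a) fun i => ρ D (t.2.2 i)) (hmg ((s m).F k)) = 0 := by
    refine eventually_all.2 fun k => ?_
    have h1 : π (eval₂Hom φP (fun o => o.elim (φP a) fun i => ρP (t.2.2 i)) (hmg ((s m).F k))) = 0 := by
      rw [← RingHom.comp_apply, comp_eval₂Hom, ← hF k]
      congr 2
      funext o
      rcases o with _ | i <;> rfl
    filter_upwards [(hπ _).1 h1] with D hD
    refine Eq.trans ?_ hD
    show _ = Pi.evalRingHom V D
      (eval₂Hom φP (fun o => o.elim (φP a) fun i => ρP (t.2.2 i)) (hmg ((s m).F k)))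
    rw [← RingHom.comp_apply, comp_eval₂Hom]
    congr 2
    funext o
    rcases o with _ | i <;> rfl
  obtain ⟨D, hD, h1, h2, h3⟩ := ((hU t).and (e1.and (e2.and e3))).exists
  exact hbad D t hD ⟨h1, h2, h3⟩

end Groth.Agent.HTop50
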