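import Groth.Agent.FCx40.Valuative
import Groth.Agent.Hensel20.DvrFamily
import Groth.Agent.Cohen12.Completion
import Groth.Agent.S0549
import Groth.Agent.HTop50.RootAlgebra
import Groth.Prelude.Def_HTop2
import Mathlib

/-! Pointwise values on seminormal Noetherian rings which vary along discrete valuation rings. -/

set_option autoImplicit false
set_option linter.style.haveILetI false

universe u

open IsLocalRing

namespace Groth.Agent.HTop50

/-- The completion of a discrete valuation ring. -/
theorem exists_complete_dvr (V : Type u) [CommRing V] [IsDomain V] [IsDiscreteValuationRing V] :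
    ∃ (R : Type u) (_ : CommRing R) (_ : IsDomain R) (_ : IsDiscreteValuationRing R)
      (_ : IsAdicComplete (maximalIdeal R) R) (g : V →+* R),
      Function.Injective g ∧ IsLocalHom g := by
  obtain ⟨hd, hdvr⟩ := (Groth.Agent.S0549.result V).1 ⟨inferInstance, inferInstance⟩
  let R := AdicCompletion (maximalIdeal V) V
  have := hd
  have := hdvr
  have hc := Cohen12.isAdicComplete_completion (A := V)
  have : Module.Flat V R := AdicCompletion.flat_of_isNoetherian _
  have hloc : IsLocalHom (algebraMap V R) := ⟨fun x hx => by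
    by_contra h
    have h1 : algebraMap V R x ∈ maximalIdeal R := by
      rw [AdicCompletion.maximalIdeal_eq_map]
      exact Ideal.mem_map_of_mem _ ((IsLocalRing.mem_maximalIdeal x).2 h)
    exact (IsLocalRing.mem_maximalIdeal _).1 h1 hx⟩
  have : Module.FaithfullyFlat V R := Module.FaithfullyFlat.of_flat_of_isLocalHom
  exact ⟨R, inferInstance, hd, hdvr, hc, algebraMap V R, FaithfulSMul.algebraMap_injective V R, hloc⟩

theorem isReduced_of_isSeminormalRing {A : Type u} [CommRing A] (hA : HTop.IsSeminormalRing A) :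
    IsReduced A := by
  rw [isReduced_iff_pow_one_lt 2 one_lt_two]
  intro x hx
  obtain ⟨a, -, hu⟩ := hA 0 0 (by simp)
  have h1 := hu x ⟨hx.symm, by rw [pow_succ, hx, zero_mul]⟩
  have h2 := hu 0 ⟨by simp, by simp⟩
  rw [h1, ← h2]

/-- Over a seminormal ring, an element of a reduced extension with square and cube in the ring lies
in the ring. -/
theorem mem_range_of_sq_cube {A C : Type u} [CommRing A] [CommRing C] [IsReduced C]
    (hA : HTop.IsSeminormalRing A) (g : A →+* C) (hg : Function.Injective g) {y : C}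
    (h2 : y ^ 2 ∈ g.range) (h3 : y ^ 3 ∈ g.range) : y ∈ g.range := by
  obtain ⟨x, hx⟩ := h2
  obtain ⟨z, hz⟩ := h3
  obtain ⟨a, ⟨ha2, ha3⟩, -⟩ := hA x z (hg (by rw [map_pow, map_pow, hx, hz, ← pow_mul, ← pow_mul]))
  refine ⟨a, ?_⟩
  have e2 : g a ^ 2 = y ^ 2 := by rw [← map_pow, ← ha2, hx]
  have e3 : g a ^ 3 = y ^ 3 := by rw [← map_pow, ← ha3, hz]
  have : (g a - y) ^ 3 = 0 := by
    linear_combination 4 * e3 - 3 * (g a + y) * e2
  exact sub_eq_zero.1 (IsReduced.eq_zero _ ⟨3, this⟩)

set_option maxHeartbeats 1000000 in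
-- ideal bookkeeping
/-- The conductor argument: a finite reduced extension of a seminormal Noetherian ring contains no
element with values in the residue fields of the ring. -/
theorem mem_range_of_seminormal {A C : Type u} [CommRing A] [CommRing C] [IsNoetherianRing A]
    [Algebra A C] [Module.Finite A C] [IsReduced C] (hA : HTop.IsSeminormalRing A)
    (hinj : Function.Injective (algebraMap A C)) (b : C) (hb : Algebra.adjoin A {b} = ⊤)
    (h : ∀ q : PrimeSpectrum A, ∃ d a : A, d ∉ q.asIdeal ∧ ∀ Q : PrimeSpectrum C,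
      PrimeSpectrum.comap (algebraMap A C) Q = q → algebraMap A C d * b - algebraMap A C a ∈ Q.asIdeal) :
    b ∈ (algebraMap A C).range := by
  classical
  by_contra hbA
  let g := algebraMap A C
  have : IsNoetherianRing C := IsNoetherianRing.of_finite A C
  let J : Ideal C :=
    { carrier := {c | ∀ x, c * x ∈ g.range}
      zero_mem' := fun x => by rw [zero_mul]; exact zero_mem _
      add_mem' := fun {c c'} hc hc' x => by rw [add_mul]; exact add_mem (hc x) (hc' x)
      smul_mem' := fun r c hc x => by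
        rw [smul_eq_mul, mul_comm r c, mul_assoc]; exact hc (r * x) }
  have hJsub : ∀ c ∈ J, c ∈ g.range := fun c hc => by simpa using hc 1
  have hJrad : J.IsRadical := by
    rw [Ideal.isRadical_iff_pow_one_lt 2 one_lt_two]
    intro c hc x
    refine mem_range_of_sq_cube hA g hinj ?_ ?_
    · rw [mul_pow]
      exact hc (x ^ 2)
    · rw [show (c * x) ^ 3 = c ^ 2 * (c * x ^ 3) by ring]
      exact hc (c * x ^ 3)
  let I : Ideal A := J.comap g
  have hI : I ≠ ⊤ := fun htop => hbA (by
    have h1 : (1 : C) ∈ J := by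
      rw [← map_one g, ← Ideal.mem_comap]
      exact (Ideal.eq_top_iff_one I).1 htop
    simpa using h1 b)
  obtain ⟨m, hm, hIm⟩ := Ideal.exists_le_maximal I hI
  obtain ⟨q, hq, -⟩ := Ideal.exists_minimalPrimes_le hIm
  have hqp : q.IsPrime := hq.1.1
  obtain ⟨d, a, hd, hy⟩ := h ⟨q, hqp⟩
  let S : Finset (Ideal C) := (Ideal.finite_minimalPrimes_of_isNoetherianRing C J).toFinset
  let S' := S.filter fun Q => ¬ Q.comap g ≤ q
  have he : ∀ Q ∈ S', ∃ e, e ∈ Q.comap g ∧ e ∉ q := fun Q hQ =>
    SetLike.not_le_iff_exists.1 (Finset.mem_filter.1 hQ).2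
  choose! e he1 he2 using he
  let E := ∏ Q ∈ S', e Q
  have hE : E ∉ q := fun hh => by
    obtain ⟨Q, hQ, hQe⟩ := (hqp.prod_mem_iff).1 hh
    exact he2 Q hQ hQe
  have hyJ : g E * (g d * b - g a) ∈ J := by
    rw [← hJrad.radical, ← Ideal.sInf_minimalPrimes, Ideal.mem_sInf]
    intro Q hQ
    by_cases hQq : Q.comap g ≤ q
    · have : Q.comap g = q := le_antisymm hQq (hq.2 ⟨hQ.1.1.comap g,
        Ideal.comap_mono hQ.1.2⟩ hQq)
      exact Ideal.mul_mem_left _ _ (hy ⟨Q, hQ.1.1⟩ (PrimeSpectrum.ext this))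
    · have hQS : Q ∈ S' := Finset.mem_filter.2 ⟨(Set.Finite.mem_toFinset _).2 hQ, hQq⟩
      refine Ideal.mul_mem_right _ _ ?_
      rw [map_prod]
      exact Ideal.prod_mem _ hQS (he1 Q hQS)
  have hf : g (E * d) * b ∈ g.range := by
    have := add_mem (hJsub _ hyJ) (⟨E * a, rfl⟩ : g (E * a) ∈ g.range)
    rwa [map_mul g E a, mul_sub, sub_add_cancel, ← mul_assoc, ← map_mul] at this
  -- a power of `E * d` is in the conductor
  have hpow : ∀ c : C, ∃ N, g ((E * d) ^ N) * c ∈ g.range := by
    intro c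
    have hc : c ∈ Algebra.adjoin A {b} := by rw [hb]; trivial
    induction hc using Algebra.adjoin_induction with
    | mem x hx =>
      rw [Set.mem_singleton_iff] at hx
      exact ⟨1, by rw [pow_one, hx]; exact hf⟩
    | algebraMap r => exact ⟨0, by rw [pow_zero, map_one, one_mul]; exact ⟨r, rfl⟩⟩
    | add x y _ _ hx hy =>
      obtain ⟨M, hM⟩ := hx
      obtain ⟨N, hN⟩ := hy
      refine ⟨M + N, ?_⟩
      rw [mul_add, pow_add, map_mul]
      refine add_mem ?_ ?_
      · rw [mul_comm (g _) (g _), mul_assoc]; exact mul_mem ⟨_, rfl⟩ hM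
      · rw [mul_assoc]; exact mul_mem ⟨_, rfl⟩ hN
    | mul x y _ _ hx hy =>
      obtain ⟨M, hM⟩ := hx
      obtain ⟨N, hN⟩ := hy
      refine ⟨M + N, ?_⟩
      rw [pow_add, map_mul, mul_mul_mul_comm]
      exact mul_mem hM hN
  choose N hN using hpow
  obtain ⟨s, hs⟩ := Module.finite_def.1 (inferInstance : Module.Finite A C)
  let M := s.sup N
  have hmem : (E * d) ^ M ∈ I := by
    rw [Ideal.mem_comap]
    intro x
    have hx : x ∈ Submodule.span A (s : Set C) := by rw [hs]; trivial
    induction hx using Submodule.span_induction with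
    | mem x hx =>
      rw [show M = (M - N x) + N x from (Nat.sub_add_cancel (Finset.le_sup (f := N) hx)).symm,
        pow_add, map_mul, mul_assoc]
      exact mul_mem ⟨_, rfl⟩ (hN x)
    | zero => rw [mul_zero]; exact zero_mem _
    | add x y _ _ hx hy => rw [mul_add]; exact add_mem hx hy
    | smul r x _ hx =>
      rw [Algebra.smul_def, mul_left_comm]
      exact mul_mem ⟨r, rfl⟩ hx
  rcases hqp.mem_or_mem (hqp.mem_of_pow_mem M (hq.1.2 hmem)) with h1 | h1
  · exact hE h1
  · exact hd h1

/-- Prescribed values at the points, varying along complete discrete valuation rings. -/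
def Varies {A : Type u} [CommRing A] (num den : PrimeSpectrum A → A) : Prop :=
  ∀ (R : Type u) [CommRing R] [IsDomain R] [IsDiscreteValuationRing R]
    [IsAdicComplete (maximalIdeal R) R] (φ : A →+* R), ∃ r : R, ∀ z : PrimeSpectrum R,
      φ (num (PrimeSpectrum.comap φ z)) - r * φ (den (PrimeSpectrum.comap φ z)) ∈ z.asIdeal

variable {A : Type u} [CommRing A] [IsNoetherianRing A] [IsReduced A]
  {num den : PrimeSpectrum A → A}

/-- A fraction with the prescribed values at the generic points. -/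
theorem exists_generic (hden : ∀ q, den q ∉ q.asIdeal) :
    ∃ s t : A, t ∈ nonZeroDivisors A ∧ ∀ p : PrimeSpectrum A, p.asIdeal ∈ minimalPrimes A →
      s * den p - num p * t ∈ p.asIdeal := by
  classical
  have hfin := minimalPrimes.finite_of_isNoetherianRing A
  let S := hfin.toFinset
  have hS : ∀ P ∈ S, P.IsPrime := fun P hP => ((Set.Finite.mem_toFinset _).1 hP).1.1
  have he : ∀ P ∈ S, ∃ e, e ∉ P ∧ ∀ P' ∈ S, P' ≠ P → e ∈ P' := by
    intro P hP
    have h1 : ∀ P' ∈ S.erase P, ∃ e ∈ P', e ∉ P := fun P' hP' => by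
      obtain ⟨hne, hP'S⟩ := Finset.mem_erase.1 hP'
      exact SetLike.not_le_iff_exists.1 fun hle => hne
        (le_antisymm hle (((Set.Finite.mem_toFinset _).1 hP).2 ((Set.Finite.mem_toFinset _).1 hP'S).1 hle))
    choose! e he1 he2 using h1
    refine ⟨∏ P' ∈ S.erase P, e P', fun hh => ?_, fun P' hP' hne => ?_⟩
    · have := hS P hP
      obtain ⟨P', hP', h'⟩ := (this.prod_mem_iff).1 hh
      exact he2 P' hP' h'
    · exact Ideal.prod_mem _ (Finset.mem_erase.2 ⟨hne, hP'⟩) (he1 P' (Finset.mem_erase.2 ⟨hne, hP'⟩))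
  choose e he1 he2 using he
  let pt : S → PrimeSpectrum A := fun P => ⟨P.1, hS P.1 P.2⟩
  let s := ∑ P : S, e P.1 P.2 * num (pt P)
  let t := ∑ P : S, e P.1 P.2 * den (pt P)
  have hmod : ∀ (c : S → A) (P : S),
      (∑ P' : S, e P'.1 P'.2 * c P') - e P.1 P.2 * c P ∈ P.1 := by
    intro c P
    rw [← Finset.sum_erase_eq_sub (Finset.mem_univ P)]
    exact Ideal.sum_mem _ fun P' hP' => Ideal.mul_mem_right _ _
      (he2 P'.1 P'.2 P.1 P.2 fun h => Finset.ne_of_mem_erase hP' (Subtype.ext h.symm))
  refine ⟨s, t, ?_, fun p hp => ?_⟩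
  · rw [mem_nonZeroDivisors_iff_right]
    intro x hx
    have hall : x ∈ (⊥ : Ideal A).radical := by
      rw [← Ideal.sInf_minimalPrimes, Ideal.mem_sInf]
      intro P hP
      have hPS : P ∈ S := (Set.Finite.mem_toFinset _).2 hP
      have := hS P hPS
      refine ((this.mem_or_mem (by rw [hx]; exact zero_mem _ : x * t ∈ P))).resolve_right fun ht => ?_
      have h1 := sub_mem ht (hmod (fun P => den (pt P)) ⟨P, hPS⟩)
      rw [sub_sub_cancel] at h1
      exact ((this.mem_or_mem h1).resolve_left (he1 P hPS) |> hden (pt ⟨P, hPS⟩))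
    rw [Ideal.isRadical_bot.radical] at hall
    exact hall
  · let P : S := ⟨p.asIdeal, (Set.Finite.mem_toFinset _).2 hp⟩
    have h1 := hmod (fun P => num (pt P)) P
    have h2 := hmod (fun P => den (pt P)) P
    have hpP : pt P = p := rfl
    rw [hpP] at h1 h2
    have := sub_mem (Ideal.mul_mem_right (den p) _ h1) (Ideal.mul_mem_left _ (num p) h2)
    convert this using 1
    ring

set_option maxHeartbeats 1000000 in
-- valuation bookkeeping
/-- The generic fraction is integral and has the prescribed values everywhere. -/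
theorem exists_integral_of_varies (hden : ∀ q, den q ∉ q.asIdeal) (hv : Varies num den) :
    ∃ b : FractionRing A, IsIntegral A b ∧
      ∀ (q : PrimeSpectrum A) (Q : PrimeSpectrum (Algebra.adjoin A {b})),
        PrimeSpectrum.comap (algebraMap A (Algebra.adjoin A {b})) Q = q →
          algebraMap A _ (den q) * ⟨b, Algebra.self_mem_adjoin_singleton A b⟩ - algebraMap A _ (num q) ∈
            Q.asIdeal := by
  classical
  obtain ⟨s, t, ht, hst⟩ := exists_generic (num := num) hden
  let b : FractionRing A := IsLocalization.mk' _ s ⟨t, ht⟩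
  let M := {p : PrimeSpectrum A // p.asIdeal ∈ minimalPrimes A}
  have : Finite M := by
    have := (minimalPrimes.finite_of_isNoetherianRing A).to_subtype
    exact Finite.of_injective (fun p : M => (⟨p.1.asIdeal, p.2⟩ : minimalPrimes A))
      fun p p' h => Subtype.ext (PrimeSpectrum.ext (congrArg Subtype.val h))
  have := Fintype.ofFinite M
  have htP : ∀ p : M, t ∉ p.1.asIdeal := fun p h =>
    Set.disjoint_left.1 (Ideal.disjoint_nonZeroDivisors_of_mem_minimalPrimes p.2) h ht
  have hK : ∀ p : M, ∀ x : nonZeroDivisors A,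
      IsUnit (algebraMap A p.1.asIdeal.ResidueField x) := fun p x =>
    IsUnit.mk0 _ fun h => Set.disjoint_left.1 (Ideal.disjoint_nonZeroDivisors_of_mem_minimalPrimes p.2)
      (Ideal.algebraMap_residueField_eq_zero.1 h) x.2
  let Φ : ∀ p : M, FractionRing A →+* p.1.asIdeal.ResidueField := fun p => IsLocalization.lift (hK p)
  have hΦ : ∀ p a, Φ p (algebraMap A _ a) = algebraMap A _ a := fun p a => IsLocalization.lift_eq _ a
  have hinj : ∀ x, (∀ p, Φ p x = 0) → x = 0 := by
    intro x hx
    obtain ⟨⟨a, c⟩, rfl⟩ := IsLocalization.mk'_surjective (nonZeroDivisors A) x |>.imp fun _ h => h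
    have ha : a ∈ (⊥ : Ideal A).radical := by
      rw [← Ideal.sInf_minimalPrimes, Ideal.mem_sInf]
      intro P hP
      have hPp : P.IsPrime := hP.1.1
      let p : M := ⟨⟨P, hPp⟩, hP⟩
      have := hx p
      rw [IsLocalization.lift_mk'_spec] at this
      rw [mul_zero] at this
      exact Ideal.algebraMap_residueField_eq_zero.1 this
    rw [Ideal.isRadical_bot.radical, Ideal.mem_bot] at ha
    subst ha
    exact IsLocalization.mk'_zero _
  have hΦb : ∀ p, Φ p b * algebraMap A _ t = algebraMap A _ s := fun p => by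
    rw [← hΦ p t, ← hΦ p s, ← map_mul, IsLocalization.mk'_spec]
  -- integrality
  have hint : ∀ p, IsIntegral A (Φ p b) := by
    intro p
    by_contra hni
    let A' := A ⧸ p.1.asIdeal
    let K := p.1.asIdeal.ResidueField
    have hni' : ¬ IsIntegral A' (Φ p b) := fun h => hni (isIntegral_trans (A := A') _ h)
    let 𝔞 : Ideal A' :=
      { carrier := {c | IsIntegral A' (algebraMap A' K c * Φ p b)}
        zero_mem' := by
          show IsIntegral A' _
          rw [map_zero, zero_mul]; exact isIntegral_zero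
        add_mem' := fun {c c'} hc hc' => by
          show IsIntegral A' _
          rw [map_add, add_mul]; exact IsIntegral.add hc hc'
        smul_mem' := fun r c hc => by
          show IsIntegral A' _
          rw [smul_eq_mul, map_mul, mul_assoc]; exact IsIntegral.mul isIntegral_algebraMap hc }
    have h𝔞 : 𝔞 ≠ ⊤ := fun h => hni' (by
      have : IsIntegral A' (algebraMap A' K 1 * Φ p b) := (Ideal.eq_top_iff_one 𝔞).1 h
      rwa [map_one, one_mul] at this)
    obtain ⟨m, hm, h𝔞m⟩ := Ideal.exists_le_maximal 𝔞 h𝔞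
    obtain ⟨V, hV, hmem, hbV⟩ := Hensel20.exists_dvr_not_mem (A := A') (L := K) m (Φ p b)
      fun c hc h => hc (h𝔞m h)
    have := hV
    obtain ⟨R, _, _, _, _, g, hg, hgl⟩ := exists_complete_dvr V
    let φ₀ : A →+* V := (algebraMap A K).codRestrict V.toSubring fun a => by
      rw [IsScalarTower.algebraMap_apply A A' K]; exact hmem _
    obtain ⟨r, hr⟩ := hv R (g.comp φ₀)
    have hz : PrimeSpectrum.comap (g.comp φ₀) ⟨⊥, Ideal.isPrime_bot⟩ = p.1 := by
      refine PrimeSpectrum.ext ?_
      ext a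
      show g (φ₀ a) ∈ (⊥ : Ideal R) ↔ _
      rw [Ideal.mem_bot, map_eq_zero_iff g hg]
      exact Iff.trans ⟨fun h => congrArg Subtype.val h, fun h => Subtype.ext h⟩
        Ideal.algebraMap_residueField_eq_zero
    have h0 := hr ⟨⊥, Ideal.isPrime_bot⟩
    rw [hz, Ideal.mem_bot, sub_eq_zero] at h0
    have hd0 : φ₀ (den p.1) ≠ 0 := fun h => hden p.1
      (Ideal.algebraMap_residueField_eq_zero.1 (congrArg Subtype.val h))
    obtain ⟨x, hx⟩ : φ₀ (den p.1) ∣ φ₀ (num p.1) :=
      dvd_of_map_dvd g hg hd0 ⟨r, by rw [← RingHom.comp_apply, ← RingHom.comp_apply, h0, mul_comm]⟩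
    refine hbV 1 (fun h => hm.ne_top ((Ideal.eq_top_iff_one m).2 h)) ?_
    rw [map_one, one_mul]
    have hxK : algebraMap A K (num p.1) = algebraMap A K (den p.1) * (x : K) := congrArg Subtype.val hx
    have hsK : algebraMap A K s * algebraMap A K (den p.1) =
        algebraMap A K (num p.1) * algebraMap A K t := by
      rw [← map_mul, ← map_mul, ← sub_eq_zero, ← map_sub]
      exact Ideal.algebraMap_residueField_eq_zero.2 (hst p.1 p.2)
    have hden0 : algebraMap A K (den p.1) ≠ 0 := fun h =>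
      hden p.1 (Ideal.algebraMap_residueField_eq_zero.1 h)
    have ht0 : algebraMap A K t ≠ 0 := fun h => htP p (Ideal.algebraMap_residueField_eq_zero.1 h)
    have : Φ p b = x := by
      refine mul_right_cancel₀ ht0 (mul_right_cancel₀ hden0 ?_)
      rw [hΦb, hsK, hxK]
      ring
    rw [this]
    exact x.2
  choose f hf hf0 using hint
  have hbint : IsIntegral A b := by
    refine ⟨∏ p, f p, Polynomial.monic_prod_of_monic _ _ fun p _ => hf p, hinj _ fun p => ?_⟩
    rw [Polynomial.hom_eval₂, show (Φ p).comp (algebraMap A _) = algebraMap A _ from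
      RingHom.ext (hΦ p), Polynomial.eval₂_finsetProd]
    exact Finset.prod_eq_zero (Finset.mem_univ p) (hf0 p)
  refine ⟨b, hbint, fun q Q hQ => ?_⟩
  let C := Algebra.adjoin A {b}
  let b' : C := ⟨b, Algebra.self_mem_adjoin_singleton A b⟩
  have : Module.Finite A C := Module.Finite.iff_fg.2 hbint.fg_adjoin_singleton
  have : IsNoetherianRing C := IsNoetherianRing.of_finite A C
  let Ψ : ∀ p : M, C →+* p.1.asIdeal.ResidueField := fun p => (Φ p).comp C.val.toRingHom
  have hΨt : ∀ p, Ψ p b' * algebraMap A _ t = algebraMap A _ s := hΦb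
  obtain ⟨p, -, hpQ⟩ : ∃ p ∈ (Finset.univ : Finset M), RingHom.ker (Ψ p) ≤ Q.asIdeal := by
    refine Ideal.IsPrime.inf_le' (P := Q.asIdeal) Q.isPrime |>.1 fun x hx => ?_
    have : x = 0 := Subtype.ext (hinj _ fun p =>
      (Finset.inf_le (f := fun p => RingHom.ker (Ψ p)) (Finset.mem_univ p) hx : x ∈ RingHom.ker (Ψ p)))
    rw [this]
    exact zero_mem _
  have hP : (RingHom.ker (Ψ p)).IsPrime := RingHom.ker_isPrime _
  have hcomap : PrimeSpectrum.comap (algebraMap A C) ⟨RingHom.ker (Ψ p), hP⟩ = p.1 := by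
    refine PrimeSpectrum.ext (Ideal.ext fun a => ?_)
    show Φ p (algebraMap A _ a) = 0 ↔ _
    rw [hΦ]
    exact Ideal.algebraMap_residueField_eq_zero
  have hgenb : algebraMap A C (den p.1) * b' - algebraMap A C (num p.1) ∈ RingHom.ker (Ψ p) := by
    rw [RingHom.mem_ker, map_sub, map_mul, sub_eq_zero]
    show Φ p (algebraMap A _ _) * Φ p b = Φ p (algebraMap A _ _)
    rw [hΦ, hΦ]
    have ht0 : algebraMap A p.1.asIdeal.ResidueField t ≠ 0 := fun h =>
      htP p (Ideal.algebraMap_residueField_eq_zero.1 h)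
    refine mul_right_cancel₀ ht0 ?_
    rw [mul_assoc, hΦb, mul_comm, ← map_mul, ← map_mul, ← sub_eq_zero, ← map_sub]
    exact Ideal.algebraMap_residueField_eq_zero.2 (hst p.1 p.2)
  by_cases heq : RingHom.ker (Ψ p) = Q.asIdeal
  · rw [show q = p.1 by rw [← hQ, ← hcomap]; congr 1; exact PrimeSpectrum.ext heq.symm, ← heq]
    exact hgenb
  -- connect by a discrete valuation ring
  let T := Localization.AtPrime Q.asIdeal
  have hdisj : Disjoint (Q.asIdeal.primeCompl : Set C) (RingHom.ker (Ψ p) : Ideal C) :=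
    Set.disjoint_left.2 fun x hx h => hx (hpQ h)
  let y : PrimeSpectrum T := ⟨(RingHom.ker (Ψ p)).map (algebraMap C T),
    IsLocalization.isPrime_of_isPrime_disjoint Q.asIdeal.primeCompl T _ hP hdisj⟩
  have hy : y.asIdeal.comap (algebraMap C T) = RingHom.ker (Ψ p) :=
    IsLocalization.under_map_of_isPrime_disjoint Q.asIdeal.primeCompl T hP hdisj
  have : IsNoetherianRing T := IsLocalization.isNoetherianRing Q.asIdeal.primeCompl T inferInstance
  obtain ⟨B, _, _, _, _, hk1, hk2⟩ := FCx40.exists_dvr_algebra (A := T) y fun h => heq (by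
    rw [← hy]
    exact (congrArg (Ideal.comap (algebraMap C T)) h).trans
      (IsLocalization.AtPrime.under_maximalIdeal T Q.asIdeal))
  obtain ⟨R, _, _, _, _, g, hg, hgl⟩ := exists_complete_dvr B
  let φ : C →+* R := g.comp ((algebraMap T B).comp (algebraMap C T))
  have hφ0 : ∀ x, φ x = 0 ↔ x ∈ RingHom.ker (Ψ p) := fun x => by
    rw [← hy, Ideal.mem_comap, ← hk1, RingHom.mem_ker]
    exact map_eq_zero_iff g hg
  have hφm : ∀ x, φ x ∈ maximalIdeal R ↔ x ∈ Q.asIdeal := fun x => by
    rw [← IsLocalization.AtPrime.to_map_mem_maximal_iff T Q.asIdeal x, ← hk2]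
    simp only [φ, RingHom.mem_ker, RingHom.comp_apply, IsLocalRing.residue_eq_zero_iff,
      IsLocalRing.mem_maximalIdeal, mem_nonunits_iff]
    exact not_congr ⟨fun h => isUnit_of_map_unit g _ h, fun h => h.map g⟩
  obtain ⟨r, hr⟩ := hv R (φ.comp (algebraMap A C))
  have e0 : PrimeSpectrum.comap (φ.comp (algebraMap A C)) ⟨⊥, Ideal.isPrime_bot⟩ = p.1 := by
    rw [← hcomap]
    refine PrimeSpectrum.ext (Ideal.ext fun a => ?_)
    exact Ideal.mem_bot.trans (hφ0 _)
  have e1 : PrimeSpectrum.comap (φ.comp (algebraMap A C)) (closedPoint R) = q := by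
    rw [← hQ]
    exact PrimeSpectrum.ext (Ideal.ext fun a => hφm _)
  have h0 := hr ⟨⊥, Ideal.isPrime_bot⟩
  rw [e0, Ideal.mem_bot, sub_eq_zero] at h0
  have h0' : φ (algebraMap A C (den p.1)) * φ b' = φ (algebraMap A C (num p.1)) := by
    rw [← sub_eq_zero, ← map_mul, ← map_sub, hφ0]
    exact hgenb
  have hd0 : φ (algebraMap A C (den p.1)) ≠ 0 := fun h => hden p.1 (by
    have := (hφ0 _).1 h
    exact (congrArg (fun z : PrimeSpectrum A => den p.1 ∈ z.asIdeal) hcomap).mp this)
  have hrb : r = φ b' := by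
    refine mul_left_cancel₀ hd0 ?_
    rw [h0', mul_comm]
    exact h0.symm
  have h1 := hr (closedPoint R)
  rw [e1, hrb] at h1
  rw [← hφm, map_sub, map_mul]
  have h1' := (maximalIdeal R).neg_mem h1
  rw [neg_sub, mul_comm] at h1'
  exact h1'

end Groth.Agent.HTop50
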