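import Groth.Agent.E4O.GenOpen
import Groth.Agent.E4O.DvrCrit
import Groth.Prelude.Def_SGA1

/-! Universally submersive morphisms lift specializations up to generization. -/

set_option autoImplicit false
set_option linter.style.haveILetI false

universe u

open CategoryTheory CategoryTheory.Limits AlgebraicGeometry Topology

namespace Groth.Agent.HTop50

/-- In a locally Noetherian scheme a point of the closure of an open set is a specialization of one
of its points. -/
theorem exists_specializes_of_mem_closure_open {P : Scheme.{u}} [IsLocallyNoetherian P]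
    (O : P.Opens) {p : P} (hp : p ∈ closure (O : Set P)) : ∃ q ∈ O, q ⤳ p := by
  refine E4O.exists_specializes_of_mem_closure_isLocallyConstructible ?_ hp
  refine IsRetrocompact.isLocallyConstructible O.2 fun U hU hUo => ?_
  have h : (O : Set P) ∩ U = O.ι '' (O.ι ⁻¹' U) := by
    rw [Set.image_preimage_eq_inter_range, Scheme.Opens.range_ι, Set.inter_comm]
  rw [h]
  exact (O.ι.isCompact_preimage (U := ⟨U, hUo⟩) hU).image O.ι.continuous

/-- Over a discrete valuation ring a universally submersive morphism from a locally Noetherian scheme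
has a point over the generic point specializing to a point over the closed point. -/
theorem exists_specializes_of_isQuotientMap {A : Type u} [CommRing A] [IsDomain A]
    [IsDiscreteValuationRing A] {P : Scheme.{u}} [IsLocallyNoetherian P]
    (q : P ⟶ Spec (CommRingCat.of A)) (hq : IsQuotientMap q) :
    ∃ ξ u : P, ξ ⤳ u ∧ q ξ = genericPoint (Spec (CommRingCat.of A)) ∧
      q u = IsLocalRing.closedPoint A := by
  let γ := genericPoint (Spec (CommRingCat.of A))
  let c : Spec (CommRingCat.of A) := IsLocalRing.closedPoint A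
  have hne : γ ≠ c := E4O.genericPoint_ne_closedPoint
  have hgen : ({γ} : Set (Spec (CommRingCat.of A))) = {c}ᶜ := by
    ext s
    constructor
    · rintro rfl
      exact hne
    · intro hs
      exact (E4O.eq_closedPoint_or_eq_genericPoint s).resolve_left hs
  have hopen : IsOpen ({γ} : Set (Spec (CommRingCat.of A))) := by
    rw [hgen, isOpen_compl_iff]
    exact IsLocalRing.isClosed_singleton_closedPoint A
  let O : P.Opens := ⟨q ⁻¹' {γ}, hopen.preimage q.continuous⟩
  have hnc : ¬ IsClosed (O : Set P) := fun h => by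
    have hcl : IsClosed ({γ} : Set (Spec (CommRingCat.of A))) := hq.isClosed_preimage.1 h
    have : c ∈ closure ({γ} : Set (Spec (CommRingCat.of A))) :=
      specializes_iff_mem_closure.1 (genericPoint_specializes c)
    rw [hcl.closure_eq] at this
    exact hne this.symm
  obtain ⟨p, hp, hpO⟩ : ∃ p ∈ closure (O : Set P), p ∉ (O : Set P) := by
    by_contra h
    push Not at h
    exact hnc (isClosed_of_closure_subset h)
  obtain ⟨ξ, hξ, hξp⟩ := exists_specializes_of_mem_closure_open O hp
  exact ⟨ξ, p, hξp, hξ, (E4O.eq_closedPoint_or_eq_genericPoint (q p)).resolve_right hpO⟩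

/-- A universally submersive morphism locally of finite type to a locally Noetherian scheme lifts a
specialization to a specialization of some preimages. -/
theorem exists_specializes_lift {Y X : Scheme.{u}} [IsLocallyNoetherian X] (f : Y ⟶ X)
    [LocallyOfFiniteType f] (hf : SGA1.UnivSubmersive f) {η x : X} (h : η ⤳ x) :
    ∃ ξ u : Y, ξ ⤳ u ∧ f ξ = η ∧ f u = x := by
  by_cases hne : η = x
  · subst hne
    obtain ⟨v, hv⟩ := (hf (𝟙 Y) (𝟙 X) f (IsPullback.of_vert_isIso ⟨by simp⟩)).surjective η
    exact ⟨v, v, specializes_rfl, hv, hv⟩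
  obtain ⟨V, hV, g, hgc, hgg, -⟩ := E4O.exists_dvr_hom h hne (X.residueField η)
    (IntermediateField.fg_top _ _)
  let q := pullback.fst g f
  have : IsNoetherianRing V := inferInstance
  have : IsLocallyNoetherian (pullback g f) := LocallyOfFiniteType.isLocallyNoetherian q
  obtain ⟨ξ, v, hs, hξ, hv⟩ := exists_specializes_of_isQuotientMap q
    (hf (pullback.snd g f) g q (IsPullback.of_hasPullback g f))
  refine ⟨pullback.snd g f ξ, pullback.snd g f v, hs.map (pullback.snd g f).continuous, ?_, ?_⟩
  · rw [← Scheme.Hom.comp_apply, ← pullback.condition, Scheme.Hom.comp_apply, hξ, hgg]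
  · rw [← Scheme.Hom.comp_apply, ← pullback.condition, Scheme.Hom.comp_apply, hv, hgc]

/-- Every point is a specialization of the generic point of an irreducible component. -/
theorem exists_component_specializes {X : Scheme.{u}} (x : X) :
    ∃ η : X, η ⤳ x ∧ closure {η} ∈ irreducibleComponents ↥X := by
  obtain ⟨T, hT, hsub⟩ :=
    exists_mem_irreducibleComponents_subset_of_isIrreducible ({x} : Set X) isIrreducible_singleton
  obtain ⟨η, hη⟩ := QuasiSober.sober hT.1 (isClosed_of_mem_irreducibleComponents T hT)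
  exact ⟨η, hη.specializes (hsub rfl), by rw [show closure {η} = T from hη]; exact hT⟩

/-- A specialization in a coproduct happens in one of the summands. -/
theorem exists_specializes_sigma {ι : Type u} {Y : ι → Scheme.{u}} {ξ v : ↥(∐ Y)} (h : ξ ⤳ v) :
    ∃ (i : ι) (ξ' v' : Y i), ξ' ⤳ v' ∧ Sigma.ι Y i ξ' = ξ ∧ Sigma.ι Y i v' = v := by
  obtain ⟨i, v', hv'⟩ := (sigmaOpenCover Y).exists_eq v
  have ho : IsOpen (Set.range (Sigma.ι Y i)) := (Sigma.ι Y i).isOpenEmbedding.isOpen_range
  obtain ⟨ξ', hξ'⟩ := h.mem_open ho ⟨v', hv'⟩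
  exact ⟨i, ξ', v', (Sigma.ι Y i).isOpenEmbedding.isInducing.specializes_iff.1
    (show Sigma.ι Y i ξ' ⤳ Sigma.ι Y i v' from hξ'.symm ▸ hv'.symm ▸ h), hξ', hv'⟩

theorem exists_specializes_over_maximal {X : Scheme.{u}} [IsLocallyNoetherian X]
    (E : PreZeroHypercover.{u} X) [∀ i, LocallyOfFiniteType (E.f i)]
    (hE : SGA1.UnivSubmersive (Sigma.desc E.f)) (x : X) :
    ∃ (i : E.I₀) (ξ u : E.X i), ξ ⤳ u ∧ E.f i u = x ∧
      closure {E.f i ξ} ∈ irreducibleComponents ↥X := by
  obtain ⟨η, hη, hcomp⟩ := exists_component_specializes x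
  have : LocallyOfFiniteType (Sigma.desc E.f) :=
    IsZariskiLocalAtSource.sigmaDesc fun i => ‹∀ i, LocallyOfFiniteType (E.f i)› i
  obtain ⟨ξ, v, hs, hξ, hv⟩ := exists_specializes_lift (Sigma.desc E.f) hE hη
  obtain ⟨i, ξ', v', hs', rfl, rfl⟩ := exists_specializes_sigma hs
  have hd : ∀ z, Sigma.desc E.f (Sigma.ι E.X i z) = E.f i z := fun z => by
    rw [← Scheme.Hom.comp_apply, Sigma.ι_desc]
  refine ⟨i, ξ', v', hs', by rw [← hd]; exact hv, ?_⟩
  rw [← hd, hξ]
  exact hcomp

end Groth.Agent.HTop50
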