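import Groth.Agent.HTop50.Submersive
import Groth.Agent.HTop50.Family
import Groth.Agent.S1454
import Mathlib.AlgebraicGeometry.Limits

/-! Universally submersive quasi-finite families over geometrically unibranch schemes. -/

set_option autoImplicit false
set_option linter.style.haveILetI false

universe u

open CategoryTheory CategoryTheory.Limits AlgebraicGeometry

namespace Groth.Agent.HTop50

variable {X : Scheme.{u}} [AlgebraicGeometry.IsNoetherian X] [IrreducibleSpace ↥X]
  (hX : ∀ x : X, CAlg2.IsGeomUnibranch (X.presheaf.stalk x)) (E : PreZeroHypercover.{u} X)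
  [Finite E.I₀] [∀ i, LocallyOfFiniteType (E.f i)] [∀ i, QuasiCompact (E.f i)]
  [∀ i, LocallyQuasiFinite (E.f i)] [∀ i, IrreducibleSpace ↥(E.X i)]

omit [AlgebraicGeometry.IsNoetherian X] [Finite E.I₀] [∀ i, LocallyOfFiniteType (E.f i)] [∀ i, QuasiCompact (E.f i)]
  [∀ i, LocallyQuasiFinite (E.f i)] [∀ i, IrreducibleSpace ↥(E.X i)] in
/-- A member whose image contains the generic point is dominant. -/
theorem isDominant_of_maximal {i : E.I₀} (ξ : E.X i)
    (h : closure {E.f i ξ} ∈ irreducibleComponents ↥X) : IsDominant (E.f i) := by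
  rw [irreducibleComponents_eq_singleton, Set.mem_singleton_iff] at h
  refine ⟨fun x => closure_mono (s := {E.f i ξ}) ?_ (h ▸ Set.mem_univ x)⟩
  rintro _ rfl
  exact ⟨ξ, rfl⟩

omit [Finite E.I₀] [∀ i, QuasiCompact (E.f i)] in
include hX in
theorem universallyOpen_of_dominant (i : E.I₀) [IsDominant (E.f i)] : UniversallyOpen (E.f i) := by
  refine Groth.Agent.S1454.result (E.f i) hX fun Z hZ x hx => ?_
  rw [irreducibleComponents_eq_singleton, Set.mem_singleton_iff] at hZ
  subst hZ
  refine ⟨Set.univ, by rw [irreducibleComponents_eq_singleton]; rfl, ?_⟩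
  rw [isGenericPoint_def, Set.eq_univ_iff_forall]
  intro y
  have hd : DenseRange (E.f i) := (E.f i).denseRange
  refine closure_minimal ?_ isClosed_closure (hd y)
  rintro _ ⟨u, rfl⟩
  exact specializes_iff_mem_closure.1 ((hx.specializes (Set.mem_univ u)).map (E.f i).continuous)

include hX in
/-- The criterion. -/
theorem univSubmersive_iff_dominant_cover :
    (SGA1.UnivSubmersive (Sigma.desc E.f) ↔
        ∀ x : X, ∃ (i : E.I₀) (u : E.X i), IsDominant (E.f i) ∧ E.f i u = x) ∧
      ((∀ x : X, ∃ (i : E.I₀) (u : E.X i), IsDominant (E.f i) ∧ E.f i u = x) →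
        SGA1.UnivSubmersive (Sigma.desc fun j : {i : E.I₀ // IsDominant (E.f i)} => E.f j.1)) := by
  have hB : (∀ x : X, ∃ (i : E.I₀) (u : E.X i), IsDominant (E.f i) ∧ E.f i u = x) →
      SGA1.UnivSubmersive (Sigma.desc fun j : {i : E.I₀ // IsDominant (E.f i)} => E.f j.1) := by
    intro hcov
    let d : (∐ fun j : {i : E.I₀ // IsDominant (E.f i)} => E.X j.1) ⟶ X :=
      Sigma.desc fun j : {i : E.I₀ // IsDominant (E.f i)} => E.f j.1
    have hUO : UniversallyOpen d := IsZariskiLocalAtSource.sigmaDesc (P := @UniversallyOpen)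
      fun j => (have := j.2; universallyOpen_of_dominant hX E j.1)
    have : Surjective d := ⟨fun x => by
      obtain ⟨i, u, hi, hu⟩ := hcov x
      refine ⟨Sigma.ι (fun j : {i : E.I₀ // IsDominant (E.f i)} => E.X j.1) ⟨i, hi⟩ u, ?_⟩
      rw [← Scheme.Hom.comp_apply, Sigma.ι_desc]
      exact hu⟩
    intro P T i₁ i₂ f' sq
    have : UniversallyOpen f' := MorphismProperty.of_isPullback (P := @UniversallyOpen) sq.flip hUO
    have : Surjective f' := MorphismProperty.of_isPullback (P := @Surjective) sq.flip inferInstance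
    exact IsOpenMap.isQuotientMap f'.isOpenMap f'.continuous f'.surjective
  refine ⟨⟨fun hE x => ?_, fun hcov => ?_⟩, hB⟩
  · obtain ⟨i, ξ, u, -, hu, hmax⟩ := exists_specializes_over_maximal E hE x
    exact ⟨i, u, isDominant_of_maximal E ξ hmax, hu⟩
  · let E' : PreZeroHypercover.{u} X :=
      { I₀ := {i : E.I₀ // IsDominant (E.f i)}, X := fun j => E.X j.1, f := fun j => E.f j.1 }
    have : Finite E'.I₀ := inferInstanceAs (Finite {i : E.I₀ // IsDominant (E.f i)})
    have : ∀ j, LocallyOfFiniteType (E'.f j) := fun j => ‹∀ i, LocallyOfFiniteType (E.f i)› j.1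
    have : ∀ j, QuasiCompact (E'.f j) := fun j => ‹∀ i, QuasiCompact (E.f i)› j.1
    have h' := (univSubmersive_iff_isHCover E').1 (hB hcov)
    refine (univSubmersive_iff_isHCover E).2 ⟨fun i => lfp_of_lft (E.f i), ?_⟩
    exact isVCover_of_refines (G := E') (fun k => ⟨k.1, 𝟙 _, Category.id_comp _⟩) h'.2

end Groth.Agent.HTop50
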