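import Groth.Agent.HTop50.RootAlgebra
import Mathlib

/-! Solvability over all valuation rings descends to a finitely generated subring. -/

set_option autoImplicit false
set_option linter.style.haveILetI false

universe u

open MvPolynomial Filter

namespace Groth.Agent.HTop50

/-- A valuation ring in which every monic polynomial of positive degree has a root has an
algebraically closed fraction field. -/
theorem isAlgClosed_of_monic_roots {V : Type u} [CommRing V] [IsDomain V] [ValuationRing V]
    (h : ∀ p : Polynomial V, p.Monic → 0 < p.natDegree → ∃ x, p.IsRoot x) :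
    IsAlgClosed (FractionRing V) := by
  let K := FractionRing V
  refine IsAlgClosed.of_exists_root _ fun p hpm hpi => ?_
  obtain ⟨c, hc⟩ := IsLocalization.exist_integer_multiples (nonZeroDivisors V) p.support p.coeff
  -- scale the variable
  have hd : 0 < p.natDegree := hpi.natDegree_pos
  have hlift : p.scaleRoots (algebraMap V K c) ∈ Polynomial.lifts (algebraMap V K) := by
    rw [Polynomial.lifts_iff_coeff_lifts]
    intro k
    rw [Polynomial.coeff_scaleRoots]
    by_cases hk : k ∈ p.support
    · rcases Nat.lt_or_ge k p.natDegree with hlt | hge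
      · obtain ⟨v, hv⟩ := hc k hk
        refine ⟨v * (c : V) ^ (p.natDegree - k - 1), ?_⟩
        rw [map_mul, map_pow, hv, Algebra.smul_def, mul_comm (algebraMap V K c) (p.coeff k),
          mul_assoc, ← pow_succ', show p.natDegree - k - 1 + 1 = p.natDegree - k by omega]
      · have : k = p.natDegree := le_antisymm (Polynomial.le_natDegree_of_mem_supp k hk) hge
        exact ⟨1, by rw [this, Nat.sub_self, pow_zero, mul_one, map_one, hpm.coeff_natDegree]⟩
    · exact ⟨0, by rw [Polynomial.notMem_support_iff.1 hk, zero_mul, map_zero]⟩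
  obtain ⟨q, hq, hqd, hqm⟩ := Polynomial.lifts_and_natDegree_eq_and_monic hlift
    ((Polynomial.monic_scaleRoots_iff _).2 hpm)
  obtain ⟨x, hx⟩ := h q hqm (by rw [hqd, Polynomial.natDegree_scaleRoots]; exact hd)
  have hc0 : algebraMap V K c ≠ 0 := (IsLocalization.map_units K c).ne_zero
  refine ⟨algebraMap V K x / algebraMap V K c, ?_⟩
  have h1 : (p.scaleRoots (algebraMap V K c)).IsRoot (algebraMap V K x) := by
    rw [← hq, Polynomial.IsRoot.def, Polynomial.eval_map, Polynomial.eval₂_hom, hx, map_zero]
  rw [Polynomial.IsRoot.def,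
    show algebraMap V K x = algebraMap V K c * (algebraMap V K x / algebraMap V K c) from
      (mul_div_cancel₀ _ hc0).symm, Polynomial.scaleRoots_eval_mul, mul_eq_zero] at h1
  exact h1.resolve_left (pow_ne_zero _ hc0)

variable {A : Type u} [CommRing A] {M : Type} {A₀ : Subring A} (σ : M → Sys A₀)

set_option maxHeartbeats 1000000 in
-- ultraproduct bookkeeping
/-- The descent. -/
theorem exists_subring_valuative
    (hs : ∀ (V : Type u) [CommRing V] [IsDomain V] [ValuationRing V] [IsAlgClosed (FractionRing V)]
      (φ : A →+* V), ∃ (m : M) (b : Fin (σ m).n → V), ∀ k,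
        eval₂Hom (φ.comp A₀.subtype) b ((σ m).F k) = 0) :
    ∃ F : Finset A, ∀ (V : Type u) [CommRing V] [IsDomain V] [ValuationRing V]
      [IsAlgClosed (FractionRing V)] (φ : (A₀ ⊔ Subring.closure (F : Set A) : Subring A) →+* V),
      ∃ (m : M) (b : Fin (σ m).n → V), ∀ k,
        eval₂Hom (φ.comp (Subring.inclusion le_sup_left)) b ((σ m).F k) = 0 := by
  classical
  by_contra! H
  choose V i1 i2 i3 i4 φ hbad using H
  let U : Ultrafilter (Finset A) := Ultrafilter.of atTop
  have hU : ∀ a : A, ∀ᶠ F : Finset A in (U : Filter (Finset A)),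
      a ∈ (A₀ ⊔ Subring.closure (F : Set A) : Subring A) := fun a =>
    (eventually_ge_atTop {a}).filter_mono (Ultrafilter.of_le atTop) |>.mono fun F hF =>
      (le_sup_right : Subring.closure (F : Set A) ≤ _)
        (Subring.subset_closure (Finset.singleton_subset_iff.1 hF))
  let P := ∀ F, V F
  let I : Ideal P :=
    { carrier := {x | ∀ᶠ F in U, x F = 0}
      zero_mem' := Eventually.of_forall fun _ => rfl
      add_mem' := fun ha hb => by
        filter_upwards [ha, hb] with F h1 h2
        rw [Pi.add_apply, h1, h2, add_zero]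
      smul_mem' := fun c x hx => by
        filter_upwards [hx] with F h1
        rw [smul_eq_mul, Pi.mul_apply, h1, mul_zero] }
  have : I.IsPrime := ⟨fun h => by
      obtain ⟨F, hF⟩ := (show ∀ᶠ F in U, (1 : P) F = 0 from (Ideal.eq_top_iff_one _).1 h).exists
      exact one_ne_zero hF,
    fun {x y} hxy => Ultrafilter.eventually_or.1 (hxy.mono fun F hF => mul_eq_zero.1 hF)⟩
  let V' := P ⧸ I
  let π : P →+* V' := Ideal.Quotient.mk I
  have hπ : ∀ x, π x = 0 ↔ ∀ᶠ F in U, x F = 0 := fun x => Ideal.Quotient.eq_zero_iff_mem
  have hπe : ∀ x y, π x = π y ↔ ∀ᶠ F in U, x F = y F := fun x y => by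
    rw [← sub_eq_zero, ← map_sub, hπ]
    exact eventually_congr (Eventually.of_forall fun F => sub_eq_zero)
  have : IsDomain V' := Ideal.Quotient.isDomain I
  have : ValuationRing V' := by
    refine ValuationRing.iff_dvd_total.2 ⟨fun a b => ?_⟩
    obtain ⟨x, rfl⟩ := Ideal.Quotient.mk_surjective a
    obtain ⟨y, rfl⟩ := Ideal.Quotient.mk_surjective b
    have key : ∀ x y : P, (∀ᶠ F in U, x F ∣ y F) → π x ∣ π y := fun x y h => by
      refine ⟨π fun F => if hd : x F ∣ y F then hd.choose else 0, ?_⟩
      rw [← map_mul, hπe]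
      filter_upwards [h] with F hd
      show y F = x F * _
      beta_reduce
      rw [dif_pos hd]
      exact hd.choose_spec
    rcases Ultrafilter.eventually_or.1
      (Eventually.of_forall fun F => ValuationRing.dvd_total (x F) (y F)) with h | h
    · exact Or.inl (key x y h)
    · exact Or.inr (key y x h)
  have : IsAlgClosed (FractionRing V') := by
    refine isAlgClosed_of_monic_roots fun p hpm hpd => ?_
    obtain ⟨q, hq, hqd, hqm⟩ := Polynomial.lifts_and_natDegree_eq_and_monic
      ((Polynomial.mem_lifts p).2 (Polynomial.map_surjective π Ideal.Quotient.mk_surjective p)) hpm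
    let qF : ∀ F, Polynomial (V F) := fun F => q.map (Pi.evalRingHom V F)
    have hroot : ∀ F, ∃ x, (qF F).IsRoot x := fun F => by
      have hmF : (qF F).Monic := hqm.map _
      obtain ⟨z, hz⟩ := IsAlgClosed.exists_root ((qF F).map (algebraMap (V F) (FractionRing (V F))))
        (Polynomial.degree_ne_of_natDegree_ne (n := 0) (by
          rw [hmF.natDegree_map, hqm.natDegree_map]
          omega))
      have hint : IsIntegral (V F) z := ⟨qF F, hmF, by rwa [← Polynomial.eval_map]⟩
      obtain ⟨x, rfl⟩ := IsIntegrallyClosed.isIntegral_iff.1 hint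
      refine ⟨x, IsFractionRing.injective (V F) (FractionRing (V F)) ?_⟩
      rw [map_zero, ← Polynomial.eval₂_hom, ← Polynomial.eval_map]
      exact hz
    choose x hx using hroot
    refine ⟨π x, ?_⟩
    rw [Polynomial.IsRoot.def, ← hq, Polynomial.eval_map, Polynomial.eval₂_hom, hπ]
    refine Eventually.of_forall fun F => ?_
    have := hx F
    rw [Polynomial.IsRoot.def, Polynomial.eval_map,
      show x F = Pi.evalRingHom V F x from rfl, Polynomial.eval₂_hom] at this
    exact this
  let val : A → P := fun a F =>
    if h : a ∈ (A₀ ⊔ Subring.closure (F : Set A) : Subring A) then φ F ⟨a, h⟩ else 0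
  have hval : ∀ (F : Finset A) (a : A) (h : a ∈ (A₀ ⊔ Subring.closure (F : Set A) : Subring A)), val a F = φ F ⟨a, h⟩ :=
    fun F a h => dif_pos h
  let φ' : A →+* V' :=
    { toFun := fun a => π (val a)
      map_one' := by
        rw [← map_one π, hπe]
        exact Eventually.of_forall fun F => by
          simp only [val, dif_pos (one_mem _)]
          exact map_one (φ F)
      map_mul' := fun a b => by
        rw [← map_mul, hπe]
        filter_upwards [hU a, hU b] with F ha hb
        rw [Pi.mul_apply, hval F a ha, hval F b hb, hval F (a * b) (mul_mem ha hb)]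
        exact map_mul (φ F) ⟨a, ha⟩ ⟨b, hb⟩
      map_zero' := by
        rw [← map_zero π, hπe]
        exact Eventually.of_forall fun F => by
          simp only [val, dif_pos (zero_mem _)]
          exact map_zero (φ F)
      map_add' := fun a b => by
        rw [← map_add, hπe]
        filter_upwards [hU a, hU b] with F ha hb
        rw [Pi.add_apply, hval F a ha, hval F b hb, hval F (a + b) (add_mem ha hb)]
        exact map_add (φ F) ⟨a, ha⟩ ⟨b, hb⟩ }
  obtain ⟨m, b, hb⟩ := hs V' φ'
  choose bl hbl using fun i => Ideal.Quotient.mk_surjective (b i)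
  let φP : A₀ →+* P :=
    RingHom.pi fun F => (φ F).comp (Subring.inclusion le_sup_left)
  have e : ∀ k, π (eval₂Hom φP bl ((σ m).F k)) = 0 := fun k => by
    rw [← RingHom.comp_apply, comp_eval₂Hom, ← hb k]
    congr 1
    have h1 : π.comp φP = φ'.comp A₀.subtype := RingHom.ext fun a => by
      show π (φP a) = π (val a)
      congr 1
      funext F
      simp only [val, dif_pos ((le_sup_left : A₀ ≤ A₀ ⊔ Subring.closure (F : Set A)) a.2)]
      rfl
    rw [h1, show (fun i => π (bl i)) = b from funext hbl]
  obtain ⟨F, hF⟩ := (eventually_all.2 fun k => (hπ _).1 (e k)).exists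
  obtain ⟨k, hk⟩ := hbad F m fun i => bl i F
  apply hk
  refine Eq.trans ?_ (hF k)
  show _ = Pi.evalRingHom V F (eval₂Hom φP bl ((σ m).F k))
  rw [← RingHom.comp_apply, comp_eval₂Hom]
  rfl

end Groth.Agent.HTop50
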